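import Groth.Agent.CycLib.StalkSES
import Groth.Agent.H23.ClosedPushLen
import Groth.Agent.HilbPoly.Poly
import Groth.Prelude.Def_ClSub2

/-!
# Decomposition of additive invariants along the components of the support

An additive invariant of coherent modules which kills modules of dimension `< d` is, on modules of dimension
`≤ d`, the sum over the points `ξ` with `dim closure {ξ} = d` of the length at `ξ` times its value on the
reduced closed subscheme `closure {ξ}`.
-/

set_option linter.style.haveILetI false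
set_option backward.isDefEq.respectTransparency false
set_option backward.isDefEq.respectTransparency.types false

universe u v

open CategoryTheory CategoryTheory.Limits AlgebraicGeometry TopologicalSpace

noncomputable section

namespace Groth.Agent.VarBase

open Groth.Agent.HilbPoly

variable {X : Scheme.{u}}

/-- The reduced ideal of the closure of a point. -/
abbrev clIdeal (ξ : X) : X.IdealSheafData :=
  Scheme.IdealSheafData.vanishingIdeal (⟨closure ({ξ} : Set X), isClosed_closure⟩ : Closeds X)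

theorem range_clIdeal (ξ : X) : Set.range (clIdeal ξ).subschemeι = closure {ξ} := by
  rw [Scheme.IdealSheafData.range_subschemeι, Scheme.IdealSheafData.coe_support_vanishingIdeal]
  rfl

theorem support_quotMod_subset (D : X.IdealSheafData) :
    CohB1.support (ClSub.quotMod D) ⊆ (D.support : Set X) :=
  (Scheme.IdealSheafData.range_subschemeι D) ▸ QCoh.support_push_subset D.subschemeι QCoh.isQCoh_structureModule

theorem dim_support_quotMod_le (D : X.IdealSheafData) :
    topologicalKrullDim ↥(CohB1.support (ClSub.quotMod D)) ≤ topologicalKrullDim ↥(D.support : Set X) :=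
  H23.TopDim.dim_le_dim_of_subset (support_quotMod_subset D)

theorem isCoh_quot [IsNoetherian X] (D : X.IdealSheafData) : Coh.IsCoh (ClSub.quotMod D) :=
  QCoh.isCoh_push_structure D.subschemeι

/-- The length of a module at a point, as a natural number. -/
abbrev lenAt (F : X.Modules) (ξ : X) : ℕ :=
  (Module.length (X.presheaf.stalk ξ) (F.presheaf.stalk ξ)).toNat

theorem dim_nonneg_of_nonempty {T : Set X} (h : T.Nonempty) : (0 : WithBot ℕ∞) ≤ topologicalKrullDim ↥T := by
  obtain ⟨x, hx⟩ := h
  haveI : Nonempty (IrreducibleCloseds ↥T) :=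
    ⟨⟨closure {⟨x, hx⟩}, isIrreducible_singleton.closure, isClosed_closure⟩⟩
  exact Order.krullDim_nonneg

/-- A point of dimension `d` in a closed set of dimension `≤ d` has no other generization in it. -/
theorem eq_of_specializes_of_dim [IsNoetherian X] {T : Set X} (hT : IsClosed T) {d : ℕ}
    (hd : topologicalKrullDim ↥T ≤ (d : WithBot ℕ∞)) {x ξ : X} (hxT : x ∈ T) (h : x ⤳ ξ)
    (hξ : topologicalKrullDim ↥(closure ({ξ} : Set X)) = (d : WithBot ℕ∞)) : x = ξ := by
  by_contra hne
  have hx : topologicalKrullDim ↥(closure ({x} : Set X)) ≤ (d : WithBot ℕ∞) :=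
    (H23.TopDim.dim_le_dim_of_subset (hT.closure_subset_iff.2 (Set.singleton_subset_iff.2 hxT))).trans hd
  have h1 := dim_lt_closure hx isClosed_closure
    (isClosed_closure.closure_subset_iff.2 (Set.singleton_subset_iff.2 (specializes_iff_mem_closure.1 h)))
    (fun hm => hne ((specializes_iff_mem_closure.2 hm).antisymm h).eq.symm)
  exact h1.ne hξ

theorem length_ne_top [IsNoetherian X] {F : X.Modules} (hF : Coh.IsCoh F) {d : ℕ}
    (hd : topologicalKrullDim ↥(CohB1.support F) ≤ (d : WithBot ℕ∞)) {ξ : X}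
    (hξ : topologicalKrullDim ↥(closure ({ξ} : Set X)) = (d : WithBot ℕ∞)) :
    Module.length (X.presheaf.stalk ξ) (F.presheaf.stalk ξ) ≠ ⊤ :=
  (CycLib.length_stalk_lt_top F hF fun x hx hxξ => eq_of_specializes_of_dim
    (QCoh.isClosed_support_of_isFT hF.1 hF.2) hd (show x ∈ CohB1.support F from
      not_subsingleton_iff_nontrivial.2 hx) hxξ hξ).ne

theorem lenAt_add [IsNoetherian X] {S : ShortComplex X.Modules} (hS : S.ShortExact) (h₁ : Coh.IsCoh S.X₁)
    (h₂ : Coh.IsCoh S.X₂) (h₃ : Coh.IsCoh S.X₃) {d : ℕ}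
    (hd : topologicalKrullDim ↥(CohB1.support S.X₂) ≤ (d : WithBot ℕ∞)) {ξ : X}
    (hξ : topologicalKrullDim ↥(closure ({ξ} : Set X)) = (d : WithBot ℕ∞)) :
    lenAt S.X₂ ξ = lenAt S.X₁ ξ + lenAt S.X₃ ξ := by
  have e := CycLib.length_stalk_shortExact hS h₁.1 h₂.1 h₃.1 ξ
  have hfin := length_ne_top h₂ hd hξ
  rw [e] at hfin
  have hlt := WithTop.add_ne_top.1 hfin
  rw [lenAt, e, ENat.toNat_add hlt.1 hlt.2]

theorem lenAt_eq_zero {F : X.Modules} {ξ : X} (h : ξ ∉ CohB1.support F) : lenAt F ξ = 0 := by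
  haveI : Subsingleton (F.presheaf.stalk ξ) := not_not.1 h
  rw [lenAt, Module.length_eq_zero]
  rfl

theorem lenAt_push_structure [IsNoetherian X] {Z : Scheme.{u}} (i : Z ⟶ X) [IsClosedImmersion i] [IsIntegral Z] :
    lenAt ((Coh.push i).obj (Coh.structureModule Z)) (i (genericPoint Z)) = 1 := by
  rw [lenAt, H23.ClosedPushLen.length_stalk, H23.ClosedPushLen.length_structureModule]
  haveI : IsSimpleModule (Z.presheaf.stalk (genericPoint Z)) (Z.presheaf.stalk (genericPoint Z)) :=
    isSimpleModule_self_iff_isUnit.2 ⟨inferInstance, fun r hr => (isUnit_iff_ne_zero (G₀ := Z.functionField)).2 hr⟩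
  rw [Module.length_eq_one]
  rfl

theorem finite_top_points [IsNoetherian X] {F : X.Modules} (hF : Coh.IsCoh F) {d : ℕ}
    (hd : topologicalKrullDim ↥(CohB1.support F) ≤ (d : WithBot ℕ∞)) :
    {ξ : X | topologicalKrullDim ↥(closure ({ξ} : Set X)) = (d : WithBot ℕ∞) ∧ ξ ∈ CohB1.support F}.Finite := by
  let T := CohB1.support F
  have hT : IsClosed T := QCoh.isClosed_support_of_isFT hF.1 hF.2
  haveI : QuasiSober ↥T := hT.isClosedEmbedding_subtypeVal.quasiSober
  haveI : NoetherianSpace ↥T := inferInstance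
  let S : Set ↥T := Subtype.val ⁻¹' {ξ : X | topologicalKrullDim ↥(closure ({ξ} : Set X)) = (d : WithBot ℕ∞)}
  have h : ((fun ξ : ↥T => closure ({ξ} : Set ↥T)) '' S).Finite := by
    refine (NoetherianSpace.finite_irreducibleComponents (α := ↥T)).subset ?_
    rintro _ ⟨⟨ξ, hξT⟩, hξ, rfl⟩
    refine ⟨isIrreducible_singleton.closure, fun Z hZ hle => ?_⟩
    obtain ⟨η, hη⟩ := QuasiSober.sober hZ.closure isClosed_closure
    have hηξ : η ⤳ (⟨ξ, hξT⟩ : ↥T) := hη.specializes (subset_closure (hle (subset_closure rfl)))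
    have he : (η : X) = ξ := eq_of_specializes_of_dim hT hd η.2 (hηξ.map continuous_subtype_val) hξ
    have he' : η = ⟨ξ, hξT⟩ := Subtype.ext he
    rw [← he']
    show Z ⊆ closure ({η} : Set ↥T)
    rw [hη.def]
    exact subset_closure
  have h' : S.Finite := h.of_finite_image fun a _ b _ e => by
    have ha : a ⤳ b := specializes_iff_mem_closure.2 ((e.ge : _) (subset_closure rfl))
    have hb : b ⤳ a := specializes_iff_mem_closure.2 ((e.le : _) (subset_closure rfl))
    exact (ha.antisymm hb).eq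
  exact (h'.image Subtype.val).subset fun ξ hξ => ⟨⟨ξ, hξ.2⟩, hξ.1, rfl⟩

variable {A : Type v} [AddCommGroup A]

open Classical in
/-- The sum over the components of dimension `d`. -/
def compSum (d : ℕ) (Ψ : X.Modules → A) (F : X.Modules) : A :=
  ∑ᶠ ξ : X, if topologicalKrullDim ↥(closure ({ξ} : Set X)) = (d : WithBot ℕ∞) then
    lenAt F ξ • Ψ (ClSub.quotMod (clIdeal ξ)) else 0

/-- The decomposition. -/
theorem eq_compSum [IsNoetherian X] (Ψ : X.Modules → A)
    (hiso : ∀ M N : X.Modules, Nonempty (M ≅ N) → Ψ M = Ψ N) (d : ℕ)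
    (hadd : ∀ S : ShortComplex X.Modules, S.ShortExact → Coh.IsCoh S.X₁ → Coh.IsCoh S.X₂ → Coh.IsCoh S.X₃ →
      Ψ S.X₂ = Ψ S.X₁ + Ψ S.X₃)
    (hsmall : ∀ M : X.Modules, Coh.IsCoh M → topologicalKrullDim ↥(CohB1.support M) < (d : WithBot ℕ∞) → Ψ M = 0)
    {F : X.Modules} (hF : Coh.IsCoh F) (hd : topologicalKrullDim ↥(CohB1.support F) ≤ (d : WithBot ℕ∞)) :
    Ψ F = compSum d Ψ F := by
  classical
  have hempty : ∀ M : X.Modules, IsZero M → Coh.IsQCoh M → CohB1.support M = ∅ := fun M h hM =>
    QCoh.support_eq_empty_of_isZero h hM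
  have hsum0 : ∀ M : X.Modules, (∀ ξ : X, topologicalKrullDim ↥(closure ({ξ} : Set X)) = (d : WithBot ℕ∞) →
      ξ ∉ CohB1.support M) → compSum d Ψ M = 0 := fun M h => by
    refine finsum_eq_zero_of_forall_eq_zero fun ξ => ?_
    split_ifs with hξ
    · rw [lenAt_eq_zero (h ξ hξ), zero_smul]
    · rfl
  suffices H : Coh.IsCoh F → Ψ F = compSum d Ψ F from H hF
  refine QCoh.devissage (fun M => Coh.IsCoh M → Ψ M = compSum d Ψ M) ?_ ?_ (CohB1.support F) ?_ ?_ ?_ hF subset_rfl
  · intro M N ⟨e⟩ h hN
    have hM : Coh.IsCoh M := QCoh.isCoh_of_mono e.hom hN ((QCoh.isQCoh_iff_iso e).2 hN.1)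
    rw [← hiso M N ⟨e⟩, h hM]
    refine finsum_congr fun ξ => ?_
    split_ifs
    · exact congrArg (fun n : ℕ∞ => n.toNat • _) (((DerSch.stalkFunctor X ξ).mapIso e).toLinearEquiv).length_eq
    · rfl
  · intro M hM hMc
    rw [hsum0 M fun ξ _ hξ => by rw [hempty M hM hMc.1] at hξ; exact hξ,
      hsmall M hMc (by
        rw [hempty M hM hMc.1]
        haveI : IsEmpty (IrreducibleCloseds ↥(∅ : Set X)) :=
          ⟨fun s => s.2.1.ne_empty (Set.eq_empty_of_isEmpty s.1)⟩
        rw [topologicalKrullDim, Order.krullDim_eq_bot_iff.2 ‹_›]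
        exact WithBot.bot_lt_coe _)]
  · intro S hS h₁ h₂ h₃ hs e₁ e₃ _
    have hd₂ := (H23.TopDim.dim_le_dim_of_subset hs).trans hd
    rw [hadd S hS h₁ h₂ h₃, e₁ h₁, e₃ h₃, compSum, compSum, compSum, ← finsum_add_distrib]
    · refine finsum_congr fun ξ => ?_
      split_ifs with hξ
      · rw [lenAt_add hS h₁ h₂ h₃ hd₂ hξ, add_smul]
      · rw [add_zero]
    all_goals
      refine (finite_top_points h₂ hd₂).subset fun ξ hξ => ?_
      simp only [Function.mem_support, ne_eq, ite_eq_right_iff, Classical.not_imp] at hξ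
      refine ⟨hξ.1, ?_⟩
      haveI := hS.mono_f
      haveI := hS.epi_g
      by_contra hh
      refine hξ.2 ?_
      rw [lenAt_eq_zero, zero_smul]
      first
        | exact fun h => hh (QCoh.mem_support_of_mono h₁.1 h₂.1 S.f h)
        | exact fun h => hh (QCoh.support_of_epi h₂.1 h₃.1 S.g h)
  · intro ξ hξs _ Z i _ _ hr _
    have hξd : topologicalKrullDim ↥(closure ({ξ} : Set X)) ≤ (d : WithBot ℕ∞) :=
      (H23.TopDim.dim_le_dim_of_subset hξs).trans hd
    have hM := QCoh.isCoh_push_structure i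
    have hMs : CohB1.support ((Coh.push i).obj (Coh.structureModule Z)) ⊆ closure {ξ} :=
      hr ▸ QCoh.support_push_subset i QCoh.isQCoh_structureModule
    rcases hξd.lt_or_eq with hlt | heq
    · rw [hsmall _ hM ((H23.TopDim.dim_le_dim_of_subset hMs).trans_lt hlt), hsum0]
      intro ζ hζ hζM
      exact ((H23.TopDim.dim_le_dim_of_subset (isClosed_closure.closure_subset_iff.2
        (Set.singleton_subset_iff.2 (hMs hζM)))).trans_lt hlt).ne hζ
    · have hξZ : i (genericPoint Z) = ξ :=
        ((show Specializes (i (genericPoint Z)) ξ from specializes_iff_mem_closure.2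
          ((QCoh.range_eq_closure i).le (hr.ge (subset_closure rfl)))).antisymm
        (specializes_iff_mem_closure.2 (hr.le ⟨_, rfl⟩))).eq
      rw [compSum, finsum_eq_single _ ξ]
      · have hred : IsReduced (clIdeal ξ).subscheme := inferInstance
        rw [if_pos heq, show lenAt _ ξ = 1 from hξZ ▸ lenAt_push_structure i, one_smul]
        exact hiso _ _ (QCoh.push_structure_iso (clIdeal ξ).subschemeι i (by rw [range_clIdeal, hr]))
      · intro ζ hne
        split_ifs with hζ
        · rw [lenAt_eq_zero, zero_smul]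
          intro hζM
          exact hne (eq_of_specializes_of_dim isClosed_closure hξd (subset_closure rfl)
            (specializes_iff_mem_closure.2 (hMs hζM)) hζ).symm
        · rfl
  · intro S hS h₁ h₂ h₃ hs e₂ e₃ _
    have hd₂ := (H23.TopDim.dim_le_dim_of_subset hs).trans hd
    have h := hadd S hS h₁ h₂ h₃
    rw [e₂ h₂, e₃ h₃, compSum, compSum] at h
    rw [compSum]
    refine add_right_cancel (b := ∑ᶠ ξ : X, if topologicalKrullDim ↥(closure ({ξ} : Set X)) = (d : WithBot ℕ∞) then
      lenAt S.X₃ ξ • Ψ (ClSub.quotMod (clIdeal ξ)) else 0) (h.symm.trans ?_)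
    rw [← finsum_add_distrib]
    · refine finsum_congr fun ξ => ?_
      split_ifs with hξ
      · rw [lenAt_add hS h₁ h₂ h₃ hd₂ hξ, add_smul]
      · rw [add_zero]
    all_goals
      refine (finite_top_points h₂ hd₂).subset fun ξ hξ => ?_
      simp only [Function.mem_support, ne_eq, ite_eq_right_iff, Classical.not_imp] at hξ
      refine ⟨hξ.1, ?_⟩
      haveI := hS.mono_f
      haveI := hS.epi_g
      by_contra hh
      refine hξ.2 ?_
      rw [lenAt_eq_zero, zero_smul]
      first
        | exact fun h => hh (QCoh.mem_support_of_mono h₁.1 h₂.1 S.f h)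
        | exact fun h => hh (QCoh.support_of_epi h₂.1 h₃.1 S.g h)

end Groth.Agent.VarBase
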