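import Groth.Agent.VarBase.Decomp
import Groth.Agent.PnCoh.PushNat
import Groth.Agent.KFlatLib.Scheme.ProjModule
import Groth.Agent.Snapper.Multi
import Groth.Agent.PicClLib.Basic

/-!
# Euler characteristics of twists on a closed subscheme
-/

set_option linter.style.haveILetI false
set_option backward.isDefEq.respectTransparency false
set_option backward.isDefEq.respectTransparency.types false

universe u

open CategoryTheory CategoryTheory.Limits AlgebraicGeometry TopologicalSpace

noncomputable section

namespace Groth.Agent.VarBase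

variable {X Z : Scheme.{u}} (i : Z ⟶ X)

/-- Pullback commutes with tensor powers. -/
theorem nonempty_pullback_tensorPow (L : X.Modules) : ∀ n : ℕ,
    Nonempty ((Scheme.Modules.pullback i).obj (CohB1.tensorPow L n) ≅
      CohB1.tensorPow ((Scheme.Modules.pullback i).obj L) n)
  | 0 => ⟨(PicClLib.nonempty_pullback_structureModule i).some⟩
  | n + 1 => by
    obtain ⟨e⟩ := nonempty_pullback_tensorPow L n
    exact ⟨((KFlatLib.pullTensorBiIso i).app (CohB1.tensorPow L n)).app L ≪≫
      PicGrp.tensorModIso e (Iso.refl ((Scheme.Modules.pullback i).obj L))⟩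

/-- The projection formula along a closed immersion. -/
theorem nonempty_proj [IsClosedImmersion i] (M : Z.Modules) (N : X.Modules) :
    Nonempty (CohB1.tensorMod ((Coh.push i).obj M) N ≅
      (Coh.push i).obj (CohB1.tensorMod M ((Scheme.Modules.pullback i).obj N))) :=
  haveI := KFlatLib.isIso_projMod_of_isClosedImmersion i M N
  ⟨asIso (KFlatLib.projMod i M N)⟩

/-- Twists of a direct image along a closed immersion. -/
theorem nonempty_tensorPows_push [IsClosedImmersion i] (M : Z.Modules) : ∀ {r : ℕ} (L : Fin r → X.Modules)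
    (n : Fin r → ℕ), Nonempty (Curv2.tensorPows ((Coh.push i).obj M) r L n ≅
      (Coh.push i).obj (Curv2.tensorPows M r (fun j => (Scheme.Modules.pullback i).obj (L j)) n))
  | 0, _, _ => ⟨Iso.refl _⟩
  | r + 1, L, n => by
    obtain ⟨e⟩ := nonempty_tensorPows_push M (fun j => L j.castSucc) (fun j => n j.castSucc)
    obtain ⟨p⟩ := nonempty_proj i (Curv2.tensorPows M r (fun j => (Scheme.Modules.pullback i).obj (L j.castSucc))
      fun j => n j.castSucc) (CohB1.tensorPow (L (Fin.last r)) (n (Fin.last r)))
    obtain ⟨q⟩ := nonempty_pullback_tensorPow i (L (Fin.last r)) (n (Fin.last r))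
    exact ⟨PicGrp.tensorModIso e (Iso.refl _) ≪≫ p ≪≫ (Coh.push i).mapIso (PicGrp.tensorModIso (Iso.refl _) q)⟩

variable (k : Type u) [Field k] [X.Over (Spec (CommRingCat.of k))]

/-- The Euler characteristic of a direct image along an affine morphism. -/
theorem euler_push [Z.Over (Spec (CommRingCat.of k))] [IsAffineHom i]
    (hi : i ≫ (X ↘ Spec (CommRingCat.of k)) = Z ↘ Spec (CommRingCat.of k)) {M : Z.Modules} (hM : Coh.IsQCoh M) :
    Curv2.euler k X ((Coh.push i).obj M) = Curv2.euler k Z M :=
  finsum_congr fun q => by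
    obtain ⟨e⟩ := PnCoh.exists_linearEquiv_push k i hi hM q
    rw [e.finrank_eq]

/-- A closed subscheme of a proper scheme is proper. -/
theorem isProper_sub [IsClosedImmersion i] [IsProper (X ↘ Spec (CommRingCat.of k))] :
    @IsProper Z (Spec (CommRingCat.of k)) (i ≫ (X ↘ Spec (CommRingCat.of k))) := inferInstance

/-- Euler characteristics of twists of a direct image. -/
theorem euler_tensorPows_push [Z.Over (Spec (CommRingCat.of k))] [IsClosedImmersion i]
    [IsProper (Z ↘ Spec (CommRingCat.of k))]
    (hi : i ≫ (X ↘ Spec (CommRingCat.of k)) = Z ↘ Spec (CommRingCat.of k))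
    {r : ℕ} {L : Fin r → X.Modules} (hL : ∀ j, PicF.IsInvertible (L j)) (n : Fin r → ℕ)
    {M : Z.Modules} (hM : Coh.IsCoh M) :
    Curv2.euler k X (Curv2.tensorPows ((Coh.push i).obj M) r L n) =
      Curv2.euler k Z (Curv2.tensorPows M r (fun j => (Scheme.Modules.pullback i).obj (L j)) n) := by
  haveI := CurveCohLib.isNoetherian_of_proper (k := k) (X := Z)
  obtain ⟨e⟩ := nonempty_tensorPows_push i M L n
  rw [CurveCohLib.euler_congr e, euler_push i k hi
    (Snapper.isCoh_tensorPows _ (fun j => PicClLib.isInvertible_pullback i (hL j)) n hM).1]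

end Groth.Agent.VarBase
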