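import Groth.Agent.TriCat.RightDerivedBridge
import Groth.Agent.QCoh.RpushGod
import Groth.Agent.QCoh.Bound
import Groth.Agent.QCoh.RpushProper
import Groth.Agent.QCoh.Support
import Groth.Agent.CExt24.PushEdge
import Groth.Agent.HilbPoly.Poly
import Groth.Agent.S0002

/-!
# Alternating sums of additive invariants of higher direct images

For a proper morphism `f` and an additive invariant `φ` of coherent modules on the target,
`G ↦ ∑ (-1)^i φ (R^i f_* G)` is again additive.  Also: higher direct images of a direct image along a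
morphism with vanishing higher direct images.
-/

set_option autoImplicit false
set_option linter.style.haveILetI false
set_option backward.isDefEq.respectTransparency false
set_option backward.isDefEq.respectTransparency.types false

universe u

open CategoryTheory CategoryTheory.Limits AlgebraicGeometry TopologicalSpace

noncomputable section

namespace Groth.Agent.VarBase

open Groth.Agent.HilbPoly (Additive)

variable {X : Scheme.{u}} {φ : X.Modules → ℤ}

/-- An exact pair splits an additive invariant. -/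
theorem additive_eq_ker_add_ker [AlgebraicGeometry.IsNoetherian X] (hφ : Additive φ) {A B C : X.Modules} (a : A ⟶ B)
    (b : B ⟶ C) (w : a ≫ b = 0) (he : (ShortComplex.mk a b w).Exact) (hA : Coh.IsCoh A)
    (hB : Coh.IsCoh B) (hC : Coh.IsCoh C) : φ A = φ (kernel a) + φ (kernel b) := by
  haveI : Epi (kernel.lift b a w) := (ShortComplex.exact_iff_epi_kernel_lift _).1 he
  have w' : kernel.ι a ≫ kernel.lift b a w = 0 := by
    rw [← cancel_mono (kernel.ι b), Category.assoc, kernel.lift_ι, kernel.condition, zero_comp]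
  refine hφ.add (ShortComplex.mk (kernel.ι a) (kernel.lift b a w) w') ?_ (QCoh.isCoh_kernel hA hB a) hA
    (QCoh.isCoh_kernel hB hC b)
  refine ShortComplex.ShortExact.mk' ?_ inferInstance inferInstance
  refine ShortComplex.exact_of_f_is_kernel _ (KernelFork.IsLimit.ofι' _ _ fun {W} g hg => ?_)
  have hg' : g ≫ a = 0 :=
    calc g ≫ a = g ≫ kernel.lift b a w ≫ kernel.ι b := by rw [kernel.lift_ι]
      _ = 0 := by rw [← Category.assoc, hg, zero_comp]
  exact ⟨kernel.lift a g hg', kernel.lift_ι _ _ _⟩

theorem additive_zero [AlgebraicGeometry.IsNoetherian X] (hφ : Additive φ) {M : X.Modules} (h : IsZero M) (hM : Coh.IsCoh M) :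
    φ M = 0 := by
  have hS : (ShortComplex.mk (𝟙 M) (0 : M ⟶ M) comp_zero).ShortExact := by
    haveI : Epi (0 : M ⟶ M) := ⟨fun _ _ _ => h.eq_of_src _ _⟩
    exact .mk' (ShortComplex.exact_of_isZero_X₂ _ h) inferInstance inferInstance
  have := hφ.add _ hS hM hM hM
  simp only at this
  linarith

section Rpush

variable {Y : Scheme.{u}} (f : Y ⟶ X) [IsProper f] [AlgebraicGeometry.IsNoetherian X] [HasInjectiveResolutions Y.Modules]

/-- Higher direct images of coherent modules along a proper morphism are coherent. -/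
theorem isCoh_Rpush {G : Y.Modules} (hG : Coh.IsCoh G) (p : ℕ) : Coh.IsCoh ((Coh.Rpush f p).obj G) :=
  QCoh.isCoh_Rpush_of_finiteness f hG p fun A _ _ Z _ _ N hN n => S0002.result A Z N hN n

omit [IsProper f] [AlgebraicGeometry.IsNoetherian X] in
/-- Vanishing of the abelian higher direct images gives that of the module ones. -/
theorem isZero_Rpush_of_Ab {G : Y.Modules} (q : ℕ)
    (h : IsZero ((Coh.RpushAb f (q + 1)).obj (Coh.toAb G))) : IsZero ((Coh.Rpush f (q + 1)).obj G) := by
  obtain ⟨e⟩ := QCoh.nonempty_RpushAb_iso f G q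
  obtain ⟨e'⟩ := QCoh.nonempty_Rpush_iso f G q
  have h' := (h.of_iso e.symm).of_iso ((QCoh.toAbFunctor X).mapIso e')
  rw [IsZero.iff_id_eq_zero] at h' ⊢
  haveI : (QCoh.toAbFunctor X).Faithful :=
    inferInstanceAs (SheafOfModules.toSheaf X.ringCatSheaf).Faithful
  exact (QCoh.toAbFunctor X).map_injective
    (((QCoh.toAbFunctor X).map_id _).trans (h'.trans ((QCoh.toAbFunctor X).map_zero _ _).symm))

/-- A uniform bound for the higher direct images. -/
theorem exists_Rpush_bound : ∃ N : ℕ, ∀ G : Y.Modules, Coh.IsQCoh G → ∀ p, N ≤ p →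
    IsZero ((Coh.Rpush f p).obj G) := by
  haveI : CompactSpace X := inferInstance
  obtain ⟨N, hN⟩ := QCoh.exists_RpushAb_bound f
  refine ⟨N + 1, fun G hG p hp => ?_⟩
  obtain ⟨q, rfl⟩ : ∃ q, p = q + 1 := ⟨p - 1, by omega⟩
  exact isZero_Rpush_of_Ab f q (hN G hG (q + 1) (by omega))

variable (φ) in
/-- The alternating sum of an invariant over the higher direct images. -/
def rpushSum (G : Y.Modules) : ℤ := ∑ᶠ i : ℕ, (-1 : ℤ) ^ i * φ ((Coh.Rpush f i).obj G)

theorem rpushSum_eq_sum (hφ : Additive φ) {G : Y.Modules} (hG : Coh.IsCoh G) {N : ℕ}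
    (hN : ∀ p, N ≤ p → IsZero ((Coh.Rpush f p).obj G)) :
    rpushSum φ f G = ∑ i ∈ Finset.range N, (-1 : ℤ) ^ i * φ ((Coh.Rpush f i).obj G) := by
  refine finsum_eq_finsetSum_of_support_subset _ fun i hi => ?_
  simp only [Function.mem_support, ne_eq] at hi
  simp only [Finset.coe_range, Set.mem_Iio]
  by_contra h
  exact hi (by rw [additive_zero hφ (hN i (by omega)) (isCoh_Rpush f hG i), mul_zero])

/-- The alternating sum is additive. -/
theorem additive_rpushSum (hφ : Additive φ) : Additive (rpushSum φ f) := by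
  refine ⟨fun M N ⟨e⟩ => finsum_congr fun i => by rw [hφ.iso _ _ ⟨(Coh.Rpush f i).mapIso e⟩],
    fun S hS h₁ h₂ h₃ => ?_⟩
  haveI := SpObjSS.enoughInjectives_of_hasInjectiveResolutions (C := Y.Modules)
  haveI := QCoh.preservesFiniteLimits_push f
  let F := Scheme.Modules.pushforward f
  letI := HasDerivedCategory.standard Y.Modules
  letI := HasDerivedCategory.standard X.Modules
  choose δ w₁ w₂ w₃ e₁ e₂ e₃ using fun i => TriCat.exists_rightDerived_ses F hS i
  obtain ⟨N, hN⟩ := exists_Rpush_bound f
  have c₁ := isCoh_Rpush f h₁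
  have c₂ := isCoh_Rpush f h₂
  have c₃ := isCoh_Rpush f h₃
  let d : ℕ → ℤ := fun i => φ (kernel ((F.rightDerived i).map S.f))
  have key : ∀ i, φ ((Coh.Rpush f i).obj S.X₁) + φ ((Coh.Rpush f i).obj S.X₃) -
      φ ((Coh.Rpush f i).obj S.X₂) = d i + d (i + 1) := fun i => by
    have a₁ := additive_eq_ker_add_ker hφ _ _ (w₁ i) (e₁ i) (c₁ i) (c₂ i) (c₃ i)
    have a₂ := additive_eq_ker_add_ker hφ _ _ (w₂ i) (e₂ i) (c₂ i) (c₃ i) (c₁ (i + 1))
    have a₃ := additive_eq_ker_add_ker hφ _ _ (w₃ i) (e₃ i) (c₃ i) (c₁ (i + 1)) (c₂ (i + 1))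
    show φ ((F.rightDerived i).obj S.X₁) + φ ((F.rightDerived i).obj S.X₃) -
      φ ((F.rightDerived i).obj S.X₂) =
        φ (kernel ((F.rightDerived i).map S.f)) + φ (kernel ((F.rightDerived (i + 1)).map S.f))
    linarith
  have hd0 : d 0 = 0 := by
    haveI := hS.mono_f
    have e : F.rightDerivedZeroIsoSelf.hom.app S.X₁ ≫ F.map S.f =
        (F.rightDerived 0).map S.f ≫ F.rightDerivedZeroIsoSelf.hom.app S.X₂ :=
      (F.rightDerivedZeroIsoSelf.hom.naturality S.f).symm
    haveI : Mono (F.map S.f) := F.map_mono S.f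
    haveI : Mono ((F.rightDerived 0).map S.f) := mono_of_mono_fac e.symm
    exact additive_zero hφ (isZero_kernel_of_mono _) (QCoh.isCoh_kernel (c₁ 0) (c₂ 0) _)
  have hdN : d N = 0 := by
    refine additive_zero hφ ?_ (QCoh.isCoh_kernel (c₁ N) (c₂ N) _)
    rw [IsZero.iff_id_eq_zero, ← cancel_mono (kernel.ι _)]
    exact (hN _ h₁.1 N le_rfl).eq_of_tgt _ _
  have tele : ∀ M : ℕ, ∑ i ∈ Finset.range M, (-1 : ℤ) ^ i * (d i + d (i + 1)) = d 0 - (-1) ^ M * d M := by
    intro M
    induction M with
    | zero => simp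
    | succ M ih => rw [Finset.sum_range_succ, ih, pow_succ]; ring
  have hsum := tele N
  rw [hd0, hdN, mul_zero, sub_zero] at hsum
  simp only [← key, mul_sub, mul_add, Finset.sum_sub_distrib, Finset.sum_add_distrib, sub_eq_zero] at hsum
  rw [rpushSum_eq_sum f hφ h₁ (hN _ h₁.1), rpushSum_eq_sum f hφ h₂ (hN _ h₂.1),
    rpushSum_eq_sum f hφ h₃ (hN _ h₃.1), hsum]

/-- When the higher direct images vanish the alternating sum is the direct image. -/
theorem rpushSum_of_acyclic (hφ : Additive φ) {G : Y.Modules}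
    (h : ∀ q, IsZero ((Coh.Rpush f (q + 1)).obj G)) (hG : Coh.IsCoh G) :
    rpushSum φ f G = φ ((Scheme.Modules.pushforward f).obj G) := by
  haveI := SpObjSS.enoughInjectives_of_hasInjectiveResolutions (C := Y.Modules)
  haveI := QCoh.preservesFiniteLimits_push f
  rw [rpushSum_eq_sum f hφ hG (N := 1) (fun p hp => by
    obtain ⟨q, rfl⟩ : ∃ q, p = q + 1 := ⟨p - 1, by omega⟩
    exact h q), Finset.sum_range_one, pow_zero, one_mul]
  exact hφ.iso _ _ ⟨(Scheme.Modules.pushforward f).rightDerivedZeroIsoSelf.app G⟩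

end Rpush

section Comp

variable {W Y X : Scheme.{u}} (π : W ⟶ Y) (g : Y ⟶ X) [HasInjectiveResolutions W.Modules]
  [HasInjectiveResolutions Y.Modules]

/-- Higher direct images of a direct image along an acyclic morphism. -/
theorem isZero_Rpush_push : ∀ (q : ℕ) (M : W.Modules), (∀ i, IsZero ((Coh.Rpush π (i + 1)).obj M)) →
    (∀ i, IsZero ((Coh.Rpush (π ≫ g) (i + 1)).obj M)) →
    IsZero ((Coh.Rpush g (q + 1)).obj ((Scheme.Modules.pushforward π).obj M)) := by
  haveI := SpObjSS.enoughInjectives_of_hasInjectiveResolutions (C := W.Modules)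
  haveI := SpObjSS.enoughInjectives_of_hasInjectiveResolutions (C := Y.Modules)
  haveI := QCoh.preservesFiniteLimits_push π
  haveI := QCoh.preservesFiniteLimits_push g
  haveI := QCoh.preservesFiniteLimits_push (π ≫ g)
  intro q
  induction q with
  | zero =>
    intro M hπ hc
    let S := ShortComplex.mk (Injective.ι M) (cokernel.π (Injective.ι M)) (cokernel.condition _)
    have hS : S.ShortExact := { exact := ShortComplex.exact_of_g_is_cokernel _ (cokernelIsCokernel _) }
    haveI : Injective S.X₂ := inferInstanceAs (Injective (Injective.under M))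
    have hfl := CExt24.isFlasqueMod_push π S.X₂ (QCoh.isFlasqueMod_of_injective _)
    have hS' : (S.map (Scheme.Modules.pushforward π)).ShortExact := by
      haveI := hS.mono_f
      haveI : Mono (S.map (Scheme.Modules.pushforward π)).f :=
        inferInstanceAs (Mono ((Scheme.Modules.pushforward π).map S.f))
      haveI : Epi (S.map (Scheme.Modules.pushforward π)).g := by
        obtain ⟨e⟩ := QCoh.nonempty_R1_iso (Scheme.Modules.pushforward π) hS
          ((Scheme.Modules.pushforward π).isZero_rightDerived_obj_injective_succ 0 _)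
        exact Preadditive.epi_of_isZero_cokernel _ ((hπ 0).of_iso e.symm)
      exact { exact := hS.exact.map_of_mono_of_preservesKernel _ hS.mono_f inferInstance }
    obtain ⟨e⟩ := QCoh.nonempty_R1_iso (Scheme.Modules.pushforward g) hS'
      (QCoh.isZero_Rpush_of_flasque g _ hfl 0)
    obtain ⟨e'⟩ := QCoh.nonempty_R1_iso (Scheme.Modules.pushforward (π ≫ g)) hS
      ((Scheme.Modules.pushforward (π ≫ g)).isZero_rightDerived_obj_injective_succ 0 _)
    refine (((hc 0).of_iso e'.symm).of_iso ?_).of_iso e
    exact cokernel.mapIso _ _ ((Scheme.Modules.pushforwardComp π g).app S.X₂)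
      ((Scheme.Modules.pushforwardComp π g).app S.X₃) ((Scheme.Modules.pushforwardComp π g).hom.naturality S.g)
  | succ q ih =>
    intro M hπ hc
    let S := ShortComplex.mk (Injective.ι M) (cokernel.π (Injective.ι M)) (cokernel.condition _)
    have hS : S.ShortExact := { exact := ShortComplex.exact_of_g_is_cokernel _ (cokernelIsCokernel _) }
    haveI : Injective S.X₂ := inferInstanceAs (Injective (Injective.under M))
    have hfl := CExt24.isFlasqueMod_push π S.X₂ (QCoh.isFlasqueMod_of_injective _)
    have hS' : (S.map (Scheme.Modules.pushforward π)).ShortExact := by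
      haveI := hS.mono_f
      haveI : Mono (S.map (Scheme.Modules.pushforward π)).f :=
        inferInstanceAs (Mono ((Scheme.Modules.pushforward π).map S.f))
      haveI : Epi (S.map (Scheme.Modules.pushforward π)).g := by
        obtain ⟨e⟩ := QCoh.nonempty_R1_iso (Scheme.Modules.pushforward π) hS
          ((Scheme.Modules.pushforward π).isZero_rightDerived_obj_injective_succ 0 _)
        exact Preadditive.epi_of_isZero_cokernel _ ((hπ 0).of_iso e.symm)
      exact { exact := hS.exact.map_of_mono_of_preservesKernel _ hS.mono_f inferInstance }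
    have hshift : ∀ {V : Scheme.{u}} (p : W ⟶ V), (∀ i, IsZero ((Coh.Rpush p (i + 1)).obj M)) →
        ∀ i, IsZero ((Coh.Rpush p (i + 1)).obj S.X₃) := fun {V} p hp i => by
      haveI := QCoh.preservesFiniteLimits_push p
      obtain ⟨e⟩ := QCoh.nonempty_shift_iso (Scheme.Modules.pushforward p) hS i
        ((Scheme.Modules.pushforward p).isZero_rightDerived_obj_injective_succ i _)
        ((Scheme.Modules.pushforward p).isZero_rightDerived_obj_injective_succ (i + 1) _)
      exact (hp (i + 1)).of_iso e
    obtain ⟨e⟩ := QCoh.nonempty_shift_iso (Scheme.Modules.pushforward g) hS' q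
      (QCoh.isZero_Rpush_of_flasque g _ hfl q) (QCoh.isZero_Rpush_of_flasque g _ hfl (q + 1))
    exact (ih S.X₃ (hshift π hπ) (hshift (π ≫ g) hc)).of_iso e.symm

end Comp

end Groth.Agent.VarBase
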