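import Groth.Agent.VarBase.Restrict
import Groth.Agent.Lib.CurvePsi
import Groth.Agent.S0927
import Groth.Agent.H23.ClosedPushLen
import Mathlib.AlgebraicGeometry.ZariskisMainTheorem

/-!
# Degrees of pullbacks of bundles along finite maps, as sums over components
-/

set_option linter.style.haveILetI false
set_option backward.isDefEq.respectTransparency false
set_option backward.isDefEq.respectTransparency.types false

universe u

open CategoryTheory CategoryTheory.Limits AlgebraicGeometry TopologicalSpace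

noncomputable section

namespace Groth.Agent.VarBase

variable {X Y : Scheme.{u}}

/-- In a set of dimension `< 1` all points are closed. -/
theorem isClosed_of_dim_lt_one {T : Set X} (hT : IsClosed T)
    (hd : topologicalKrullDim ↥T < ((1 : ℕ) : WithBot ℕ∞)) : ∀ x ∈ T, IsClosed ({x} : Set X) := by
  intro x hx
  by_contra hc
  obtain ⟨y, hy, hne⟩ : ∃ y ∈ closure ({x} : Set X), y ≠ x := by
    by_contra! h
    exact hc (closure_subset_iff_isClosed.1 fun y hy => h y hy)
  let x' : ↥T := ⟨x, hx⟩
  let y' : ↥T := ⟨y, hT.closure_subset_iff.2 (Set.singleton_subset_iff.2 hx) hy⟩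
  let cl : ↥T → IrreducibleCloseds ↥T := fun z =>
    ⟨closure {z}, isIrreducible_singleton.closure, isClosed_closure⟩
  have h : x' ⤳ y' := (subtype_specializes_iff _ _).2 (specializes_iff_mem_closure.2 hy)
  have hlt : cl y' < cl x' := lt_of_le_of_ne (specializes_iff_closure_subset.1 h) fun he =>
    hne (congrArg Subtype.val ((inseparable_iff_closure_eq.2 (congrArg SetLike.coe he)).eq : y' = x'))
  exact (Order.krullDim_pos_iff.2 ⟨cl y', cl x', hlt⟩).not_ge
    (by
      have h1 : topologicalKrullDim ↥T < ((1 : ℕ∞) : WithBot ℕ∞) := hd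
      change topologicalKrullDim ↥T ≤ 0
      generalize topologicalKrullDim ↥T = a at h1
      cases a with
      | bot => exact bot_le
      | coe a => exact WithBot.coe_le_coe.2 (Order.lt_one_iff.1 (WithBot.coe_lt_coe.1 h1)).le)

variable (k : Type u) [Field k] [X.Over (Spec (CommRingCat.of k))] [IsProper (X ↘ Spec (CommRingCat.of k))]

/-- `χ(E ⊗ F) - n χ(F)`. -/
abbrev psi {n : ℕ} {E : X.Modules} (hE : FlatMod.IsFinLocFreeOfRank n E) : X.Modules → ℤ :=
  (CurvePsi.eulerPsi k hE).toFun

theorem psi_eq_compSum {n : ℕ} {E : X.Modules} (hE : FlatMod.IsFinLocFreeOfRank n E) {F : X.Modules}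
    (hF : Coh.IsCoh F) (hd : topologicalKrullDim ↥(CohB1.support F) ≤ ((1 : ℕ) : WithBot ℕ∞)) :
    psi k hE F = compSum 1 (psi k hE) F :=
  haveI := CurveCohLib.isNoetherian_of_proper (k := k) (X := X)
  eq_compSum _ (fun _ _ ⟨e⟩ => (CurvePsi.eulerPsi k hE).congr e) 1
    (fun S hS h₁ h₂ h₃ => (CurvePsi.eulerPsi k hE).add S.f S.g S.zero hS h₁ h₂ h₃)
    (fun _ hM hlt => (CurvePsi.eulerPsi k hE).zero hM
      (isClosed_of_dim_lt_one (QCoh.isClosed_support_of_isFT hM.1 hM.2) hlt)) hF hd

theorem psi_structure {n : ℕ} {E : X.Modules} (hE : FlatMod.IsFinLocFreeOfRank n E) :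
    psi k hE (Coh.structureModule X) = Curv2.deg k X E n := by
  show Curv2.euler k X _ - _ = _
  rw [Curv2.deg, CurveCohLib.euler_congr (CurveTensor.commIso E (Coh.structureModule X)),
    CurveCohLib.euler_congr (CurveTensor.structureTensorIso E)]

theorem deg_eq_compSum (hdim : topologicalKrullDim X ≤ 1) {n : ℕ} {E : X.Modules}
    (hE : FlatMod.IsFinLocFreeOfRank n E) :
    Curv2.deg k X E n = compSum 1 (psi k hE) (Coh.structureModule X) := by
  haveI := CurveCohLib.isNoetherian_of_proper (k := k) (X := X)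
  rw [← psi_structure k hE]
  exact psi_eq_compSum k hE QCoh.isCoh_structureModule'
    ((topologicalKrullDim_subspace_le ↥X (CohB1.support (Coh.structureModule X))).trans (by exact_mod_cast hdim))

/-- The degree of a pullback along an affine map is an invariant of the direct image of functions. -/
theorem deg_pullback_eq_psi [Y.Over (Spec (CommRingCat.of k))] (f : Y ⟶ X) [IsAffineHom f]
    (hf : f ≫ (X ↘ Spec (CommRingCat.of k)) = Y ↘ Spec (CommRingCat.of k)) {n : ℕ} {E : X.Modules}
    (hE : FlatMod.IsFinLocFreeOfRank n E) :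
    Curv2.deg k Y ((Scheme.Modules.pullback f).obj E) n = psi k hE ((Coh.push f).obj (Coh.structureModule Y)) := by
  haveI : EnoughInjectives Y.Modules := inferInstance
  have hEf : FlatMod.IsFinLocFree E := fun y => let ⟨W, hy, he⟩ := hE y; ⟨W, n, hy, he⟩
  obtain ⟨φ⟩ := S0927.result f (Coh.structureModule Y) E hEf 0
  let ψ := (Scheme.Modules.pushforward f).rightDerivedZeroIsoSelf
  let a : (DCoh.tensorBi.obj E).obj ((Scheme.Modules.pushforward f).obj (Coh.structureModule Y)) ≅
      (Scheme.Modules.pushforward f).obj ((Scheme.Modules.pullback f).obj E) :=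
    (DCoh.tensorBi.obj E).mapIso (ψ.app (Coh.structureModule Y)).symm ≪≫ φ ≪≫ ψ.app _ ≪≫
      (Scheme.Modules.pushforward f).mapIso (KFlatLib.tensorUnitIso ((Scheme.Modules.pullback f).obj E))
  show _ = Curv2.euler k X ((DCoh.tensorBi.obj E).obj _) - _
  rw [CurveCohLib.euler_congr (k := k) a, euler_push f k hf (QCoh.isQCoh_pullback f (QCoh.isQCoh_of_isFinLocFree hEf)),
    euler_push f k hf (QCoh.isQCoh_structureModule (X := Y))]
  rfl

/-- A proper map with finite fibres is finite. -/
theorem isFinite_of_fibres (f : X ⟶ Y) [IsProper f] (h : ∀ y : Y, (f ⁻¹' {y} : Set X).Finite) : IsFinite f := by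
  haveI := LocallyQuasiFinite.of_finite_preimage_singleton (f := f) h
  exact IsFinite.of_isProper_of_locallyQuasiFinite f

/-- The stalk of a direct image along a closed map at a point with one preimage. -/
theorem bijective_stalkPushforward (f : X ⟶ Y) (hf : IsClosedMap f) {x : X}
    (hx : ∀ z : X, f z = f x → z = x) (M : X.Modules) :
    Function.Bijective (TopCat.Presheaf.stalkPushforward Ab.{u} f.base M.presheaf x) := by
  have hnb : ∀ W : X.Opens, x ∈ W → ∃ V : Y.Opens, f x ∈ V ∧ f ⁻¹ᵁ V ≤ W := fun W hW =>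
    ⟨⟨(f '' (W : Set X)ᶜ)ᶜ, (hf _ W.isOpen.isClosed_compl).isOpen_compl⟩,
      fun ⟨z, hz, e⟩ => hz (hx z e ▸ hW), fun z hz => not_not.1 fun hzW => hz ⟨z, hzW, rfl⟩⟩
  refine ⟨(injective_iff_map_eq_zero _).2 fun a ha => ?_, fun b => ?_⟩
  · obtain ⟨U, hU, s, rfl⟩ := ((Coh.push f).obj M).presheaf.exists_germ_eq a
    have h0 : M.presheaf.germ (f ⁻¹ᵁ U) x hU s = 0 :=
      (congrArg (fun φ => φ s) (TopCat.Presheaf.stalkPushforward_germ Ab.{u} f.base M.presheaf U x hU)).symm.trans ha
    obtain ⟨W, hW, i₁, i₂, e⟩ := M.presheaf.germ_eq (U := f ⁻¹ᵁ U) (V := f ⁻¹ᵁ U) x hU hU s 0 (h0.trans (map_zero _).symm)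
    obtain ⟨V, hV, hVW⟩ := hnb W hW
    have hle : f ⁻¹ᵁ (U ⊓ V) ≤ W := fun z hz => hVW hz.2
    have e' : ((Coh.push f).obj M).presheaf.map (homOfLE (inf_le_left : U ⊓ V ≤ U)).op s = 0 := by
      have := congrArg (M.presheaf.map (homOfLE hle).op) e
      rw [map_zero, map_zero, ← CategoryTheory.comp_apply, ← Functor.map_comp] at this
      exact this
    rw [← ((Coh.push f).obj M).presheaf.germ_res_apply (homOfLE (inf_le_left : U ⊓ V ≤ U)) (f x) ⟨hU, hV⟩ s, e', map_zero]
  · obtain ⟨W, hW, s, rfl⟩ := M.presheaf.exists_germ_eq b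
    obtain ⟨V, hV, hVW⟩ := hnb W hW
    refine ⟨((Coh.push f).obj M).presheaf.germ V (f x) hV (M.presheaf.map (homOfLE hVW).op s), ?_⟩
    exact (congrArg (fun φ => φ (M.presheaf.map (homOfLE hVW).op s))
      (TopCat.Presheaf.stalkPushforward_germ Ab.{u} f.base M.presheaf V x hV)).trans
      (M.presheaf.germ_res_apply (homOfLE hVW) x hV s)

/-- The stalk of a direct image, as an additive group. -/
def pushStalkEquiv (f : X ⟶ Y) (hf : IsClosedMap f) {x : X}
    (hx : ∀ z : X, f z = f x → z = x) (M : X.Modules) :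
    ((Coh.push f).obj M).presheaf.stalk (f x) ≃+ M.presheaf.stalk x :=
  AddEquiv.ofBijective (TopCat.Presheaf.stalkPushforward Ab.{u} f.base M.presheaf x).hom
    (bijective_stalkPushforward f hf hx M)

theorem pushStalkEquiv_smul (f : X ⟶ Y) (hf : IsClosedMap f) {x : X}
    (hx : ∀ z : X, f z = f x → z = x) (M : X.Modules) (a : Y.presheaf.stalk (f x))
    (m : ((Coh.push f).obj M).presheaf.stalk (f x)) :
    pushStalkEquiv f hf hx M (a • m) = f.stalkMap x a • pushStalkEquiv f hf hx M m := by
  have he : ∀ (U : Y.Opens) (hU : f x ∈ U) (v : Γ(M, f ⁻¹ᵁ U)),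
      pushStalkEquiv f hf hx M (((Coh.push f).obj M).presheaf.germ U (f x) hU v) =
        M.presheaf.germ (f ⁻¹ᵁ U) x hU v := fun U hU v =>
    congrArg (fun φ => φ v) (TopCat.Presheaf.stalkPushforward_germ Ab.{u} f.base M.presheaf U x hU)
  obtain ⟨U, hU, b, rfl⟩ := Y.presheaf.exists_germ_eq (x := f x) a
  obtain ⟨V, hV, v, rfl⟩ := ((Coh.push f).obj M).presheaf.exists_germ_eq m
  have hW : f x ∈ U ⊓ V := ⟨hU, hV⟩
  rw [← Y.presheaf.germ_res_apply (homOfLE inf_le_left : U ⊓ V ⟶ U) (f x) hW b,
    ← ((Coh.push f).obj M).presheaf.germ_res_apply (homOfLE inf_le_right : U ⊓ V ⟶ V) (f x) hW v]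
  generalize Y.presheaf.map (homOfLE inf_le_left : U ⊓ V ⟶ U).op b = b'
  generalize ((Coh.push f).obj M).presheaf.map (homOfLE inf_le_right : U ⊓ V ⟶ V).op v = v'
  rw [← QCoh.germ_smul' ((Coh.push f).obj M) hW, he, he]
  refine (QCoh.germ_smul' M (show x ∈ f ⁻¹ᵁ (U ⊓ V) from hW) (f.app _ b') v').trans ?_
  exact congrArg (fun t => t • M.presheaf.germ (f ⁻¹ᵁ (U ⊓ V)) x hW v')
    (Scheme.Hom.germ_stalkMap_apply f (U ⊓ V) x hW b').symm

/-- Lengths are unchanged where the map on local rings is surjective. -/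
theorem length_push_of_surjective (f : X ⟶ Y) (hf : IsClosedMap f) {x : X}
    (hx : ∀ z : X, f z = f x → z = x) (hs : Function.Surjective (f.stalkMap x)) (M : X.Modules) :
    Module.length (Y.presheaf.stalk (f x)) (((Coh.push f).obj M).presheaf.stalk (f x)) =
      Module.length (X.presheaf.stalk x) (M.presheaf.stalk x) := by
  letI := (f.stalkMap x).hom.toAlgebra
  letI : Module (Y.presheaf.stalk (f x)) (M.presheaf.stalk x) := Module.compHom _ (f.stalkMap x).hom
  haveI : IsScalarTower (Y.presheaf.stalk (f x)) (X.presheaf.stalk x) (M.presheaf.stalk x) :=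
    IsScalarTower.of_algebraMap_smul fun _ _ => rfl
  rw [← Module.length_eq_of_surjective (S := Y.presheaf.stalk (f x)) (R := X.presheaf.stalk x)
    (M := M.presheaf.stalk x) hs]
  exact LinearEquiv.length_eq { pushStalkEquiv f hf hx M with map_smul' := pushStalkEquiv_smul f hf hx M }

/-- Between generic points of integral schemes the length of the direct image is the residue degree. -/
theorem length_push_eq_residueDegree [IsIntegral X] [IsIntegral Y] [IsLocallyNoetherian X] (f : X ⟶ Y) [IsFinite f] (hf : IsClosedMap f)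
    (hx : ∀ z : X, f z = f (genericPoint X) → z = genericPoint X) (hξ : f (genericPoint X) = genericPoint Y) :
    Module.length (Y.presheaf.stalk (f (genericPoint X)))
      (((Coh.push f).obj (Coh.structureModule X)).presheaf.stalk (f (genericPoint X))) =
      (f.residueDegree (genericPoint X) : ℕ∞) := by
  let x := genericPoint X
  have hYf : IsField (Y.presheaf.stalk (f x)) := by rw [hξ]; exact Field.toIsField Y.functionField
  letI := hYf.toField
  letI := (f.stalkMap x).hom.toAlgebra
  letI : Module (Y.presheaf.stalk (f x)) ((Coh.structureModule X).presheaf.stalk x) :=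
    Module.compHom _ (f.stalkMap x).hom
  haveI : IsScalarTower (Y.presheaf.stalk (f x)) (X.presheaf.stalk x) ((Coh.structureModule X).presheaf.stalk x) :=
    IsScalarTower.of_algebraMap_smul fun _ _ => rfl
  haveI : Module.Finite (Y.presheaf.stalk (f x)) (((Coh.push f).obj (Coh.structureModule X)).presheaf.stalk (f x)) :=
    QCoh.finite_stalk_of_isFT (QCoh.isCoh_pushforward_finite f QCoh.isCoh_structureModule').1
      (QCoh.isCoh_pushforward_finite f QCoh.isCoh_structureModule').2 (f x)
  rw [Module.length_eq_finrank]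
  refine congrArg Nat.cast ?_
  let e₁ : ((Coh.push f).obj (Coh.structureModule X)).presheaf.stalk (f x) ≃ₗ[Y.presheaf.stalk (f x)]
      (Coh.structureModule X).presheaf.stalk x :=
    { pushStalkEquiv f hf hx _ with map_smul' := pushStalkEquiv_smul f hf hx _ }
  let e₂ : (Coh.structureModule X).presheaf.stalk x ≃ₗ[X.presheaf.stalk x] X.presheaf.stalk x :=
    (LinearEquiv.ofBijective (LinearMap.toSpanSingleton (X.presheaf.stalk x) _ (H23.UnitSec.one x))
      ⟨fun a b h => sub_eq_zero.1 (H23.UnitSec.eq_zero_of_smul_one (a - b) (by rw [sub_smul]; exact sub_eq_zero.2 h)),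
        fun m => Submodule.mem_span_singleton.1 ((H23.UnitSec.span_one x).ge (Submodule.mem_top : m ∈ ⊤))⟩).symm
  rw [(e₁.trans (e₂.restrictScalars _)).finrank_eq, Scheme.Hom.residueDegree]
  letI := (f.residueFieldMap x).hom.toAlgebra
  have hX : IsField (X.presheaf.stalk x) := Field.toIsField X.functionField
  have hbY : Function.Bijective (Y.residue (f x)).hom :=
    ⟨(RingHom.injective_iff_ker_eq_bot _).2 ((IsLocalRing.ker_residue).trans
      (IsLocalRing.isField_iff_maximalIdeal_eq.1 hYf)), Y.residue_surjective _⟩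
  have hbX : Function.Bijective (X.residue x).hom :=
    ⟨(RingHom.injective_iff_ker_eq_bot _).2 ((IsLocalRing.ker_residue).trans
      (IsLocalRing.isField_iff_maximalIdeal_eq.1 hX)), X.residue_surjective _⟩
  refine Algebra.finrank_eq_of_equiv_equiv (RingEquiv.ofBijective _ hbY) (RingEquiv.ofBijective _ hbX) ?_
  ext a
  exact (IsLocalRing.ResidueField.map_residue _ a)

end Groth.Agent.VarBase
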