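import Groth.Agent.VarBase.Section
import Groth.Agent.VanGrowth.Big
import Groth.Agent.FlatMisc.DimConstr
import Groth.Agent.AmpleX.Pow
import Groth.Agent.VarBase.CurveDeg

/-!
# The induction step of the Nakai–Moishezon criterion
-/

set_option linter.style.haveILetI false
set_option linter.unusedSectionVars false
set_option backward.isDefEq.respectTransparency false
set_option backward.isDefEq.respectTransparency.types false

universe u

open CategoryTheory CategoryTheory.Limits AlgebraicGeometry TopologicalSpace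
open Groth.Agent.PnCoh.Finite (mapLin deltaLin)
open Groth.Agent.H23.TrivBasic (Triv locus mem_locus_iff)
open Groth.Agent.H23.PicMul (cl_eq_iff cl_tensorPow)
open scoped Groth.Agent.H23.PicMul

noncomputable section

namespace Groth.Agent.VarBase

variable {X : Scheme.{u}}

theorem nonempty_tensorPow_mul (L : X.Modules) (a b : ℕ) :
    Nonempty (CohB1.tensorPow (CohB1.tensorPow L a) b ≅ CohB1.tensorPow L (a * b)) :=
  cl_eq_iff.1 (by rw [cl_tensorPow, cl_tensorPow, cl_tensorPow, pow_mul])

theorem nonempty_tensorPow_congr {L M : X.Modules} (e : L ≅ M) (a : ℕ) :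
    Nonempty (CohB1.tensorPow L a ≅ CohB1.tensorPow M a) :=
  cl_eq_iff.1 (by rw [cl_tensorPow, cl_tensorPow, cl_eq_iff.2 ⟨e⟩])

theorem nonempty_tensorPow_structure (a : ℕ) :
    Nonempty (CohB1.tensorPow (Coh.structureModule X) a ≅ Coh.structureModule X) :=
  cl_eq_iff.1 (by rw [cl_tensorPow, ← H23.PicMul.one_def, one_pow])

variable (k : Type u) [Field k] [X.Over (Spec (CommRingCat.of k))] [IsProper (X ↘ Spec (CommRingCat.of k))]

include k in
/-- The dimension is finite. -/
theorem exists_dim_le : ∃ d : ℕ, topologicalKrullDim X ≤ (d : WithBot ℕ∞) := by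
  let f := X ↘ Spec (CommRingCat.of k)
  let y : ↥(Spec (CommRingCat.of k)) := IsLocalRing.closedPoint k
  obtain ⟨n, hn⟩ := FlatMisc.DimConstr.exists_dim_le f y
  refine ⟨n, le_trans (le_of_eq ?_) hn⟩
  haveI : Subsingleton ↥(Spec (CommRingCat.of k)) := inferInstanceAs (Subsingleton (PrimeSpectrum k))
  have h : f ⁻¹' {y} = Set.univ := Set.eq_univ_of_forall fun x => Subsingleton.elim (f x) y
  exact (IsHomeomorph.topologicalKrullDim_eq _
    ((f.fiberHomeo y).trans ((Homeomorph.setCongr h).trans (Homeomorph.Set.univ X))).isHomeomorph).symm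

include k in
/-- A proper scheme with ample structure sheaf is finite as a set. -/
theorem finite_of_ample_structure (h : CohB1.IsAmple (Coh.structureModule X)) : Finite X := by
  haveI := CurveCohLib.isNoetherian_of_proper (k := k) (X := X)
  obtain ⟨d, hd⟩ := exists_dim_le (X := X) k
  have hcases : topologicalKrullDim ↥(Set.univ : Set X) < ((1 : ℕ) : WithBot ℕ∞) ∨
      ∃ e : ℕ, 0 < e ∧ topologicalKrullDim ↥(Set.univ : Set X) = (e : WithBot ℕ∞) := by
    rw [VanGrowth.dim_univ]
    revert hd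
    generalize topologicalKrullDim X = a
    intro hd
    cases a with
    | bot => exact Or.inl (WithBot.bot_lt_coe _)
    | coe a =>
      obtain ⟨e, rfl⟩ : ∃ e : ℕ, a = e := (ENat.ne_top_iff_exists.1 fun ha => by
        rw [ha] at hd
        exact absurd (WithBot.coe_le_coe.1 hd) (by simp)).imp fun _ he => he.symm
      rcases Nat.eq_zero_or_pos e with rfl | he
      · exact Or.inl (by exact_mod_cast Nat.zero_lt_one)
      · exact Or.inr ⟨e, he, rfl⟩
  rcases hcases with h0 | ⟨e, he, hde⟩
  · exact Set.finite_univ_iff.1 (CurveCohLib.finite_of_closedPoints isClosed_univ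
      (isClosed_of_dim_lt_one isClosed_univ h0))
  · exfalso
    have hO : Coh.IsCoh (Coh.structureModule X) := QCoh.isCoh_structureModule'
    rw [← VanGrowth.support_structureModule] at hde
    have hpos := (HilbPoly.mult_nonneg_and_pos k h e _ hO hde.le).2 hde
    obtain ⟨j, rfl⟩ := Nat.exists_eq_add_of_le' he
    rw [show HilbPoly.mult k (Coh.structureModule X) (j + 1) (Coh.structureModule X) = 0 from
      sub_eq_zero.2 ((HilbPoly.additive_lead (L := Coh.structureModule X) (HilbPoly.additive_euler k)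
        InvX.isInvertible_structureModule j).iso _ _ ⟨AmpleVan.twUnit.app _⟩)] at hpos
    exact lt_irrefl _ hpos

/-- `h^i` of high twists is constant for `i ≥ 2`. -/
theorem exists_high_stable [IsIntegral X] {L : X.Modules} (hL : PicF.IsInvertible L)
    (hT : ∀ T : Set X, IsClosed T → T ≠ Set.univ → TwistVanOn L T) :
    ∃ N, ∀ n, N ≤ n → ∀ q, Module.finrank k (Coh.HH X (CohB1.tensorPow L n) (q + 2)) =
      Module.finrank k (Coh.HH X (CohB1.tensorPow L N) (q + 2)) := by
  haveI := CurveCohLib.isNoetherian_of_proper (k := k) (X := X)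
  obtain ⟨U, hU, e, he⟩ := InvX.exists_frame hL (genericPoint X)
  obtain ⟨K, I, a, b, c, hK, hI, ha, hb, hc⟩ := Snapper.exists_link_frame hL he
  have hT' := hT (U : Set X)ᶜ U.isOpen.isClosed_compl fun h => (h.ge (Set.mem_univ (genericPoint X))) hU
  obtain ⟨N₁, h₁⟩ := exists_mapLin_bijective k hL hT' le_rfl hK QCoh.isCoh_structureModule' a ha
  obtain ⟨N₂, h₂⟩ := exists_mapLin_bijective k hL hT' le_rfl hK hI b hb
  obtain ⟨N₃, h₃⟩ := exists_mapLin_bijective k hL hT' le_rfl (AmpleVan.isCoh_invertible hL) hI c hc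
  refine ⟨max N₁ (max N₂ N₃), fun n hn q => ?_⟩
  induction n, hn using Nat.le_induction with
  | base => rfl
  | succ n hn ih =>
    rw [← ih]
    let P := CohB1.tensorPow L n
    let i₁ : (AmpleVan.tw P).obj (Coh.structureModule X) ≅ P := CurveTensor.structureTensorIso P
    let i₂ : (AmpleVan.tw P).obj L ≅ CohB1.tensorPow L (n + 1) := powSuccIso L n
    rw [← (CurveCohLib.hhEquiv (k := k) i₁ (q + 2)).finrank_eq,
      ← (CurveCohLib.hhEquiv (k := k) i₂ (q + 2)).finrank_eq,
      (LinearEquiv.ofBijective _ (h₃ n (le_trans (le_trans (le_max_right _ _) (le_max_right N₁ _)) hn) q).2).finrank_eq,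
      ← (LinearEquiv.ofBijective _ (h₁ n (le_trans (le_max_left _ _) hn) q).2).finrank_eq,
      (LinearEquiv.ofBijective _ (h₂ n (le_trans (le_trans (le_max_left _ _) (le_max_right N₁ _)) hn) q).2).finrank_eq]

/-- Unbounded Euler characteristics force sections. -/
theorem exists_h0_pos [IsIntegral X] {L : X.Modules} (hL : PicF.IsInvertible L)
    (hT : ∀ T : Set X, IsClosed T → T ≠ Set.univ → TwistVanOn L T)
    (hgrow : ∀ B : ℤ, ∃ N, ∀ n, N ≤ n → B ≤ Curv2.euler k X (CohB1.tensorPow L n)) :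
    ∃ m, 0 < m ∧ 0 < VanGrowth.h0 k (CohB1.tensorPow L m) := by
  obtain ⟨N, hN⟩ := exists_high_stable k hL hT
  obtain ⟨d, hd⟩ := Euler.exists_bound (X := X) k
  haveI := CurveCohLib.isNoetherian_of_proper (k := k) (X := X)
  let h := fun n i => (Module.finrank k (Coh.HH X (CohB1.tensorPow L n) i) : ℤ)
  let C := ∑ i ∈ Finset.range d, h N i
  obtain ⟨N', hN'⟩ := hgrow (C + 1)
  let m := max N N' + 1
  refine ⟨m, Nat.succ_pos _, ?_⟩
  have hm : N ≤ m := by omega
  have hle : Curv2.euler k X (CohB1.tensorPow L m) ≤ h m 0 + C := by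
    rw [Euler.euler_eq_sum k _ d (hd _ (AmpleVan.isCoh_invertible (InvX.isInvertible_tensorPow hL m)).1)]
    refine le_trans (Finset.sum_le_sum (g := fun i => (if i = 0 then h m 0 else 0) + h N i) fun i _ => ?_) ?_
    · have h0 : ∀ n i, 0 ≤ h n i := fun n i => Int.natCast_nonneg _
      match i with
      | 0 => simp [h]
      | 1 => simp [h]
      | q + 2 =>
        rw [if_neg (by omega), zero_add]
        rcases neg_one_pow_eq_or ℤ (q + 2) with e | e <;> rw [e]
        · rw [one_mul]; exact le_of_eq (congrArg Nat.cast (hN m hm q))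
        · have := h0 N (q + 2)
          have := h0 m (q + 2)
          simp only [h] at *
          linarith
    · rw [Finset.sum_add_distrib, Finset.sum_ite_eq']
      have : (0 : ℤ) ≤ h m 0 := Int.natCast_nonneg _
      split_ifs
      · exact le_rfl
      · exact add_le_add this le_rfl
  have h1 := hN' m (by omega)
  have : (0 : ℤ) < h m 0 := by linarith
  exact Int.natCast_pos.1 this

include k in
/-- The induction step: ample on proper closed subvarieties and unbounded Euler characteristics. -/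
theorem isAmple_of_growth [IsIntegral X] {L : X.Modules} (hL : PicF.IsInvertible L)
    (hres : ∀ (Z : Scheme.{u}) (i : Z ⟶ X), IsClosedImmersion i → IsIntegral Z → Set.range i ≠ Set.univ →
      CohB1.IsAmple ((Scheme.Modules.pullback i).obj L))
    (hgrow : ∀ B : ℤ, ∃ N, ∀ n, N ≤ n → B ≤ Curv2.euler k X (CohB1.tensorPow L n)) :
    CohB1.IsAmple L := by
  haveI := CurveCohLib.isNoetherian_of_proper (k := k) (X := X)
  have hsub : ∀ (T : Set X), T ≠ Set.univ → ∀ (Z : Scheme.{u}) (i : Z ⟶ X), IsClosedImmersion i →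
      IsIntegral Z → Set.range i ⊆ T → CohB1.IsAmple ((Scheme.Modules.pullback i).obj L) :=
    fun T hT Z i hi hZ h => hres Z i hi hZ fun he => hT (Set.univ_subset_iff.1 (he ▸ h))
  -- a power with a nonzero section
  obtain ⟨m, hm, hm0⟩ := exists_h0_pos k hL (fun T _ hT => twistVanOn_of_ample k hL (hsub T hT)) hgrow
  let L' := CohB1.tensorPow L m
  have hL' : PicF.IsInvertible L' := InvX.isInvertible_tensorPow hL m
  haveI : Nontrivial (Coh.HH X L' 0) := Module.nontrivial_of_finrank_pos hm0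
  obtain ⟨y, hy⟩ := exists_ne (0 : Coh.HH X L' 0)
  let σ : Γ(L', ⊤) := Sheaf.H.equiv₀ (Coh.toAb L') isTerminalTop y
  have hσ : σ ≠ 0 := fun h0 => hy ((Sheaf.H.equiv₀ (Coh.toAb L') isTerminalTop).injective
    (h0.trans (map_zero _).symm))
  let s := InvX.ofSect σ
  haveI : Mono s := InvEnd.mono_of_ne_zero CurveDeg.isInvertible_structureModule hL' s fun h0 => hσ (by
    have h1 := congrArg InvX.one h0
    rw [InvX.one_ofSect] at h1
    exact h1)
  have hD : ((CohB1.genLocus L' s : Set X)ᶜ) ≠ Set.univ := fun h => H23.TrivBasic.locus_ne_bot hL' hσ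
    (show CohB1.genLocus L' s = ⊥ from SetLike.coe_injective (by simpa using h))
  have hT : TwistVanOn L' ((CohB1.genLocus L' s : Set X)ᶜ) :=
    twistVanOn_of_ample k hL' fun Z i hi hZ h => by
      obtain ⟨e⟩ := nonempty_pullback_tensorPow i L m
      exact AmpleX.isAmple_of_iso e.symm (AmpleX.isAmple_tensorPow (hsub _ hD Z i hi hZ h) hm)
  -- generation of a common power
  have hloc : ∀ x : X, ∃ n, 0 < n ∧ ∃ t : Γ(CohB1.tensorPow L' n, ⊤), x ∈ locus t := fun x => by
    obtain ⟨z, hz, hzc⟩ := IsClosed.exists_closed_singleton (isClosed_closure (s := ({x} : Set X)))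
      ⟨x, subset_closure rfl⟩
    obtain ⟨n, hn, t, ht⟩ := exists_section_mem k hL' s hT hzc
    exact ⟨n, hn, t, (specializes_iff_mem_closure.2 hz).mem_open (locus t).isOpen ht⟩
  choose n hn t ht using hloc
  obtain ⟨S, hS⟩ := isCompact_univ.elim_finite_subcover (fun x => (locus (t x) : Set X))
    (fun x => (locus (t x)).isOpen) (fun x _ => Set.mem_iUnion.2 ⟨x, ht x⟩)
  let M := ∏ x ∈ S, n x
  have hM : 0 < M := Finset.prod_pos fun x _ => hn x
  have hgen : ∀ x : X, ∃ t' : Γ(CohB1.tensorPow L (m * M), ⊤), x ∈ locus t' := fun x => by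
    obtain ⟨y, hy⟩ := Set.mem_iUnion.1 (hS (Set.mem_univ x))
    obtain ⟨hyS, hxy⟩ := Set.mem_iUnion.1 hy
    obtain ⟨j, hj⟩ : n y ∣ M := Finset.dvd_prod_of_mem _ hyS
    obtain ⟨e₁⟩ := nonempty_tensorPow_mul L' (n y) j
    obtain ⟨e₂⟩ := nonempty_tensorPow_mul L m M
    obtain ⟨U, hxU, hU⟩ := mem_locus_iff.1 hxy
    refine ⟨_, mem_locus_map_iso (e₁ ≪≫ eqToIso (congrArg (CohB1.tensorPow L') hj.symm) ≪≫ e₂)
      (t := AmpleX.powElt (t y) j) (mem_locus_iff.2 ⟨U, hxU, ?_⟩)⟩
    rw [AmpleX.res_powElt]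
    exact AmpleX.isFrame_powElt hU j
  have hmM : 0 < m * M := Nat.mul_pos hm hM
  haveI : CompactSpace X := QuasiCompact.compactSpace_of_compactSpace (X ↘ Spec (CommRingCat.of k))
  haveI : X.IsSeparated := AmpleVan.isSeparated_of_proper (A := k)
  refine AmpleX.isAmple_of_tensorPow hL hmM (AVAmple.isAmple_of_nontriv (X ↘ Spec (CommRingCat.of k))
    (InvX.isInvertible_tensorPow hL _) hgen ?_)
  -- no power is trivial on a curve
  intro C j hj hC htriv
  haveI := hj
  haveI := hC
  by_cases hr : Set.range j = Set.univ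
  · haveI : Surjective j := ⟨Set.range_eq_univ.1 hr⟩
    haveI : IsIso j := isIso_of_isClosedImmersion_of_surjective j
    obtain ⟨φ⟩ := H23.TrivBasic.triv_of_isIso j htriv
    exfalso
    obtain ⟨N, hN⟩ := hgrow (Curv2.euler k X (Coh.structureModule X) + 1)
    have h := hN (m * M * (N + 1)) (le_trans (Nat.le_succ N) (Nat.le_mul_of_pos_left _ hmM))
    obtain ⟨e₁⟩ := nonempty_tensorPow_mul L (m * M) (N + 1)
    obtain ⟨e₂⟩ := nonempty_tensorPow_congr φ (N + 1)
    obtain ⟨e₃⟩ := nonempty_tensorPow_structure (X := X) (N + 1)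
    rw [CurveCohLib.euler_congr (k := k) (e₁.symm ≪≫ e₂ ≪≫ e₃)] at h
    linarith
  · letI : C.Over (Spec (CommRingCat.of k)) := ⟨j ≫ (X ↘ Spec (CommRingCat.of k))⟩
    haveI : IsProper (C ↘ Spec (CommRingCat.of k)) := isProper_sub j k
    obtain ⟨φ⟩ := htriv
    obtain ⟨e⟩ := nonempty_pullback_tensorPow j L (m * M)
    exact finite_of_ample_structure k
      (AmpleX.isAmple_of_iso (e.symm ≪≫ φ) (AmpleX.isAmple_tensorPow (hres C j hj hC hr) hmM))

end Groth.Agent.VarBase
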