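import Groth.Agent.VarBase.RpushEuler
import Groth.Agent.VarBase.Decomp
import Groth.Agent.VarBase.Restrict
import Groth.Agent.VarBase.Nakai
import Groth.Agent.PnCoh.Chow.DevInput

/-!
# The Euler characteristic of the higher direct images

`χ(Y, G) = ∑ (-1)^i χ(X, R^i f_* G)` for a morphism of schemes proper over a field.
-/

set_option autoImplicit false
set_option linter.style.haveILetI false
set_option linter.unusedSectionVars false
set_option backward.isDefEq.respectTransparency false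
set_option backward.isDefEq.respectTransparency.types false
set_option maxHeartbeats 800000

universe u

open CategoryTheory CategoryTheory.Limits AlgebraicGeometry TopologicalSpace

noncomputable section

namespace Groth.Agent.VarBase

open Groth.Agent.HilbPoly (Additive additive_euler)
open Groth.Agent.PnCoh Groth.Agent.PnCoh.Chow

variable (k : Type u) [Field k]

section Twist

variable {N : ℕ} {X' T : Scheme.{u}} [X'.Over (Spec (CommRingCat.of k))] [T.Over (Spec (CommRingCat.of k))]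
  [IsProper (T ↘ Spec (CommRingCat.of k))] (p : X' ⟶ CohB1.ProjSpace N k) [IsClosedImmersion p]
  (h : X' ⟶ T) [IsProper h] (hp : p ≫ CohB1.ProjSpace.toSpec N k = h ≫ (T ↘ Spec (CommRingCat.of k)))
  (hh : h ≫ (T ↘ Spec (CommRingCat.of k)) = X' ↘ Spec (CommRingCat.of k))

include hp hh in
/-- High twists have no higher direct images. -/
theorem exists_acyclic_twist [HasInjectiveResolutions X'.Modules] : ∃ d₀ : ℕ, ∀ d, d₀ ≤ d →
    (∀ q, IsZero ((Coh.Rpush h (q + 1)).obj (pullTw p (d : ℤ)))) ∧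
      Curv2.euler k T ((Scheme.Modules.pushforward h).obj (pullTw p (d : ℤ))) =
        Curv2.euler k X' (pullTw p (d : ℤ)) := by
  classical
  let f : T ⟶ Spec (CommRingCat.of k) := T ↘ Spec (CommRingCat.of k)
  haveI : AlgebraicGeometry.IsNoetherian T := CurveCohLib.isNoetherian_of_proper (k := k) (X := T)
  haveI : T.IsSeparated := AmpleVan.isSeparated_of_proper (A := k)
  obtain ⟨s, hs, hcov⟩ := isCompact_iff_finite_and_eq_biUnion_affineOpens.mp
    (show IsCompact ((⊤ : T.Opens) : Set T) by simpa using isCompact_univ)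
  haveI := hs.to_subtype
  haveI : ∀ i : s, IsNoetherianRing Γ(T, i.1.1) := fun i => IsLocallyNoetherian.component_noetherian i.1
  choose d₀ hd₀ using fun i : s => exists_rel_vanishing f h p (V := i.1.1) i.1.2 hp
  haveI := Fintype.ofFinite s
  refine ⟨Finset.univ.sup d₀, fun d hd => ?_⟩
  let B : Opens T → Prop := fun W => ∃ (i : s) (b : Γ(T, i.1.1)), W = T.basicOpen b
  have hB : ∀ (U : Opens T) (y : T), y ∈ U → ∃ W, W ≤ U ∧ y ∈ W ∧ B W := fun U y hy => by
    have hx : y ∈ (⊤ : T.Opens) := trivial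
    rw [hcov] at hx
    obtain ⟨V, hV, hxV⟩ := by simpa only [Opens.mem_iSup, exists_prop] using hx
    obtain ⟨b, hbU, hyb⟩ := V.2.exists_basicOpen_le (V := U) ⟨y, hy⟩ hxV
    exact ⟨T.basicOpen b, hbU, hyb, ⟨V, hV⟩, b, rfl⟩
  have hHU : ∀ W, B W → ∀ r, Subsingleton (CohTop.HU (X := X'.toPresheafedSpace.carrier)
      (QCoh.abSheaf (pullTw p (d : ℤ))) (r + 1) ((Opens.map h.base).obj W)) := fun W hW r => by
    obtain ⟨i, b, rfl⟩ := hW
    exact subsingleton_HU_preimage_basicOpen f h p i.1.2 hp d b r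
      (hd₀ i d ((Finset.le_sup (Finset.mem_univ i)).trans hd) r)
  refine ⟨fun q => ?_, ?_⟩
  · refine isZero_Rpush_of_Ab h q ?_
    exact QCoh.Ab.Rpush_isZero_of_bound h.base B hB 0 (QCoh.abSheaf (pullTw p (d : ℤ)))
      (fun W hW r hr => by
        obtain ⟨r', rfl⟩ : ∃ r', r = r' + 1 := ⟨r - 1, by omega⟩
        exact hHU W hW r') (q + 1) (by omega)
  · refine finsum_congr fun i => ?_
    have hnat := H_push_equiv_natural_of_HU (Y := T.toPresheafedSpace.carrier) h.base B hB
      (QCoh.abSheaf (pullTw p (d : ℤ))) hHU i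
    obtain ⟨e⟩ := nonempty_linearEquiv_of_natPushEquiv k h hh (pullTw p (d : ℤ)) i hnat
    rw [e.finrank_eq]

end Twist

variable {X Y : Scheme.{u}}

/-- Direct images along affine morphisms are exact on quasi-coherent modules. -/
theorem shortExact_push_affine [HasInjectiveResolutions Y.Modules] (f : Y ⟶ X) [IsAffineHom f]
    {S : ShortComplex Y.Modules} (hS : S.ShortExact) (hq : ∀ (q : ℕ), IsZero ((Coh.Rpush f (q + 1)).obj S.X₁)) :
    (S.map (Scheme.Modules.pushforward f)).ShortExact := by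
  haveI := SpObjSS.enoughInjectives_of_hasInjectiveResolutions (C := Y.Modules)
  haveI := QCoh.preservesFiniteLimits_push f
  letI := HasDerivedCategory.standard Y.Modules
  letI := HasDerivedCategory.standard X.Modules
  let F := Scheme.Modules.pushforward f
  obtain ⟨δ, w₁, w₂, w₃, -, e₂, -⟩ := TriCat.exists_rightDerived_ses F hS 0
  haveI := hS.mono_f
  haveI : Mono (S.map F).f := inferInstanceAs (Mono (F.map S.f))
  haveI : Epi ((F.rightDerived 0).map S.g) := e₂.epi_f ((hq 0).eq_of_tgt _ _)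
  have e : (F.rightDerived 0).map S.g ≫ F.rightDerivedZeroIsoSelf.hom.app S.X₃ =
      F.rightDerivedZeroIsoSelf.hom.app S.X₂ ≫ F.map S.g :=
    F.rightDerivedZeroIsoSelf.hom.naturality S.g
  haveI : Epi (S.map F).g := by
    show Epi (F.map S.g)
    exact epi_of_epi_fac e.symm
  exact { exact := hS.exact.map_of_mono_of_preservesKernel _ hS.mono_f inferInstance }

theorem lenAt_generic_eq_one_of_frame [IsIntegral Y] {M : Y.Modules} {U : Y.Opens} {e : Γ(M, U)}
    (he : InvX.IsFrame e) (hη : genericPoint Y ∈ U) : lenAt M (genericPoint Y) = 1 := by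
  have hl : Module.length (Y.presheaf.stalk (genericPoint Y)) (M.presheaf.stalk (genericPoint Y)) = 1 := by
    rw [← (LinearEquiv.ofBijective (LinearMap.toSpanSingleton (Y.presheaf.stalk (genericPoint Y))
      (M.presheaf.stalk (genericPoint Y)) (M.presheaf.germ U (genericPoint Y) hη e))
      (bijective_germ_smul_of_frame he hη)).length_eq]
    haveI : IsSimpleModule (Y.presheaf.stalk (genericPoint Y)) (Y.presheaf.stalk (genericPoint Y)) :=
      isSimpleModule_self_iff_isUnit.2
        ⟨inferInstance, fun r hr => (isUnit_iff_ne_zero (G₀ := Y.functionField)).2 hr⟩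
    exact Module.length_eq_one _ _
  rw [lenAt, hl]
  rfl

theorem exists_dim_eq [Y.Over (Spec (CommRingCat.of k))] [IsProper (Y ↘ Spec (CommRingCat.of k))]
    [Nonempty Y] : ∃ d : ℕ, topologicalKrullDim Y = (d : WithBot ℕ∞) := by
  obtain ⟨m, hm⟩ := exists_dim_le (X := Y) k
  have h0 : (0 : WithBot ℕ∞) ≤ topologicalKrullDim Y := by
    rw [← VanGrowth.dim_univ]
    exact dim_nonneg_of_nonempty Set.univ_nonempty
  revert hm h0
  generalize topologicalKrullDim Y = a
  intro hm h0
  cases a with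
  | bot => simp at h0
  | coe a =>
    rw [← WithBot.coe_natCast, WithBot.coe_le_coe] at hm
    obtain ⟨n, rfl⟩ := ENat.ne_top_iff_exists.1 (ne_top_of_le_ne_top (ENat.natCast_ne_top m) hm)
    exact ⟨n, rfl⟩

variable [X.Over (Spec (CommRingCat.of k))] [Y.Over (Spec (CommRingCat.of k))]
  [IsProper (X ↘ Spec (CommRingCat.of k))] [IsProper (Y ↘ Spec (CommRingCat.of k))]

include k in
theorem isProper_over (f : Y ⟶ X) (hf : f ≫ (X ↘ Spec (CommRingCat.of k)) = Y ↘ Spec (CommRingCat.of k)) :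
    IsProper f := by
  haveI : IsProper (f ≫ (X ↘ Spec (CommRingCat.of k))) := by rw [hf]; infer_instance
  exact IsProper.of_comp f (X ↘ Spec (CommRingCat.of k))

/-- Additive invariants restricted along a closed immersion. -/
theorem additive_comp_push [AlgebraicGeometry.IsNoetherian Y] {Z : Scheme.{u}} (i : Z ⟶ Y) [IsClosedImmersion i]
    {φ : Y.Modules → ℤ} (hφ : Additive φ) :
    Additive (fun M : Z.Modules => φ ((Scheme.Modules.pushforward i).obj M)) := by
  refine ⟨fun M N ⟨e⟩ => hφ.iso _ _ ⟨(Scheme.Modules.pushforward i).mapIso e⟩, fun S hS h₁ h₂ h₃ => ?_⟩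
  have hS' := shortExact_push_affine i hS (CExt24.isZero_Rpush_of_affine i S.X₁ h₁.1)
  exact hφ.add (S.map (Scheme.Modules.pushforward i)) hS' (QCoh.isCoh_push i h₁) (QCoh.isCoh_push i h₂)
    (QCoh.isCoh_push i h₃)

include k in
/-- On an integral scheme an additive invariant of generically vanishing modules zero is a multiple of the rank. -/
theorem eq_lenAt_smul [IsIntegral Y] {Ψ : Y.Modules → ℤ} (hΨ : Additive Ψ)
    (hsmall : ∀ L : Y.Modules, Coh.IsCoh L → genericPoint Y ∉ CohB1.support L → Ψ L = 0)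
    {F : Y.Modules} (hF : Coh.IsCoh F) :
    Ψ F = lenAt F (genericPoint Y) • Ψ (Coh.structureModule Y) := by
  haveI : AlgebraicGeometry.IsNoetherian Y := CurveCohLib.isNoetherian_of_proper (k := k) (X := Y)
  obtain ⟨d, hd⟩ := exists_dim_eq k (Y := Y)
  have hclo : closure ({genericPoint Y} : Set Y) = Set.univ := genericPoint_closure Y
  have hu : topologicalKrullDim ↥(Set.univ : Set Y) = (d : WithBot ℕ∞) := (VanGrowth.dim_univ (X := Y)).trans hd
  have key : ∀ F : Y.Modules, Coh.IsCoh F →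
      Ψ F = lenAt F (genericPoint Y) • Ψ (ClSub.quotMod (clIdeal (genericPoint Y))) := fun F hF => by
    rw [eq_compSum Ψ hΨ.iso d hΨ.add (fun L hL hLd => hsmall L hL fun hmem => hLd.ne ?_) hF
      ((H23.TopDim.dim_le_dim_of_subset (Set.subset_univ _)).trans hu.le), compSum,
      finsum_eq_single _ (genericPoint Y), if_pos (by rw [hclo, hu])]
    · intro ζ hne
      rw [if_neg]
      exact fun hζ => hne (eq_of_specializes_of_dim isClosed_univ hu.le
        (Set.mem_univ _) (genericPoint_specializes ζ) hζ).symm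
    · rw [Set.eq_univ_of_univ_subset (hclo ▸ (QCoh.isClosed_support_of_isFT hL.1 hL.2).closure_subset_iff.2
        (Set.singleton_subset_iff.2 hmem) : Set.univ ⊆ CohB1.support L), hu]
  have h1 : lenAt (Coh.structureModule Y) (genericPoint Y) = 1 := by
    rw [lenAt, H23.ClosedPushLen.length_structureModule]
    haveI : IsSimpleModule (Y.presheaf.stalk (genericPoint Y)) (Y.presheaf.stalk (genericPoint Y)) :=
      isSimpleModule_self_iff_isUnit.2
        ⟨inferInstance, fun r hr => (isUnit_iff_ne_zero (G₀ := Y.functionField)).2 hr⟩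
    rw [Module.length_eq_one]
    rfl
  rw [key F hF, key _ QCoh.isCoh_structureModule', h1, one_smul]

/-- On every integral closed subscheme some module of length one at the generic point satisfies the formula. -/
theorem exists_generator [HasInjectiveResolutions Y.Modules] (f : Y ⟶ X)
    (hf : f ≫ (X ↘ Spec (CommRingCat.of k)) = Y ↘ Spec (CommRingCat.of k))
    {Z : Scheme.{u}} (i : Z ⟶ Y) [IsClosedImmersion i] [IsIntegral Z] :
    ∃ F : Z.Modules, Coh.IsCoh F ∧
      Curv2.euler k Y ((Scheme.Modules.pushforward i).obj F) =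
        rpushSum (Curv2.euler k X) f ((Scheme.Modules.pushforward i).obj F) ∧
      lenAt F (genericPoint Z) = 1 := by
  haveI : AlgebraicGeometry.IsNoetherian X := CurveCohLib.isNoetherian_of_proper (k := k) (X := X)
  haveI : AlgebraicGeometry.IsNoetherian Y := CurveCohLib.isNoetherian_of_proper (k := k) (X := Y)
  haveI := isProper_over k f hf
  letI : Z.Over (Spec (CommRingCat.of k)) := ⟨i ≫ (Y ↘ Spec (CommRingCat.of k))⟩
  haveI : IsProper (Z ↘ Spec (CommRingCat.of k)) := isProper_sub i k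
  haveI : AlgebraicGeometry.IsNoetherian Z := CurveCohLib.isNoetherian_of_proper (k := k) (X := Z)
  -- the generator
  obtain ⟨N, Z', π, p, hint, hpi, hpf, hπ, U, hU, hiso⟩ := chow_integral (Z ↘ Spec (CommRingCat.of k))
  haveI := hpi; haveI := hπ; haveI := hint; haveI := hiso
  letI : Z'.Over (Spec (CommRingCat.of k)) := ⟨π ≫ (Z ↘ Spec (CommRingCat.of k))⟩
  haveI : IsProper (Z' ↘ Spec (CommRingCat.of k)) :=
    MorphismProperty.comp_mem @IsProper _ _ hπ inferInstance
  haveI : AlgebraicGeometry.IsNoetherian Z' := CurveCohLib.isNoetherian_of_proper (k := k) (X := Z')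
  have hpY : p ≫ CohB1.ProjSpace.toSpec N k = (π ≫ i) ≫ (Y ↘ Spec (CommRingCat.of k)) := by
    rw [hpf, Category.assoc]; rfl
  have hpX : p ≫ CohB1.ProjSpace.toSpec N k = ((π ≫ i) ≫ f) ≫ (X ↘ Spec (CommRingCat.of k)) := by
    rw [hpY, Category.assoc _ f, hf]
  obtain ⟨d₁, hd₁⟩ := exists_acyclic_twist k p (π ≫ i) hpY ((Category.assoc _ _ _).trans rfl)
  obtain ⟨d₂, hd₂⟩ := exists_acyclic_twist k p ((π ≫ i) ≫ f) hpX (by rw [Category.assoc _ f, hf, Category.assoc]; rfl)
  obtain ⟨hA, eA⟩ := hd₁ (max d₁ d₂) (le_max_left _ _)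
  obtain ⟨hB, eB⟩ := hd₂ (max d₁ d₂) (le_max_right _ _)
  let M : Z'.Modules := pullTw p ((max d₁ d₂ : ℕ) : ℤ)
  have hM : Coh.IsCoh M := isCoh_pullTw p _
  have hQ : Coh.IsCoh ((Scheme.Modules.pushforward π).obj M) := by
    obtain ⟨d₀, hd₀⟩ : ∃ G, G = (Coh.Rpush π 0).obj M := ⟨_, rfl⟩
    haveI := SpObjSS.enoughInjectives_of_hasInjectiveResolutions (C := Z'.Modules)
    haveI := QCoh.preservesFiniteLimits_push π
    exact QCoh.isCoh_of_mono ((Scheme.Modules.pushforward π).rightDerivedZeroIsoSelf.app M).inv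
      (isCoh_Rpush π hM 0) (QCoh.isQCoh_pushforward π hM.1)
  have hzero : Curv2.euler k Y ((Scheme.Modules.pushforward i).obj ((Scheme.Modules.pushforward π).obj M)) =
      rpushSum (Curv2.euler k X) f ((Scheme.Modules.pushforward i).obj ((Scheme.Modules.pushforward π).obj M)) := by
    have hG' : Coh.IsCoh ((Scheme.Modules.pushforward (π ≫ i)).obj M) :=
      QCoh.isCoh_of_mono ((Scheme.Modules.pushforwardComp π i).app M).inv (QCoh.isCoh_push i hQ)
        (QCoh.isQCoh_pushforward _ hM.1)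
    have e : (Scheme.Modules.pushforward i).obj ((Scheme.Modules.pushforward π).obj M) ≅
        (Scheme.Modules.pushforward (π ≫ i)).obj M := (Scheme.Modules.pushforwardComp π i).app M
    rw [(additive_euler k).iso _ _ ⟨e⟩, (additive_rpushSum f (additive_euler k (X := X))).iso _ _ ⟨e⟩, eA,
      rpushSum_of_acyclic f (additive_euler k) (fun q => isZero_Rpush_push (π ≫ i) f q M hA hB) hG', ← eB]
    exact (additive_euler k).iso _ _ ⟨((Scheme.Modules.pushforwardComp (π ≫ i) f).app M).symm⟩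
  have hη : genericPoint Z ∈ U := ((genericPoint_spec Z).mem_open_set_iff U.2).2
    (by obtain ⟨u⟩ := hU; exact ⟨u.1, trivial, u.2⟩)
  have hlen : lenAt ((Scheme.Modules.pushforward π).obj M) (genericPoint Z) = 1 := by
    obtain ⟨x', hx'⟩ : ∃ x' : (π ⁻¹ᵁ U).toScheme, (π ∣_ U) x' = ⟨genericPoint Z, hη⟩ :=
      (TopCat.homeoOfIso (asIso (π ∣_ U).base)).surjective _
    obtain ⟨⟨l⟩, hl⟩ := cov_coord k (p x'.1)
    let O : Z'.Opens := p ⁻¹ᵁ Proj.basicOpen (CohB1.polyGrading N k) (MvPolynomial.X l)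
    let W : Z.Opens := U.ι ''ᵁ (inv (π ∣_ U) ⁻¹ᵁ ((π ⁻¹ᵁ U).ι ⁻¹ᵁ O))
    have hWU : W ≤ U := U.ι_image_le _
    have hW : π ⁻¹ᵁ W ≤ O := by
      intro y hy
      obtain ⟨w, hw, hwy⟩ := hy
      have hyU : π y ∈ U := hwy ▸ w.2
      have h1 : w = (π ∣_ U) ⟨y, hyU⟩ := Subtype.ext (hwy.trans (by rw [morphismRestrict_base_coe]))
      have h2 : (π ⁻¹ᵁ U).ι (inv (π ∣_ U) w) ∈ O := hw
      rw [h1, ← Scheme.Hom.comp_apply (π ∣_ U), IsIso.hom_inv_id] at h2
      exact h2
    have hηW : genericPoint Z ∈ W := by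
      refine ⟨⟨genericPoint Z, hη⟩, ?_, rfl⟩
      show (π ⁻¹ᵁ U).ι (inv (π ∣_ U) ⟨genericPoint Z, hη⟩) ∈ O
      rw [← hx', ← Scheme.Hom.comp_apply (π ∣_ U), IsIso.hom_inv_id]
      exact hl
    exact lenAt_generic_eq_one_of_frame
      (isFrame_push_of_isIso π hWU hW (isFrame_pFrame p (ProjPt.X_mem l) _)) hηW
  exact ⟨_, hQ, hzero, hlen⟩

/-- `χ(Y, G) = ∑ (-1)^i χ(X, R^i f_* G)`. -/
theorem euler_eq_rpushSum [HasInjectiveResolutions Y.Modules] (f : Y ⟶ X)
    (hf : f ≫ (X ↘ Spec (CommRingCat.of k)) = Y ↘ Spec (CommRingCat.of k))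
    {G : Y.Modules} (hG : Coh.IsCoh G) :
    Curv2.euler k Y G = rpushSum (Curv2.euler k X) f G := by
  haveI : AlgebraicGeometry.IsNoetherian X := CurveCohLib.isNoetherian_of_proper (k := k) (X := X)
  haveI : AlgebraicGeometry.IsNoetherian Y := CurveCohLib.isNoetherian_of_proper (k := k) (X := Y)
  haveI := isProper_over k f hf
  have hφ := additive_rpushSum f (additive_euler k (X := X))
  have hE := additive_euler k (X := Y)
  let φ : Y.Modules → ℤ := fun M => Curv2.euler k Y M - rpushSum (Curv2.euler k X) f M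
  have hadd : Additive φ := ⟨fun M N e => by simp only [φ]; rw [hE.iso _ _ e, hφ.iso _ _ e],
    fun S hS h₁ h₂ h₃ => by simp only [φ]; rw [hE.add S hS h₁ h₂ h₃, hφ.add S hS h₁ h₂ h₃]; ring⟩
  suffices H : φ G = 0 by simp only [φ] at H; linarith
  refine QCoh.devissage (fun M => φ M = 0) (fun M N e h => (hadd.iso _ _ e).symm.trans h) ?_ Set.univ
    (fun S hS h₁ h₂ h₃ _ e₁ e₃ => by rw [hadd.add S hS h₁ h₂ h₃, e₁, e₃, add_zero]) ?_
    (fun S hS h₁ h₂ h₃ _ e₂ e₃ => by have := hadd.add S hS h₁ h₂ h₃; rw [e₂, e₃, add_zero] at this; exact this.symm)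
    hG (Set.subset_univ _)
  · intro M hM
    haveI : Mono (0 : M ⟶ Coh.structureModule Y) := ⟨fun _ _ _ => hM.eq_of_tgt _ _⟩
    exact additive_zero hadd hM (QCoh.isCoh_of_mono (0 : M ⟶ Coh.structureModule Y) QCoh.isCoh_structureModule' (QCoh.isQCoh_of_isZero hM))
  intro ξ _ hsmall Z i _ _ hr
  letI : Z.Over (Spec (CommRingCat.of k)) := ⟨i ≫ (Y ↘ Spec (CommRingCat.of k))⟩
  haveI : IsProper (Z ↘ Spec (CommRingCat.of k)) := isProper_sub i k
  haveI : AlgebraicGeometry.IsNoetherian Z := CurveCohLib.isNoetherian_of_proper (k := k) (X := Z)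
  let Ψ : Z.Modules → ℤ := fun M => φ ((Scheme.Modules.pushforward i).obj M)
  obtain ⟨F₀, hQ, hzero, hlen⟩ := exists_generator k f hf i
  have hξ : i (genericPoint Z) = ξ := by
    have h1 : closure {i (genericPoint Z)} = closure {ξ} := by rw [← QCoh.range_eq_closure i, hr]
    exact (inseparable_iff_closure_eq.2 h1).eq
  have hΨ : Additive Ψ := additive_comp_push i hadd
  have hsm : ∀ L : Z.Modules, Coh.IsCoh L → genericPoint Z ∉ CohB1.support L → Ψ L = 0 := fun L hL hne => by
    refine hsmall _ (QCoh.isCoh_push i hL) (hr ▸ QCoh.support_push_subset i hL.1) fun hmem => ?_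
    have hsub : Subsingleton (L.presheaf.stalk (genericPoint Z)) := not_not.1 hne
    have h1 := H23.ClosedPushLen.length_stalk i L (genericPoint Z)
    rw [hξ, Module.length_eq_zero_iff.2 hsub, Module.length_eq_zero_iff] at h1
    exact hmem h1
  have h1 := eq_lenAt_smul k hΨ hsm hQ
  rw [hlen, one_smul, show Ψ F₀ = 0 from sub_eq_zero.2 hzero] at h1
  exact h1.symm

end Groth.Agent.VarBase
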