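import Groth.Agent.Snapper.Multi
import Groth.Agent.HilbPoly.Poly
import Mathlib.Algebra.MvPolynomial.Funext

/-!
# Intersection numbers as iterated differences, and as coefficients of Snapper polynomials

`inum k L F` is the iterated difference of `χ(- ⊗ F)` along `L 0, …, L (d-1)`; it is the coefficient of
`n_0 ⋯ n_{d-1}` in the polynomial computing `χ(F ⊗ ⊗_i L_i^{n_i})` whenever `dim Supp F ≤ d`.
-/

set_option linter.style.haveILetI false
set_option backward.isDefEq.respectTransparency false
set_option backward.isDefEq.respectTransparency.types false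

universe u

open CategoryTheory CategoryTheory.Limits AlgebraicGeometry TopologicalSpace

noncomputable section

namespace Groth.Agent.VarBase

open Groth.Agent.HilbPoly

/-- The sign attached to a vertex of the cube. -/
def sgn (b : Bool) : ℤ := if b then 1 else -1

/-- The exponent `(1, …, 1)`. -/
abbrev ones (d : ℕ) : Fin d →₀ ℕ := Finsupp.equivFunOnFinite.symm fun _ => 1

theorem prod_ite_pow (d : ℕ) (m : Fin d → ℕ) :
    (∑ e : Fin d → Bool, (∏ i, (sgn (e i) : ℚ)) * ∏ i, (((e i).toNat : ℕ) : ℚ) ^ m i) =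
      ∏ i, (1 - (0 : ℚ) ^ m i) := by
  simp_rw [← Finset.prod_mul_distrib]
  refine (Fintype.prod_sum (fun i (b : Bool) => (sgn b : ℚ) * ((b.toNat : ℕ) : ℚ) ^ m i)).symm.trans ?_
  refine Finset.prod_congr rfl fun i _ => ?_
  simp [sgn, sub_eq_add_neg]

/-- The mixed difference at the origin of a polynomial of degree at most `d` in `d` variables. -/
theorem sum_cube_eval {d : ℕ} (P : MvPolynomial (Fin d) ℚ) (hP : P.totalDegree ≤ d) :
    (∑ e : Fin d → Bool, (∏ i, (sgn (e i) : ℚ)) *
        MvPolynomial.eval (fun i => (((e i).toNat : ℕ) : ℚ)) P) =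
      MvPolynomial.coeff (ones d) P := by
  classical
  simp_rw [MvPolynomial.eval_eq', Finset.mul_sum, mul_left_comm _ (MvPolynomial.coeff _ P)]
  rw [Finset.sum_comm]
  simp_rw [← Finset.mul_sum, prod_ite_pow]
  rw [Finset.sum_eq_single (ones d)]
  · simp [ones]
  · intro m hm hne
    suffices h : ∃ i, m i = 0 by
      obtain ⟨i, hi⟩ := h
      rw [Finset.prod_eq_zero (Finset.mem_univ i) (by simp [hi]), mul_zero]
    by_contra! h
    have h1 : ∀ i ∈ (Finset.univ : Finset (Fin d)), 1 ≤ m i := fun i _ => Nat.one_le_iff_ne_zero.2 (h i)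
    have h2 : ∑ i, m i ≤ ∑ _i : Fin d, 1 := by
      have := (MvPolynomial.le_totalDegree hm).trans hP
      rw [Finsupp.sum_fintype _ _ fun _ => rfl] at this
      simpa using this
    refine hne (Finsupp.ext fun i => ?_)
    have h3 := (Finset.sum_eq_sum_iff_of_le h1).1 (le_antisymm (Finset.sum_le_sum h1) h2) i (Finset.mem_univ i)
    simpa [ones] using h3.symm
  · intro h
    rw [MvPolynomial.notMem_support_iff.1 h, zero_mul]

/-- Polynomials agreeing on `ℕ^d` are equal. -/
theorem mpoly_ext_nat {d : ℕ} {P Q : MvPolynomial (Fin d) ℚ}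
    (h : ∀ n : Fin d → ℕ, MvPolynomial.eval (fun i => (n i : ℚ)) P = MvPolynomial.eval (fun i => (n i : ℚ)) Q) :
    P = Q := by
  refine MvPolynomial.funext_set (fun _ => Set.range (Nat.cast : ℕ → ℚ))
    (fun _ => Set.infinite_range_of_injective Nat.cast_injective) fun x hx => ?_
  choose n hn using fun i => hx i (Set.mem_univ i)
  rw [← (funext hn : (fun i => (n i : ℚ)) = x)]
  exact h n

variable {X : Scheme.{u}}

/-- The list along which the differences are taken. -/
abbrev revList {d : ℕ} (L : Fin d → X.Modules) : List X.Modules := (List.ofFn L).reverse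

theorem revList_succ {d : ℕ} (L : Fin (d + 1) → X.Modules) :
    revList L = L (Fin.last d) :: revList fun i => L i.castSucc := by
  simp only [revList, List.ofFn_succ', List.concat_eq_append, List.reverse_append, List.reverse_singleton,
    List.singleton_append]

theorem inv_revList {d : ℕ} {L : Fin d → X.Modules} (hL : ∀ i, PicF.IsInvertible (L i)) :
    ∀ N ∈ revList L, PicF.IsInvertible N := fun N hN => by
  obtain ⟨i, rfl⟩ := List.mem_ofFn.1 (List.mem_reverse.1 hN)
  exact hL i

/-- The iterated difference is the mixed difference of `φ` of the twists. -/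
theorem iterD_eq_sum {φ : X.Modules → ℤ} (hφ : Additive φ) : ∀ {d : ℕ} (L : Fin d → X.Modules) (F : X.Modules),
    iterD (revList L) φ F =
      ∑ e : Fin d → Bool, (∏ i, sgn (e i)) * φ (Curv2.tensorPows F d L fun i => (e i).toNat)
  | 0, L, F => by simp [revList, iterD, Curv2.tensorPows]
  | d + 1, L, F => by
    let L' : Fin d → X.Modules := fun i => L i.castSucc
    let N := L (Fin.last d)
    rw [revList_succ, iterD, iterD_eq_sum hφ L' ((AmpleVan.tw N).obj F), iterD_eq_sum hφ L' F,
      ← (Fin.snocEquiv fun _ => Bool).sum_comp, Fintype.sum_prod_type, Fintype.sum_bool, sub_eq_add_neg,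
      ← Finset.sum_neg_distrib]
    refine congrArg₂ (· + ·) (Finset.sum_congr rfl fun e _ => ?_) (Finset.sum_congr rfl fun e _ => ?_)
    all_goals
      simp only [Fin.snocEquiv_apply, Fin.prod_univ_castSucc, Fin.snoc_castSucc, Fin.snoc_last, Curv2.tensorPows]
    · let T := Curv2.tensorPows F d L' fun i => (e i).toNat
      obtain ⟨a⟩ := Snapper.tensorPows_congr L' (fun i => (e i).toNat) (CurveTensor.commIso N F)
      obtain ⟨b⟩ := Snapper.tensorPows_swap N L' (fun i => (e i).toNat) F
      have h : Nonempty (Curv2.tensorPows ((AmpleVan.tw N).obj F) d L' (fun i => (e i).toNat) ≅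
          CohB1.tensorMod T (CohB1.tensorPow N 1)) :=
        ⟨a.symm ≪≫ b ≪≫ CurveTensor.commIso N T ≪≫
          PicGrp.tensorModIso (Iso.refl T) (CurveTensor.structureTensorIso N).symm⟩
      rw [hφ.iso _ _ h]
      simp [sgn]
      exact Or.inl rfl
    · let T := Curv2.tensorPows F d L' fun i => (e i).toNat
      have h : Nonempty (T ≅ CohB1.tensorMod T (CohB1.tensorPow N 0)) := ⟨(AmpleVan.twUnit.app T).symm⟩
      rw [hφ.iso _ _ h]
      simp [sgn]
      exact Or.inl rfl

theorem iterD_congr {φ : X.Modules → ℤ} (hφ : ∀ A B : X.Modules, Nonempty (A ≅ B) → φ A = φ B) :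
    ∀ (l : List X.Modules) {A B : X.Modules}, Nonempty (A ≅ B) → iterD l φ A = iterD l φ B
  | [], _, _, e => hφ _ _ e
  | N :: l, _, _, ⟨e⟩ => by
    simp only [iterD]
    rw [iterD_congr hφ l ⟨(AmpleVan.tw N).mapIso e⟩, iterD_congr hφ l ⟨e⟩]

/-- Differences commute with twisting. -/
theorem iterD_comp_tw {φ : X.Modules → ℤ} (hφ : ∀ A B : X.Modules, Nonempty (A ≅ B) → φ A = φ B)
    (P : X.Modules) : ∀ (l : List X.Modules) (F : X.Modules),
    iterD l (fun G => φ ((AmpleVan.tw P).obj G)) F = iterD l φ ((AmpleVan.tw P).obj F)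
  | [], _ => rfl
  | N :: l, F => by
    simp only [iterD]
    rw [iterD_comp_tw hφ P l ((AmpleVan.tw N).obj F), iterD_comp_tw hφ P l F]
    refine congrArg (· - _) (iterD_congr hφ l ⟨?_⟩)
    exact (AmpleVan.twComp N P).app F ≪≫
      ((DCoh.tensorBi (X := X)).obj F).mapIso (CurveTensor.commIso N P) ≪≫ ((AmpleVan.twComp P N).app F).symm

theorem iterD_sub (φ ψ : X.Modules → ℤ) : ∀ (l : List X.Modules) (F : X.Modules),
    iterD l (fun G => φ G - ψ G) F = iterD l φ F - iterD l ψ F
  | [], _ => rfl
  | N :: l, F => by simp only [iterD, iterD_sub φ ψ l]; ring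

theorem iterD_append (φ : X.Modules → ℤ) (N : X.Modules) : ∀ (l : List X.Modules) (F : X.Modules),
    iterD (l ++ [N]) φ F = iterD l (fun G => φ ((AmpleVan.tw N).obj G) - φ G) F
  | [], _ => rfl
  | M :: l, F => by simp only [List.cons_append, iterD, iterD_append φ N l]

variable (k : Type u) [Field k] [X.Over (Spec (CommRingCat.of k))] [IsProper (X ↘ Spec (CommRingCat.of k))]

/-- The intersection number `(L_0 ⋯ L_{d-1} · F)`. -/
def inum {d : ℕ} (L : Fin d → X.Modules) (F : X.Modules) : ℤ := iterD (revList L) (Curv2.euler k X) F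

theorem additive_inum {d : ℕ} {L : Fin d → X.Modules} (hL : ∀ i, PicF.IsInvertible (L i)) :
    Additive (inum k L) :=
  haveI := CurveCohLib.isNoetherian_of_proper (k := k) (X := X)
  additive_iterD (additive_euler k) (inv_revList hL)

theorem inum_eq_zero {d : ℕ} {L : Fin d → X.Modules} (hL : ∀ i, PicF.IsInvertible (L i)) {F : X.Modules}
    (hF : Coh.IsCoh F) (hd : topologicalKrullDim ↥(CohB1.support F) < (d : WithBot ℕ∞)) : inum k L F = 0 :=
  haveI := CurveCohLib.isNoetherian_of_proper (k := k) (X := X)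
  iterD_eq_zero d (additive_euler k) (revList L) (by simp) (inv_revList hL) F hF hd

/-- The coefficient of `n_0 ⋯ n_{d-1}` is the intersection number. -/
theorem coeff_eq_inum {d : ℕ} {L : Fin d → X.Modules} (hL : ∀ i, PicF.IsInvertible (L i)) {F : X.Modules}
    (hF : Coh.IsCoh F) (hd : topologicalKrullDim ↥(CohB1.support F) ≤ (d : WithBot ℕ∞))
    {P : MvPolynomial (Fin d) ℚ}
    (hP : ∀ n : Fin d → ℕ, (Curv2.euler k X (Curv2.tensorPows F d L n) : ℚ) =
      MvPolynomial.eval (fun i => (n i : ℚ)) P) :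
    MvPolynomial.coeff (ones d) P = (inum k L F : ℚ) := by
  obtain ⟨P', hdeg, hP'⟩ := Snapper.exists_mpoly k hL hF hd
  obtain rfl : P = P' := mpoly_ext_nat fun n => (hP n).symm.trans (hP' n)
  rw [← sum_cube_eval P hdeg, inum, iterD_eq_sum (additive_euler k)]
  push_cast
  refine Finset.sum_congr rfl fun e _ => ?_
  rw [hP]

end Groth.Agent.VarBase
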