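import Groth.Agent.VarBase.Nakai
import Groth.Agent.VarBase.Inum
import Groth.Agent.IntNum47.Push

/-!
# The Nakai–Moishezon criterion
-/

set_option linter.style.haveILetI false
set_option linter.unusedSectionVars false
set_option backward.isDefEq.respectTransparency false
set_option backward.isDefEq.respectTransparency.types false

universe u

open CategoryTheory CategoryTheory.Limits AlgebraicGeometry TopologicalSpace
open Groth.Agent.HilbPoly (mult iterD)

noncomputable section

namespace Groth.Agent.VarBase

variable (k : Type u) [Field k] {X : Scheme.{u}} [X.Over (Spec (CommRingCat.of k))]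
  [IsProper (X ↘ Spec (CommRingCat.of k))]

theorem inum_const (L F : X.Modules) (d : ℕ) : inum k (fun _ : Fin d => L) F = mult k L d F := by
  rw [inum, mult, HilbPoly.lead, revList, List.ofFn_const, List.reverse_replicate]

include k in
/-- In dimension zero everything is ample. -/
theorem isAmple_of_dim_le_zero (hd : topologicalKrullDim X ≤ ((0 : ℕ) : WithBot ℕ∞)) {L : X.Modules}
    (hL : PicF.IsInvertible L) : CohB1.IsAmple L := by
  haveI := CurveCohLib.isNoetherian_of_proper (k := k) (X := X)
  haveI : CompactSpace X := QuasiCompact.compactSpace_of_compactSpace (X ↘ Spec (CommRingCat.of k))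
  haveI : X.IsSeparated := AmpleVan.isSeparated_of_proper (A := k)
  refine AmpleVan.isAmple_of_HH_one hL fun Z _ => ⟨0, Snapper.subsingleton_HH_of_dim_le hd ?_ Nat.one_pos⟩
  exact (AmpleVan.isCoh_tensor (QCoh.isCoh_of_mono (QCoh.vanIdeal Z).ι
    QCoh.isCoh_structureModule' (QCoh.isQCoh_vanIdeal Z))
    (AmpleVan.isCoh_invertible (InvX.isInvertible_tensorPow hL _))).1

/-- A positive top self-intersection makes the Euler characteristics of the powers unbounded. -/
theorem growth_of_mult_pos {L : X.Modules} (hL : PicF.IsInvertible L) {d : ℕ} (hd0 : 0 < d)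
    (hd : topologicalKrullDim X ≤ (d : WithBot ℕ∞)) (hpos : 0 < mult k L d (Coh.structureModule X)) (B : ℤ) :
    ∃ N, ∀ n, N ≤ n → B ≤ Curv2.euler k X (CohB1.tensorPow L n) := by
  haveI := CurveCohLib.isNoetherian_of_proper (k := k) (X := X)
  obtain ⟨P, hP, hdeg, hα⟩ := HilbPoly.exists_poly (HilbPoly.additive_euler k) hL
    (QCoh.isCoh_structureModule' (X := X)) (d := d)
    ((topologicalKrullDim_subspace_le ↥X (CohB1.support (Coh.structureModule X))).trans hd)
  have hc : 0 < P.coeff d := by
    have h : (0 : ℚ) < StabCat.alpha d P := by rw [hα]; exact_mod_cast hpos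
    rw [StabCat.alpha] at h
    have : (0 : ℚ) < d.factorial := by exact_mod_cast d.factorial_pos
    exact (mul_pos_iff_of_pos_left this).1 h
  obtain ⟨K, hK, hlow⟩ := VanGrowth.exists_poly_lower P hdeg hc
  refine ⟨K + ⌈(2 * (B : ℚ)) / P.coeff d⌉₊, fun n hn => ?_⟩
  have hn1 : (1 : ℚ) ≤ n := by exact_mod_cast hK.trans (le_trans (Nat.le_add_right _ _) hn)
  have hn2 : 2 * (B : ℚ) / P.coeff d ≤ n :=
    (Nat.le_ceil _).trans (by exact_mod_cast le_trans (Nat.le_add_left _ _) hn)
  rw [div_le_iff₀ hc] at hn2
  have h1 := hlow n (le_trans (Nat.le_add_right _ _) hn)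
  have h2 : (n : ℚ) ≤ (n : ℚ) ^ d := le_self_pow₀ hn1 hd0.ne'
  have h3 := mul_le_mul_of_nonneg_left h2 (by linarith : (0 : ℚ) ≤ P.coeff d / 2)
  have h4 : ((Curv2.euler k X (CohB1.tensorPow L n) : ℤ) : ℚ) = P.eval (n : ℚ) :=
    (congrArg (Int.cast (R := ℚ)) ((CurveCohLib.euler_congr (k := k)
      (CurveTensor.structureTensorIso (CohB1.tensorPow L n))).symm)).trans (hP n)
  have h5 : (B : ℚ) ≤ (Curv2.euler k X (CohB1.tensorPow L n) : ℤ) := by rw [h4]; linarith
  exact_mod_cast h5

/-- Multiplicities and direct images along closed immersions. -/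
theorem mult_push {Z : Scheme.{u}} [Z.Over (Spec (CommRingCat.of k))] [IsProper (Z ↘ Spec (CommRingCat.of k))]
    (i : Z ⟶ X) [IsClosedImmersion i]
    (hi : i ≫ (X ↘ Spec (CommRingCat.of k)) = Z ↘ Spec (CommRingCat.of k)) {L : X.Modules}
    (hL : PicF.IsInvertible L) (d : ℕ) {F : Z.Modules} (hF : Coh.IsCoh F) :
    mult k L d ((Coh.push i).obj F) = mult k ((Scheme.Modules.pullback i).obj L) d F := by
  have h := IntNum47.iterD_push k i hi (List.replicate d L)
    (fun A hA => (List.eq_of_mem_replicate hA) ▸ hL) F hF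
  rwa [List.map_replicate] at h

/-- Positivity of all top self-intersections on integral closed subschemes. -/
def PosOn (L : X.Modules) : Prop :=
  ∀ (Z : Scheme.{u}) (i : Z ⟶ X), IsClosedImmersion i → IsIntegral Z → ∀ d : ℕ, 0 < d →
    topologicalKrullDim Z = (d : WithBot ℕ∞) → 0 < mult k L d ((Coh.push i).obj (Coh.structureModule Z))

theorem dim_range {Z : Scheme.{u}} (i : Z ⟶ X) [IsClosedImmersion i] :
    topologicalKrullDim ↥(Set.range i) = topologicalKrullDim Z :=
  (IsHomeomorph.topologicalKrullDim_eq _ (i.isEmbedding.toHomeomorph).isHomeomorph).symm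

include k in
/-- Positivity implies ampleness. -/
theorem isAmple_of_posOn {L : X.Modules} (hL : PicF.IsInvertible L) (hpos : PosOn k L) : CohB1.IsAmple L := by
  haveI := CurveCohLib.isNoetherian_of_proper (k := k) (X := X)
  refine isAmple_of_integral_subschemes k hL fun Z i hi hZ => ?_
  suffices H : ∀ (d : ℕ) (Z : Scheme.{u}) (i : Z ⟶ X), IsClosedImmersion i → IsIntegral Z →
      topologicalKrullDim Z ≤ (d : WithBot ℕ∞) → CohB1.IsAmple ((Scheme.Modules.pullback i).obj L) by
    letI : Z.Over (Spec (CommRingCat.of k)) := ⟨i ≫ (X ↘ Spec (CommRingCat.of k))⟩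
    haveI := hi
    haveI : IsProper (Z ↘ Spec (CommRingCat.of k)) := isProper_sub i k
    obtain ⟨d, hd⟩ := exists_dim_le (X := Z) k
    exact H d Z i hi hZ hd
  intro d
  induction d with
  | zero =>
    intro Z i hi _ hd
    letI : Z.Over (Spec (CommRingCat.of k)) := ⟨i ≫ (X ↘ Spec (CommRingCat.of k))⟩
    haveI := hi
    haveI : IsProper (Z ↘ Spec (CommRingCat.of k)) := isProper_sub i k
    exact isAmple_of_dim_le_zero k hd (PicClLib.isInvertible_pullback i hL)
  | succ d ih =>
    intro Z i hi hZ hd
    rcases hd.lt_or_eq with hlt | heq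
    · refine ih Z i hi hZ ?_
      revert hlt
      generalize topologicalKrullDim Z = a
      intro hlt
      cases a with
      | bot => exact bot_le
      | coe a =>
        rw [← WithBot.coe_natCast, WithBot.coe_lt_coe, Nat.cast_succ] at hlt
        rw [← WithBot.coe_natCast, WithBot.coe_le_coe]
        exact Order.le_of_lt_succ (a := a) (b := (d : ℕ∞)) (by rwa [Order.succ_eq_add_one])
    · letI : Z.Over (Spec (CommRingCat.of k)) := ⟨i ≫ (X ↘ Spec (CommRingCat.of k))⟩
      haveI := hi
      haveI := hZ
      haveI : IsProper (Z ↘ Spec (CommRingCat.of k)) := isProper_sub i k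
      haveI := CurveCohLib.isNoetherian_of_proper (k := k) (X := Z)
      have hLZ := PicClLib.isInvertible_pullback i hL
      refine isAmple_of_growth k hLZ (fun W j hj hW hr => ?_) (growth_of_mult_pos k hLZ d.succ_pos hd ?_)
      · haveI := hj
        have hne : topologicalKrullDim Z ≠ ⊤ := by
          rw [heq]
          exact WithBot.coe_injective.ne (a₁ := ((d + 1 : ℕ) : ℕ∞)) (a₂ := ⊤) (ENat.natCast_ne_top _)
        have hlt := H23.TopDim.dim_lt_of_ssubset (X := ↥Z) hne j.isClosedEmbedding.isClosed_range hr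
        rw [dim_range (X := Z) j, heq] at hlt
        refine AmpleX.isAmple_of_iso ((Scheme.Modules.pullbackComp j i).app L).symm (ih W (j ≫ i) inferInstance hW ?_)
        revert hlt
        generalize topologicalKrullDim W = a
        intro hlt
        cases a with
        | bot => exact bot_le
        | coe a =>
          rw [← WithBot.coe_natCast, WithBot.coe_lt_coe, Nat.cast_succ] at hlt
          rw [← WithBot.coe_natCast, WithBot.coe_le_coe]
          exact Order.le_of_lt_succ (a := a) (b := (d : ℕ∞)) (by rwa [Order.succ_eq_add_one])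
      · rw [← mult_push k i rfl hL _ QCoh.isCoh_structureModule']
        exact hpos Z i hi hZ (d + 1) d.succ_pos heq

include k in
/-- Ampleness implies positivity. -/
theorem posOn_of_isAmple {L : X.Modules} (h : CohB1.IsAmple L) : PosOn k L := by
  intro Z i hi hZ d _ hd
  haveI := hi
  letI : Z.Over (Spec (CommRingCat.of k)) := ⟨i ≫ (X ↘ Spec (CommRingCat.of k))⟩
  haveI : IsProper (Z ↘ Spec (CommRingCat.of k)) := isProper_sub i k
  haveI := CurveCohLib.isNoetherian_of_proper (k := k) (X := Z)
  haveI : CompactSpace X := QuasiCompact.compactSpace_of_compactSpace (X ↘ Spec (CommRingCat.of k))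
  haveI : CompactSpace Z := i.isClosedEmbedding.compactSpace
  rw [mult_push k i rfl h.1 d QCoh.isCoh_structureModule']
  have hds : topologicalKrullDim ↥(CohB1.support (Coh.structureModule Z)) = (d : WithBot ℕ∞) := by
    rw [VanGrowth.support_structureModule, VanGrowth.dim_univ, hd]
  exact (HilbPoly.mult_nonneg_and_pos k
    (AmpleVan.isAmple_pullback_of_isEmbedding i i.isClosedEmbedding.isEmbedding h) d _
    QCoh.isCoh_structureModule' hds.le).2 hds

theorem mult_one_eq_deg (L : X.Modules) :
    mult k L 1 (Coh.structureModule X) = Curv2.deg k X L 1 := by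
  show Curv2.euler k X ((AmpleVan.tw L).obj (Coh.structureModule X)) - Curv2.euler k X (Coh.structureModule X) = _
  let e : (AmpleVan.tw L).obj (Coh.structureModule X) ≅ L := CurveTensor.structureTensorIso L
  rw [Curv2.deg, CurveCohLib.euler_congr (k := k) e]
  push_cast
  ring

include k in
/-- On a proper curve ampleness is positivity of the degree. -/
theorem isAmple_iff_deg_pos [IsIntegral X] (hdim : topologicalKrullDim X = 1) {L : X.Modules}
    (hL : PicF.IsInvertible L) : CohB1.IsAmple L ↔ 0 < Curv2.deg k X L 1 := by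
  haveI := CurveCohLib.isNoetherian_of_proper (k := k) (X := X)
  refine ⟨fun h => ?_, fun h => ?_⟩
  · rw [← mult_one_eq_deg]
    have hds : topologicalKrullDim ↥(CohB1.support (Coh.structureModule X)) = ((1 : ℕ) : WithBot ℕ∞) := by
      rw [VanGrowth.support_structureModule, VanGrowth.dim_univ, hdim, Nat.cast_one]
    exact (HilbPoly.mult_nonneg_and_pos k h 1 _ QCoh.isCoh_structureModule' hds.le).2 hds
  · refine isAmple_of_growth k hL (fun W j hj hW hr => ?_)
      (growth_of_mult_pos k hL Nat.one_pos (by rw [hdim, Nat.cast_one]) (by rwa [mult_one_eq_deg]))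
    haveI := hj
    letI : W.Over (Spec (CommRingCat.of k)) := ⟨j ≫ (X ↘ Spec (CommRingCat.of k))⟩
    haveI : IsProper (W ↘ Spec (CommRingCat.of k)) := isProper_sub j k
    refine isAmple_of_dim_le_zero k ?_ (PicClLib.isInvertible_pullback j hL)
    have hlt := H23.TopDim.dim_lt_of_ssubset (X := ↥X) (by rw [hdim]; exact WithBot.coe_injective.ne (a₁ := (1 : ℕ∞)) (a₂ := ⊤) (by simp))
      j.isClosedEmbedding.isClosed_range hr
    rw [dim_range (X := X) j, hdim] at hlt
    revert hlt
    generalize topologicalKrullDim W = a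
    intro hlt
    cases a with
    | bot => exact bot_le
    | coe a =>
      rw [← WithBot.coe_one, WithBot.coe_lt_coe, Order.lt_one_iff] at hlt
      rw [hlt]; rfl

end Groth.Agent.VarBase
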