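import Groth.Agent.VarBase.Decomp
import Groth.Agent.VarBase.NakaiCrit

/-!
# Integral closed subschemes as ideal sheaves
-/

set_option autoImplicit false
set_option linter.style.haveILetI false
set_option backward.isDefEq.respectTransparency false
set_option backward.isDefEq.respectTransparency.types false

universe u

open CategoryTheory CategoryTheory.Limits AlgebraicGeometry TopologicalSpace

noncomputable section

namespace Groth.Agent.VarBase

/-- An integral closed subscheme is cut out by an ideal sheaf with integral subscheme and the same structure
module. -/
theorem exists_ideal_of_integral {X Z : Scheme.{u}} (i : Z ⟶ X) [IsClosedImmersion i] [IsIntegral Z] :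
    ∃ C : X.IdealSheafData, IsIntegral C.subscheme ∧ (C.support : Set X) = Set.range i ∧
      topologicalKrullDim ↥(C.support : Set X) = topologicalKrullDim Z ∧
      Nonempty (ClSub.quotMod C ≅ (Coh.push i).obj (Coh.structureModule Z)) := by
  let ξ := i (genericPoint Z)
  have hr : Set.range i = closure ({ξ} : Set X) := QCoh.range_eq_closure i
  let I := clIdeal ξ
  have hrI : Set.range I.subschemeι = Set.range i := by rw [range_clIdeal, hr]
  haveI : IrreducibleSpace I.subscheme := by
    have hirr : IsIrreducible (Set.range I.subschemeι) := by
      rw [range_clIdeal]; exact isIrreducible_singleton.closure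
    haveI := Subtype.irreducibleSpace hirr
    exact (I.subschemeι.isEmbedding.toHomeomorph).irreducibleSpace_iff.2 inferInstance
  haveI : IsIntegral I.subscheme := isIntegral_of_irreducibleSpace_of_isReduced I.subscheme
  have hs : (I.support : Set X) = Set.range i := (I.range_subschemeι).symm.trans hrI
  refine ⟨I, inferInstance, hs, ?_, QCoh.push_structure_iso i I.subschemeι hrI⟩
  rw [← dim_range (X := X) i]
  exact congrArg (fun T : Set X => topologicalKrullDim ↥T) hs

/-- The dimension of the subscheme of an ideal sheaf. -/
theorem dim_subscheme {X : Scheme.{u}} (C : X.IdealSheafData) :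
    topologicalKrullDim C.subscheme = topologicalKrullDim ↥(C.support : Set X) := by
  rw [← dim_range (X := X) C.subschemeι]
  exact congrArg (fun T : Set X => topologicalKrullDim ↥T) C.range_subschemeι

end Groth.Agent.VarBase
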