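import Groth.Agent.VarBase.NakaiCrit
import Groth.Agent.VarBase.IntegralSub
import Groth.Agent.ResSurf.GGSpan
import Groth.Agent.Lib.AVAmple
import Groth.Agent.Pic13Lib.CurveSec

/-!
# Globally generated modules that are ample on curves
-/

set_option autoImplicit false
set_option linter.style.haveILetI false
set_option linter.unusedSectionVars false
set_option backward.isDefEq.respectTransparency false
set_option backward.isDefEq.respectTransparency.types false

universe u

open CategoryTheory CategoryTheory.Limits AlgebraicGeometry TopologicalSpace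

noncomputable section

namespace Groth.Agent.VarBase

open Groth.Agent.H23.TrivBasic

/-- A globally generated invertible module is generated by one section near each point. -/
theorem exists_mem_locus {X : Scheme.{u}} {L : X.Modules} (hL : PicF.IsInvertible L)
    (hgen : Curv2.IsGloballyGenerated L) (x : X) : ∃ t : Γ(L, ⊤), x ∈ locus t := by
  obtain ⟨U, hxU, e, he⟩ := InvX.exists_frame hL x
  by_contra! hcon
  have hsp := ResSurf.span_germ_eq_top hgen x
  have hle : Submodule.span (X.presheaf.stalk x)
      (Set.range fun t : Γ(L, ⊤) => L.presheaf.germ ⊤ x trivial t) ≤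
      (IsLocalRing.maximalIdeal (X.presheaf.stalk x)) • (⊤ : Submodule (X.presheaf.stalk x) (L.presheaf.stalk x)) := by
    refine Submodule.span_le.2 ?_
    rintro _ ⟨t, rfl⟩
    obtain ⟨g, hg⟩ := he.exists_coord le_rfl (AModX.res L (le_top : U ≤ ⊤) t)
    rw [AModX.res_self] at hg
    have hb := locus_eq_basicOpen (s := t) he hg
    have hgm : X.presheaf.germ U x hxU g ∈ IsLocalRing.maximalIdeal (X.presheaf.stalk x) := by
      rw [IsLocalRing.mem_maximalIdeal, mem_nonunits_iff]
      intro hu
      have hx : x ∈ X.basicOpen g := (X.mem_basicOpen g x hxU).2 hu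
      exact hcon t (hb.ge hx).1
    have h : (L.presheaf.germ ⊤ x trivial t) =
        X.presheaf.germ U x hxU g • L.presheaf.germ U x hxU e := by
      rw [← QCoh.germ_smul' L hxU, ← hg]
      exact (L.presheaf.germ_res_apply (homOfLE (le_top : U ≤ ⊤)) x hxU t).symm
    show _ ∈ _
    rw [SetLike.mem_coe]
    beta_reduce
    rw [h]
    exact Submodule.smul_mem_smul hgm Submodule.mem_top
  rw [hsp, top_le_iff] at hle
  obtain ⟨a, ha⟩ := (InvX.IsFrame.germ_bijective he hxU).2 (L.presheaf.germ U x hxU e)
  haveI : Module.Finite (X.presheaf.stalk x) (L.presheaf.stalk x) :=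
    Module.Finite.of_surjective (LinearMap.toSpanSingleton (X.presheaf.stalk x) (L.presheaf.stalk x)
      (L.presheaf.germ U x hxU e)) (InvX.IsFrame.germ_bijective he hxU).2
  have h0 : (⊤ : Submodule (X.presheaf.stalk x) (L.presheaf.stalk x)) = ⊥ :=
    Submodule.eq_bot_of_le_smul_of_le_jacobson_bot _ _ Module.Finite.fg_top hle.ge
      (IsLocalRing.maximalIdeal_le_jacobson _)
  have he0 : L.presheaf.germ U x hxU e = 0 := (Submodule.mem_bot _).1 (h0 ▸ Submodule.mem_top)
  exact one_ne_zero ((InvX.IsFrame.germ_bijective he hxU).1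
    (show (1 : X.presheaf.stalk x) • L.presheaf.germ U x hxU e = (0 : X.presheaf.stalk x) • L.presheaf.germ U x hxU e by
      rw [he0, smul_zero, smul_zero]))

variable (k : Type u) [Field k]

/-- An infinite variety contains a curve. -/
theorem exists_curve {Z : Scheme.{u}} [Z.Over (Spec (CommRingCat.of k))]
    [IsProper (Z ↘ Spec (CommRingCat.of k))] [IsIntegral Z] (h : ¬ Finite Z) :
    ∃ (C : Scheme.{u}) (c : C ⟶ Z) (_ : IsClosedImmersion c) (_ : IsIntegral C), topologicalKrullDim C = 1 := by
  obtain ⟨z, hzs, hz⟩ := VarDim.exists_closed_specialization (Z ↘ Spec (CommRingCat.of k)) (genericPoint Z)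
  have hne : genericPoint Z ≠ z := fun e => h (by
    have : (Set.univ : Set Z) = {z} := by
      rw [← genericPoint_closure Z, e, hz.closure_eq]
    exact Set.finite_univ_iff.1 (this ▸ Set.finite_singleton z))
  obtain ⟨C, c, hc, hC, hd, -⟩ := Pic13Lib.exists_curve_through (Z ↘ Spec (CommRingCat.of k)) hz hne
  exact ⟨C, c, hc, hC, hd⟩

/-- Globally generated and ample on curves means ample. -/
theorem isAmple_of_gen_of_curves {X : Scheme.{u}} [X.Over (Spec (CommRingCat.of k))]
    [IsProper (X ↘ Spec (CommRingCat.of k))] {L : X.Modules} (hL : PicF.IsInvertible L)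
    (hgen : Curv2.IsGloballyGenerated L)
    (hcurves : ∀ C : X.IdealSheafData, IsIntegral C.subscheme →
      topologicalKrullDim (C.support : Set X) = 1 →
        CohB1.IsAmple ((Scheme.Modules.pullback C.subschemeι).obj L)) :
    CohB1.IsAmple L := by
  refine AVAmple.isAmple_of_nontriv (X ↘ Spec (CommRingCat.of k)) hL (exists_mem_locus hL hgen)
    fun {Z} j hj hZ htriv => ?_
  haveI := hj
  haveI := hZ
  by_contra hfin
  letI : Z.Over (Spec (CommRingCat.of k)) := ⟨j ≫ (X ↘ Spec (CommRingCat.of k))⟩
  haveI : IsProper (Z ↘ Spec (CommRingCat.of k)) := isProper_sub j k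
  obtain ⟨C, c, hc, hC, hd⟩ := exists_curve k hfin
  haveI := hc
  haveI := hC
  obtain ⟨I, hI, hIs, hId, -⟩ := exists_ideal_of_integral (c ≫ j)
  have ha := hcurves I hI (hId.trans hd)
  obtain ⟨g, hg⟩ := H23.RedSub.exists_lift_closed (c ≫ j) I.subschemeι
    (by rw [Scheme.IdealSheafData.range_subschemeι, hIs])
  haveI : IsClosedImmersion g := by
    haveI : IsClosedImmersion (g ≫ I.subschemeι) := by rw [hg]; infer_instance
    exact IsClosedImmersion.of_comp_isClosedImmersion g I.subschemeι
  haveI : CompactSpace X := QuasiCompact.compactSpace_of_compactSpace (X ↘ Spec (CommRingCat.of k))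
  haveI : CompactSpace I.subscheme := I.subschemeι.isClosedEmbedding.compactSpace
  haveI : CompactSpace C := g.isClosedEmbedding.compactSpace
  have ha' := AmpleVan.isAmple_pullback_of_isEmbedding g g.isClosedEmbedding.isEmbedding ha
  obtain ⟨τ⟩ := htriv.pullback c
  have e : (Scheme.Modules.pullback g).obj ((Scheme.Modules.pullback I.subschemeι).obj L) ≅ Coh.structureModule C :=
    (Scheme.Modules.pullbackComp g I.subschemeι).app L ≪≫ (Scheme.Modules.pullbackCongr hg).app L ≪≫
      ((Scheme.Modules.pullbackComp c j).app L).symm ≪≫ τ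
  letI : C.Over (Spec (CommRingCat.of k)) := ⟨c ≫ (Z ↘ Spec (CommRingCat.of k))⟩
  haveI : IsProper (C ↘ Spec (CommRingCat.of k)) := isProper_sub c k
  haveI := finite_of_ample_structure k (X := C) (AmpleX.isAmple_of_iso e ha')
  haveI : JacobsonSpace C := LocallyOfFiniteType.jacobsonSpace (C ↘ Spec (CommRingCat.of k))
  haveI : DiscreteTopology C := inferInstance
  have h0 := hd ▸ topologicalKrullDim_zero_of_discreteTopology C
  exact absurd h0 (not_le.2 zero_lt_one)

end Groth.Agent.VarBase
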