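import Groth.Agent.AmpleVan.Criterion
import Groth.Agent.AmpleVan.Uniform
import Groth.Agent.AmpleVan.Pull
import Groth.Agent.QCoh.Filtration
import Groth.Agent.VarBase.Restrict
import Groth.Agent.Triage.SchDense

/-!
# Ampleness is tested on integral closed subschemes, hence on irreducible components
-/

set_option linter.style.haveILetI false
set_option backward.isDefEq.respectTransparency false
set_option backward.isDefEq.respectTransparency.types false

universe u

open CategoryTheory CategoryTheory.Limits AlgebraicGeometry TopologicalSpace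

noncomputable section

namespace Groth.Agent.VarBase

variable (A : Type u) [CommRing A] [IsNoetherianRing A] {X : Scheme.{u}} [X.Over (Spec (CommRingCat.of A))]
  [IsProper (X ↘ Spec (CommRingCat.of A))]

omit [IsNoetherianRing A] in
include A in
theorem isNoetherian_of_proper' [IsNoetherianRing A] : IsNoetherian X :=
  haveI : CompactSpace X := AmpleVan.compactSpace_of_proper (A := A)
  haveI : IsLocallyNoetherian X := LocallyOfFiniteType.isLocallyNoetherian (X ↘ Spec (CommRingCat.of A))
  {}

include A in
/-- If `L` is ample on every integral closed subscheme, high twists kill `H¹` of every coherent module. -/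
theorem exists_vanishing_one {L : X.Modules} (hL : PicF.IsInvertible L)
    (h : ∀ (Z : Scheme.{u}) (i : Z ⟶ X), IsClosedImmersion i → IsIntegral Z →
      CohB1.IsAmple ((Scheme.Modules.pullback i).obj L))
    {M : X.Modules} (hM : Coh.IsCoh M) :
    ∃ N, ∀ n, N ≤ n → Subsingleton (Coh.HH X (CohB1.tensorMod M (CohB1.tensorPow L n)) 1) := by
  haveI := isNoetherian_of_proper' A (X := X)
  have hfilt := QCoh.filt_of_isCoh hM
  clear hM
  induction hfilt with
  | @zero M hz =>
    refine ⟨0, fun n _ => Euler.subsingleton_HH_of_isZero ?_ 1⟩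
    haveI := AmpleVan.isEquivalence_tw (InvX.isInvertible_tensorPow hL n)
    exact (AmpleVan.tw (CohB1.tensorPow L n)).map_isZero hz
  | @step N M φ _ _ hNc hMc hex ih =>
    obtain ⟨Z, i, hi, hZ, I, ι, hι, hI, -, ⟨e⟩⟩ := hex
    obtain ⟨N₁, h₁⟩ := ih
    haveI := hi
    haveI := hι
    letI : Z.Over (Spec (CommRingCat.of A)) := ⟨i ≫ (X ↘ Spec (CommRingCat.of A))⟩
    haveI : IsProper (Z ↘ Spec (CommRingCat.of A)) :=
      show IsProper (i ≫ (X ↘ Spec (CommRingCat.of A))) from inferInstance
    haveI := isNoetherian_of_proper' A (X := Z)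
    have hIc : Coh.IsCoh I := QCoh.isCoh_of_mono ι QCoh.isCoh_structureModule' hI
    obtain ⟨N₂, h₂⟩ := AmpleVan.exists_vanishing (A := A) (h Z i hi hZ) hIc
    refine ⟨max N₁ N₂, fun n hn => ?_⟩
    have hP := InvX.isInvertible_tensorPow hL n
    haveI := AmpleVan.isEquivalence_tw hP
    let S : ShortComplex X.Modules := ShortComplex.mk φ (cokernel.π φ) (cokernel.condition φ)
    have hS : S.ShortExact := .mk' (ShortComplex.exact_cokernel φ) ‹_› inferInstance
    refine QCoh.subsingleton_HH_X₂ (hS.map_of_exact (AmpleVan.tw (CohB1.tensorPow L n))) 1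
      (h₁ n (le_trans (le_max_left _ _) hn)) ?_
    obtain ⟨p⟩ := nonempty_proj i I (CohB1.tensorPow L n)
    obtain ⟨q⟩ := nonempty_pullback_tensorPow i L n
    let a : (AmpleVan.tw (CohB1.tensorPow L n)).obj (cokernel φ) ≅
        (Coh.push i).obj (CohB1.tensorMod I (CohB1.tensorPow ((Scheme.Modules.pullback i).obj L) n)) :=
      (AmpleVan.tw (CohB1.tensorPow L n)).mapIso e ≪≫ p ≪≫
        (Coh.push i).mapIso (PicGrp.tensorModIso (Iso.refl I) q)
    have hq : Coh.IsQCoh (CohB1.tensorMod I (CohB1.tensorPow ((Scheme.Modules.pullback i).obj L) n)) :=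
      (AmpleVan.isCoh_tensor hIc (AmpleVan.isCoh_invertible
        (InvX.isInvertible_tensorPow (PicClLib.isInvertible_pullback i hL) n))).1
    obtain ⟨ee⟩ := PnCoh.exists_linearEquiv_push A i rfl hq 1
    haveI := h₂ n (le_trans (le_max_right _ _) hn) 0
    exact QCoh.subsingleton_HH_of_iso a.symm 1 ee.symm.toEquiv.subsingleton

include A in
/-- Ampleness is tested on integral closed subschemes. -/
theorem isAmple_of_integral_subschemes {L : X.Modules} (hL : PicF.IsInvertible L)
    (h : ∀ (Z : Scheme.{u}) (i : Z ⟶ X), IsClosedImmersion i → IsIntegral Z →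
      CohB1.IsAmple ((Scheme.Modules.pullback i).obj L)) :
    CohB1.IsAmple L := by
  haveI := isNoetherian_of_proper' A (X := X)
  refine AmpleVan.isAmple_of_HH_one hL fun Z _ => ?_
  obtain ⟨N, hN⟩ := exists_vanishing_one A hL h (QCoh.isCoh_of_mono (QCoh.vanIdeal Z).ι
    QCoh.isCoh_structureModule' (QCoh.isQCoh_vanIdeal Z))
  exact ⟨N, hN (N + 1) (Nat.le_succ N)⟩

omit [IsNoetherianRing A] [IsProper (X ↘ Spec (CommRingCat.of A))] in
/-- A reduced closed subscheme factors through the reduced structure of a larger closed set. -/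
theorem exists_factor_vanishingIdeal {Z : Scheme.{u}} (i : Z ⟶ X) [IsClosedImmersion i] [IsReduced Z]
    (W : Closeds X) (h : Set.range i ⊆ W) :
    ∃ j : Z ⟶ (Scheme.IdealSheafData.vanishingIdeal W).subscheme, IsClosedImmersion j ∧
      j ≫ (Scheme.IdealSheafData.vanishingIdeal W).subschemeι = i := by
  let w := (Scheme.IdealSheafData.vanishingIdeal W).subschemeι
  have hle : w.ker ≤ i.ker := by
    rw [Scheme.IdealSheafData.ker_subschemeι]
    refine le_trans (Scheme.IdealSheafData.vanishingIdeal_antimono ?_) (Triage.SchDense.vanishingIdeal_le_ker i)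
    exact W.isClosed.closure_subset_iff.2 h
  refine ⟨IsClosedImmersion.lift w i hle, ?_, IsClosedImmersion.lift_fac _ _ _⟩
  haveI : IsClosedImmersion (IsClosedImmersion.lift w i hle ≫ w) := by
    rw [IsClosedImmersion.lift_fac]; infer_instance
  exact IsClosedImmersion.of_comp_isClosedImmersion _ w

include A in
/-- Ampleness is tested on the irreducible components. -/
theorem isAmple_iff_components {L : X.Modules} (hL : PicF.IsInvertible L) :
    CohB1.IsAmple L ↔ ∀ W : Closeds X, (W : Set X) ∈ irreducibleComponents X →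
      CohB1.IsAmple ((Scheme.Modules.pullback (Scheme.IdealSheafData.vanishingIdeal W).subschemeι).obj L) := by
  haveI := isNoetherian_of_proper' A (X := X)
  refine ⟨fun h W _ => ?_, fun h => isAmple_of_integral_subschemes A hL fun Z i _ _ => ?_⟩
  · let w := (Scheme.IdealSheafData.vanishingIdeal W).subschemeι
    haveI : CompactSpace (Scheme.IdealSheafData.vanishingIdeal W).subscheme := w.isClosedEmbedding.compactSpace
    exact AmpleVan.isAmple_pullback_of_isEmbedding w w.isClosedEmbedding.isEmbedding h
  · have hirr : IsIrreducible (Set.range i) := by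
      rw [← Set.image_univ]
      exact (IrreducibleSpace.isIrreducible_univ Z).image _ i.continuous.continuousOn
    obtain ⟨W, hW, hiW⟩ := exists_mem_irreducibleComponents_subset_of_isIrreducible _ hirr
    obtain ⟨j, hj, hji⟩ := exists_factor_vanishingIdeal i ⟨W, isClosed_of_mem_irreducibleComponents W hW⟩ hiW
    haveI := hj
    haveI : CompactSpace Z := i.isClosedEmbedding.compactSpace
    exact AmpleX.isAmple_of_iso ((Scheme.Modules.pullbackComp j _).app L ≪≫
        (Scheme.Modules.pullbackCongr hji).app L)
      (AmpleVan.isAmple_pullback_of_isEmbedding j j.isClosedEmbedding.isEmbedding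
        (h ⟨W, isClosed_of_mem_irreducibleComponents W hW⟩ hW))

end Groth.Agent.VarBase
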