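import Groth.Agent.VarBase.ProjForm
import Groth.Agent.VarBase.CurveDeg
import Groth.Agent.VarBase.NakaiCrit
import Groth.Agent.QCoh.RpushStalk
import Groth.Agent.QCoh.AffineCohom
import Groth.Agent.CycLib.Push
import Groth.Agent.CycLib.DivMap
import Groth.Agent.VarDim.Top
import Groth.Agent.VarDim.Fibre
import Groth.Agent.H23.RedSub

/-!
# Direct images along generically finite morphisms, and intersection numbers of pullbacks
-/

set_option autoImplicit false
set_option linter.style.haveILetI false
set_option linter.unusedSectionVars false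
set_option backward.isDefEq.respectTransparency false
set_option backward.isDefEq.respectTransparency.types false
set_option maxHeartbeats 800000

universe u

open CategoryTheory CategoryTheory.Limits AlgebraicGeometry TopologicalSpace

noncomputable section

namespace Groth.Agent.VarBase

open Groth.Agent.HilbPoly (Additive additive_euler iterD additive_iterD)

/-- Direct images of coherent modules along proper morphisms are coherent. -/
theorem isCoh_push_proper {X Y : Scheme.{u}} [AlgebraicGeometry.IsNoetherian Y] [HasInjectiveResolutions X.Modules]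
    (f : X ⟶ Y) [IsProper f] {M : X.Modules} (hM : Coh.IsCoh M) : Coh.IsCoh ((Coh.push f).obj M) := by
  haveI := SpObjSS.enoughInjectives_of_hasInjectiveResolutions (C := X.Modules)
  haveI := QCoh.preservesFiniteLimits_push f
  exact QCoh.isCoh_of_mono ((Scheme.Modules.pushforward f).rightDerivedZeroIsoSelf.app M).inv
    (isCoh_Rpush f hM 0) (QCoh.isQCoh_pushforward f hM.1)

/-- Between generic points of integral schemes the length of the direct image is the residue degree. -/
theorem length_push_eq_residueDegree_of_proper {X Y : Scheme.{u}} [IsIntegral X] [IsIntegral Y] [AlgebraicGeometry.IsNoetherian X] [AlgebraicGeometry.IsNoetherian Y]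
    [HasInjectiveResolutions X.Modules] (f : X ⟶ Y) [IsProper f] (hf : IsClosedMap f)
    (hx : ∀ z : X, f z = f (genericPoint X) → z = genericPoint X) (hξ : f (genericPoint X) = genericPoint Y) :
    Module.length (Y.presheaf.stalk (f (genericPoint X)))
      (((Coh.push f).obj (Coh.structureModule X)).presheaf.stalk (f (genericPoint X))) =
      (f.residueDegree (genericPoint X) : ℕ∞) := by
  let x := genericPoint X
  have hYf : IsField (Y.presheaf.stalk (f x)) := by rw [hξ]; exact Field.toIsField Y.functionField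
  letI := hYf.toField
  letI := (f.stalkMap x).hom.toAlgebra
  letI : Module (Y.presheaf.stalk (f x)) ((Coh.structureModule X).presheaf.stalk x) :=
    Module.compHom _ (f.stalkMap x).hom
  haveI : IsScalarTower (Y.presheaf.stalk (f x)) (X.presheaf.stalk x) ((Coh.structureModule X).presheaf.stalk x) :=
    IsScalarTower.of_algebraMap_smul fun _ _ => rfl
  have hcoh : Coh.IsCoh ((Coh.push f).obj (Coh.structureModule X)) := isCoh_push_proper f QCoh.isCoh_structureModule'
  haveI : Module.Finite (Y.presheaf.stalk (f x)) (((Coh.push f).obj (Coh.structureModule X)).presheaf.stalk (f x)) :=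
    QCoh.finite_stalk_of_isFT hcoh.1 hcoh.2 (f x)
  rw [Module.length_eq_finrank]
  refine congrArg Nat.cast ?_
  let e₁ : ((Coh.push f).obj (Coh.structureModule X)).presheaf.stalk (f x) ≃ₗ[Y.presheaf.stalk (f x)]
      (Coh.structureModule X).presheaf.stalk x :=
    { pushStalkEquiv f hf hx _ with map_smul' := pushStalkEquiv_smul f hf hx _ }
  let e₂ : (Coh.structureModule X).presheaf.stalk x ≃ₗ[X.presheaf.stalk x] X.presheaf.stalk x :=
    (LinearEquiv.ofBijective (LinearMap.toSpanSingleton (X.presheaf.stalk x) _ (H23.UnitSec.one x))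
      ⟨fun a b h => sub_eq_zero.1 (H23.UnitSec.eq_zero_of_smul_one (a - b) (by rw [sub_smul]; exact sub_eq_zero.2 h)),
        fun m => Submodule.mem_span_singleton.1 ((H23.UnitSec.span_one x).ge (Submodule.mem_top : m ∈ ⊤))⟩).symm
  rw [(e₁.trans (e₂.restrictScalars _)).finrank_eq, Scheme.Hom.residueDegree]
  letI := (f.residueFieldMap x).hom.toAlgebra
  have hX : IsField (X.presheaf.stalk x) := Field.toIsField X.functionField
  have hbY : Function.Bijective (Y.residue (f x)).hom :=
    ⟨(RingHom.injective_iff_ker_eq_bot _).2 ((IsLocalRing.ker_residue).trans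
      (IsLocalRing.isField_iff_maximalIdeal_eq.1 hYf)), Y.residue_surjective _⟩
  have hbX : Function.Bijective (X.residue x).hom :=
    ⟨(RingHom.injective_iff_ker_eq_bot _).2 ((IsLocalRing.ker_residue).trans
      (IsLocalRing.isField_iff_maximalIdeal_eq.1 hX)), X.residue_surjective _⟩
  refine Algebra.finrank_eq_of_equiv_equiv (RingEquiv.ofBijective _ hbY) (RingEquiv.ofBijective _ hbX) ?_
  ext a
  exact (IsLocalRing.ResidueField.map_residue _ a)

theorem residueDegree_congr_hom {W Z : Scheme.{u}} {a b : W ⟶ Z} (e : a = b) (w : W) :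
    a.residueDegree w = b.residueDegree w := by subst e; rfl

variable (k : Type u) [Field k] {Z W : Scheme.{u}} [Z.Over (Spec (CommRingCat.of k))]
  [W.Over (Spec (CommRingCat.of k))] [IsProper (Z ↘ Spec (CommRingCat.of k))]
  [IsProper (W ↘ Spec (CommRingCat.of k))] [IsIntegral Z] [IsIntegral W]
  (g : Z ⟶ W) (hg : g ≫ (W ↘ Spec (CommRingCat.of k)) = Z ↘ Spec (CommRingCat.of k))

include hg in
/-- A dominant morphism of varieties of the same dimension has one point over the generic point. -/
theorem fibre_generic (hη : g (genericPoint Z) = genericPoint W)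
    (hd : topologicalKrullDim Z = topologicalKrullDim W) :
    ∀ z : Z, g z = g (genericPoint Z) → z = genericPoint Z := fun z hz => by
  haveI : AlgebraicGeometry.IsNoetherian W := CurveCohLib.isNoetherian_of_proper (k := k) (X := W)
  haveI : AlgebraicGeometry.IsNoetherian Z := CurveCohLib.isNoetherian_of_proper (k := k) (X := Z)
  refine (VarDim.eq_of_specializes_of_deg_le (Z ↘ Spec (CommRingCat.of k)) (genericPoint_specializes z) ?_).symm
  have h1 := VarDim.deg_map_le g (W ↘ Spec (CommRingCat.of k)) hg z
  rw [hz, hη] at h1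
  have e1 := VarDim.topologicalKrullDim_eq_deg_genericPoint (Z ↘ Spec (CommRingCat.of k))
  have e2 := VarDim.topologicalKrullDim_eq_deg_genericPoint (W ↘ Spec (CommRingCat.of k))
  rw [e1, e2] at hd
  have := Nat.cast_injective (R := ℕ∞) (WithBot.coe_injective hd)
  exact this.le.trans h1

/-- A proper morphism is finite over a neighbourhood of a point with isolated preimage. -/
theorem exists_isFinite_nhd {X Y : Scheme.{u}} (q : X ⟶ Y) [IsProper q] (x : X)
    (hx : ∀ z : X, q z = q x → z = x) :
    ∃ U : Y.Opens, q x ∈ U ∧ IsFinite (q ∣_ U) := by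
  have hQ : ∀ z : X, q z = q x → z ∈ q.quasiFiniteLocus := fun z hz => by
    obtain rfl := hx z hz
    refine q.quasiFiniteAt_iff_isOpen_singleton_asFiber.2 ?_
    convert isOpen_univ (X := q.fiber (q z))
    refine Set.eq_univ_of_forall fun w => ?_
    apply (q.fiberHomeo (q z)).injective
    exact Subtype.ext ((hx _ ((q.fiberHomeo (q z)) w).2).trans (hx _ ((q.fiberHomeo (q z)) (q.asFiber z)).2).symm)
  let U : Y.Opens := ⟨(q '' (q.quasiFiniteLocus : Set X)ᶜ)ᶜ,
    (q.isClosedMap _ q.quasiFiniteLocus.isOpen.isClosed_compl).isOpen_compl⟩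
  refine ⟨U, fun ⟨z, hz, e⟩ => hz (hQ z e), ?_⟩
  haveI : IsProper (q ∣_ U) := IsZariskiLocalAtTarget.restrict (P := @IsProper) inferInstance U
  refine isFinite_of_fibres (q ∣_ U) fun y => ?_
  have key : ∀ y' : Y, y' ∈ U → (q ⁻¹' {y'}).Finite := fun y' hy' => by
    haveI : DiscreteTopology (q.fiber y') := discreteTopology_iff_isOpen_singleton.2 fun w => by
      have hw : q (((q.fiberHomeo y') w).1) = y' := ((q.fiberHomeo y') w).2
      have hwQ : ((q.fiberHomeo y') w).1 ∈ q.quasiFiniteLocus := by
        by_contra hc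
        exact hy' ⟨_, hc, hw⟩
      have h := q.quasiFiniteAt_iff_isOpen_singleton_asFiber.1 hwQ
      have : ∀ (y'' : Y) (e : y'' = y') (w' : q.fiber y''), IsOpen ({w'} : Set (q.fiber y'')) →
          ((q.fiberHomeo y'') w').1 = ((q.fiberHomeo y') w).1 → IsOpen ({w} : Set (q.fiber y')) := by
        rintro y'' rfl w' hw' e'
        rwa [show w = w' from ((q.fiberHomeo y'').injective (Subtype.ext e')).symm]
      exact this _ hw _ h (by simp [Scheme.Hom.asFiber, Scheme.Hom.fiberHomeo])
    haveI : CompactSpace (q.fiber y') := inferInstance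
    haveI : Finite (q.fiber y') := finite_of_compact_of_discrete
    haveI : Finite ↥(q ⁻¹' {y'}) := Finite.of_equiv _ (q.fiberHomeo y').toEquiv
    exact Set.toFinite _
  obtain ⟨y', hy'⟩ := y
  refine ((key y' hy').preimage (f := (Subtype.val : ↥(q ⁻¹ᵁ U) → X)) Subtype.val_injective.injOn).subset
    fun z hz => ?_
  show q (z : X) = y'
  rw [← morphismRestrict_base_coe q U z]
  exact congrArg Subtype.val hz

/-- Higher direct images vanish at a point over which the morphism is finite. -/
theorem subsingleton_stalk_Rpush {X Y : Scheme.{u}} [HasInjectiveResolutions X.Modules] (q : X ⟶ Y)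
    [IsProper q] {y : Y} {U : Y.Opens} (hy : y ∈ U) [IsFinite (q ∣_ U)] {F : X.Modules} (hF : Coh.IsQCoh F)
    (p : ℕ) : Subsingleton (((Coh.Rpush q (p + 1)).obj F).presheaf.stalk y) := by
  let X₁ := pullback q (Y.fromSpecStalk y)
  letI : X₁.Over (Spec (CommRingCat.of (Y.presheaf.stalk y))) := ⟨pullback.snd q (Y.fromSpecStalk y)⟩
  have hle : Set.range (Y.fromSpecStalk y) ⊆ Set.range U.ι := by
    rw [Scheme.range_fromSpecStalk, Scheme.Opens.range_ι]
    exact fun z hz => hz.mem_open U.2 hy
  have hl : IsOpenImmersion.lift U.ι (Y.fromSpecStalk y) hle ≫ U.ι = Y.fromSpecStalk y :=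
    IsOpenImmersion.lift_fac _ _ _
  have h1 : IsPullback (pullback.fst q (Y.fromSpecStalk y)) (pullback.snd q (Y.fromSpecStalk y)) q
      (IsOpenImmersion.lift U.ι (Y.fromSpecStalk y) hle ≫ U.ι) := by
    rw [hl]; exact IsPullback.of_hasPullback q _
  have hsq := (isPullback_morphismRestrict q U).flip
  let m : X₁ ⟶ (q ⁻¹ᵁ U).toScheme := hsq.lift (pullback.fst q (Y.fromSpecStalk y))
    (pullback.snd q (Y.fromSpecStalk y) ≫ IsOpenImmersion.lift U.ι (Y.fromSpecStalk y) hle)
    (by rw [Category.assoc, hl]; exact pullback.condition)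
  have h2 : IsPullback m (pullback.snd q (Y.fromSpecStalk y)) (q ∣_ U)
      (IsOpenImmersion.lift U.ι (Y.fromSpecStalk y) hle) :=
    IsPullback.of_right (by rw [hsq.lift_fst]; exact h1) (hsq.lift_snd _ _ _) hsq
  haveI : IsAffineHom (pullback.snd q (Y.fromSpecStalk y)) :=
    MorphismProperty.of_isPullback (P := @IsAffineHom) h2 inferInstance
  haveI : IsAffine X₁ := isAffine_of_isAffineHom (pullback.snd q (Y.fromSpecStalk y))
  obtain ⟨e⟩ := QCoh.nonempty_stalk_HH q hF y (p + 1) X₁ (pullback.fst q (Y.fromSpecStalk y))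
    (IsPullback.of_hasPullback q _)
  haveI := QCoh.subsingleton_HH_of_isAffine (X := X₁)
    (QCoh.isQCoh_pullback (pullback.fst q (Y.fromSpecStalk y)) hF) p
  exact e.toEquiv.subsingleton

include hg in
/-- The length of the direct image at the generic point is the degree. -/
theorem lenAt_push_generic [HasInjectiveResolutions Z.Modules] [IsProper g]
    (hη : g (genericPoint Z) = genericPoint W)
    (hd : topologicalKrullDim Z = topologicalKrullDim W) :
    lenAt ((Coh.push g).obj (Coh.structureModule Z)) (g (genericPoint Z)) =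
      g.residueDegree (genericPoint Z) := by
  haveI : AlgebraicGeometry.IsNoetherian W := CurveCohLib.isNoetherian_of_proper (k := k) (X := W)
  haveI : AlgebraicGeometry.IsNoetherian Z := CurveCohLib.isNoetherian_of_proper (k := k) (X := Z)
  rw [lenAt, length_push_eq_residueDegree_of_proper g g.isClosedMap (fibre_generic k g hg hη hd) hη,
    ENat.toNat_natCast]

include hg in
/-- Intersection symbols of pull backs along a dominant morphism of varieties of the same dimension. -/
theorem iterD_pullback_dominant {d : ℕ} (hdZ : topologicalKrullDim Z = (d : WithBot ℕ∞))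
    (hdW : topologicalKrullDim W = (d : WithBot ℕ∞)) (hη : g (genericPoint Z) = genericPoint W)
    {l : List W.Modules} (hl : ∀ A ∈ l, PicF.IsInvertible A) (hlen : l.length = d) :
    iterD (l.map (Scheme.Modules.pullback g).obj) (Curv2.euler k Z) (Coh.structureModule Z) =
      (g.residueDegree (genericPoint Z) : ℤ) * iterD l (Curv2.euler k W) (Coh.structureModule W) := by
  haveI : AlgebraicGeometry.IsNoetherian W := CurveCohLib.isNoetherian_of_proper (k := k) (X := W)
  haveI : AlgebraicGeometry.IsNoetherian Z := CurveCohLib.isNoetherian_of_proper (k := k) (X := Z)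
  haveI := isProper_over k g hg
  haveI : EnoughInjectives Z.Modules := inferInstance
  haveI : HasInjectiveResolutions Z.Modules := inferInstance
  have hd : topologicalKrullDim Z = topologicalKrullDim W := hdZ.trans hdW.symm
  let Ψ := iterD l (Curv2.euler k W)
  have hΨ : Additive Ψ := additive_iterD (additive_euler k) hl
  have hsm : ∀ L : W.Modules, Coh.IsCoh L → genericPoint W ∉ CohB1.support L → Ψ L = 0 := fun L hL hne => by
    refine HilbPoly.iterD_eq_zero d (additive_euler k) l hlen hl L hL ?_
    show topologicalKrullDim ↥(CohB1.support L) < (d : WithBot ℕ∞)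
    rw [← hdW]
    exact H23.TopDim.dim_lt_of_ssubset (X := ↥W)
      (by rw [hdW]; exact WithBot.coe_injective.ne (a₁ := (d : ℕ∞)) (a₂ := ⊤) (ENat.natCast_ne_top _))
      (QCoh.isClosed_support_of_isFT hL.1 hL.2) (fun h => hne (h ▸ Set.mem_univ _))
  obtain ⟨U, hU, hfin⟩ := exists_isFinite_nhd g (genericPoint Z) (fibre_generic k g hg hη hd)
  have hO : Coh.IsCoh (Coh.structureModule Z) := QCoh.isCoh_structureModule'
  rw [iterD_pullback_eq_rpushSum k g hg l hl _ hO]
  show ∑ᶠ i : ℕ, (-1 : ℤ) ^ i * Ψ ((Coh.Rpush g i).obj (Coh.structureModule Z)) = _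
  rw [finsum_eq_single _ 0 fun i hi => ?_]
  · rw [pow_zero, one_mul]
    have e0 : (Coh.Rpush g 0).obj (Coh.structureModule Z) ≅ (Coh.push g).obj (Coh.structureModule Z) :=
      haveI := QCoh.preservesFiniteLimits_push g
      (Scheme.Modules.pushforward g).rightDerivedZeroIsoSelf.app _
    rw [hΨ.iso _ _ ⟨e0⟩, eq_lenAt_smul k hΨ hsm (isCoh_push_proper g hO), ← hη,
      lenAt_push_generic k g hg hη hd, nsmul_eq_mul]
  · obtain ⟨p, rfl⟩ := Nat.exists_eq_succ_of_ne_zero hi
    rw [hsm _ (isCoh_Rpush g hO _) fun h => h ?_, mul_zero]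
    haveI := hfin
    rw [← hη]
    exact subsingleton_stalk_Rpush g hU hO.1 p

omit [IsIntegral W] in
/-- The projection formula for intersection numbers. -/
theorem iterD_pullback_eq_mul {X Y : Scheme.{u}} [X.Over (Spec (CommRingCat.of k))] [Y.Over (Spec (CommRingCat.of k))]
    [IsProper (X ↘ Spec (CommRingCat.of k))] [IsProper (Y ↘ Spec (CommRingCat.of k))] (f : Y ⟶ X)
    (hf : f ≫ (X ↘ Spec (CommRingCat.of k)) = Y ↘ Spec (CommRingCat.of k))
    {Z : Scheme.{u}} (i : Z ⟶ Y) [IsClosedImmersion i] [IsIntegral Z] {W : Scheme.{u}} (j : W ⟶ X)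
    [IsClosedImmersion j] [IsIntegral W] (g : Z ⟶ W) (hgj : g ≫ j = i ≫ f)
    (hη : g (genericPoint Z) = genericPoint W) {d : ℕ} (hdZ : topologicalKrullDim Z = (d : WithBot ℕ∞))
    {l : List X.Modules} (hl : ∀ A ∈ l, PicF.IsInvertible A) (hlen : l.length = d) :
    iterD (l.map (Scheme.Modules.pullback f).obj) (Curv2.euler k Y) ((Coh.push i).obj (Coh.structureModule Z)) =
      ((i ≫ f).residueDegree (genericPoint Z) : ℤ) *
        iterD l (Curv2.euler k X) ((Coh.push j).obj (Coh.structureModule W)) := by
  letI : Z.Over (Spec (CommRingCat.of k)) := ⟨i ≫ (Y ↘ Spec (CommRingCat.of k))⟩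
  letI : W.Over (Spec (CommRingCat.of k)) := ⟨j ≫ (X ↘ Spec (CommRingCat.of k))⟩
  haveI : IsProper (Z ↘ Spec (CommRingCat.of k)) := isProper_sub i k
  haveI : IsProper (W ↘ Spec (CommRingCat.of k)) := isProper_sub j k
  haveI : AlgebraicGeometry.IsNoetherian W := CurveCohLib.isNoetherian_of_proper (k := k) (X := W)
  haveI : AlgebraicGeometry.IsNoetherian Z := CurveCohLib.isNoetherian_of_proper (k := k) (X := Z)
  haveI : AlgebraicGeometry.IsNoetherian X := CurveCohLib.isNoetherian_of_proper (k := k) (X := X)
  have hg : g ≫ (W ↘ Spec (CommRingCat.of k)) = Z ↘ Spec (CommRingCat.of k) := by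
    show g ≫ j ≫ (X ↘ Spec (CommRingCat.of k)) = i ≫ (Y ↘ Spec (CommRingCat.of k))
    rw [reassoc_of% hgj, hf]
  have hlY : ∀ A ∈ l.map (Scheme.Modules.pullback f).obj, PicF.IsInvertible A := fun A hA => by
    obtain ⟨B, hB, rfl⟩ := List.mem_map.1 hA
    exact PicClLib.isInvertible_pullback f (hl B hB)
  have hlW : ∀ A ∈ l.map (Scheme.Modules.pullback j).obj, PicF.IsInvertible A := fun A hA => by
    obtain ⟨B, hB, rfl⟩ := List.mem_map.1 hA
    exact PicClLib.isInvertible_pullback j (hl B hB)
  have hcongr : iterD ((l.map (Scheme.Modules.pullback f).obj).map (Scheme.Modules.pullback i).obj)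
      (Curv2.euler k Z) (Coh.structureModule Z) =
      iterD ((l.map (Scheme.Modules.pullback j).obj).map (Scheme.Modules.pullback g).obj)
        (Curv2.euler k Z) (Coh.structureModule Z) := by
    refine IntNum47.iterD_congr (IntNum47.isoInv_euler k) ?_ _
    rw [List.map_map, List.map_map]
    refine List.forall₂_map_left_iff.2 (List.forall₂_map_right_iff.2 (List.forall₂_same.2 fun A _ => ?_))
    exact ⟨(Scheme.Modules.pullbackComp i f).app A ≪≫ (Scheme.Modules.pullbackCongr hgj.symm).app A ≪≫
      ((Scheme.Modules.pullbackComp g j).app A).symm⟩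
  have e1 := IntNum47.iterD_push k i rfl _ hlY _ (QCoh.isCoh_structureModule' (X := Z))
  have e2 := IntNum47.iterD_push k j rfl l hl _ (QCoh.isCoh_structureModule' (X := W))
  refine e1.trans (hcongr.trans ?_)
  rw [show iterD l (Curv2.euler k X) ((Coh.push j).obj (Coh.structureModule W)) = _ from e2]
  have hle : topologicalKrullDim W ≤ (d : WithBot ℕ∞) := by
    rw [VarDim.topologicalKrullDim_eq_deg_genericPoint (W ↘ Spec (CommRingCat.of k)), ← hη, ← hdZ,
      VarDim.topologicalKrullDim_eq_deg_genericPoint (Z ↘ Spec (CommRingCat.of k))]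
    exact WithBot.coe_le_coe.2 (Nat.cast_le.2
      (VarDim.deg_map_le g (W ↘ Spec (CommRingCat.of k)) hg (genericPoint Z)))
  rcases hle.lt_or_eq with hlt | heq
  · haveI := isProper_over k g hg
    haveI : EnoughInjectives Z.Modules := inferInstance
    haveI : HasInjectiveResolutions Z.Modules := inferInstance
    have hz : ∀ F : W.Modules, Coh.IsCoh F →
        iterD (l.map (Scheme.Modules.pullback j).obj) (Curv2.euler k W) F = 0 := fun F hF =>
      HilbPoly.iterD_eq_zero d (additive_euler k) _ (by rw [List.length_map, hlen]) hlW F hF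
        (((H23.TopDim.dim_le_dim_of_subset (Set.subset_univ _)).trans
          (VanGrowth.dim_univ (X := W)).le).trans_lt hlt)
    rw [hz _ QCoh.isCoh_structureModule', mul_zero, iterD_pullback_eq_rpushSum k g hg _ hlW _ QCoh.isCoh_structureModule']
    exact finsum_eq_zero_of_forall_eq_zero fun p => by
      rw [hz _ (isCoh_Rpush g QCoh.isCoh_structureModule' p), mul_zero]
  · rw [iterD_pullback_dominant k g hg hdZ heq hη hlW (by rw [List.length_map, hlen]),
      ← residueDegree_congr_hom hgj, CycLib.residueDegree_comp, CycLib.residueDegree_preimmersion (j := j), one_mul]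

end Groth.Agent.VarBase
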