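import Groth.Agent.VarBase.Leray
import Groth.Agent.IntNum47.Push

/-!
# The projection formula for intersection symbols
-/

set_option autoImplicit false
set_option linter.style.haveILetI false
set_option linter.unusedSectionVars false
set_option backward.isDefEq.respectTransparency false
set_option backward.isDefEq.respectTransparency.types false

universe u

open CategoryTheory CategoryTheory.Limits AlgebraicGeometry TopologicalSpace

noncomputable section

namespace Groth.Agent.VarBase

open Groth.Agent.HilbPoly (Additive additive_euler iterD additive_iterD)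

section General

variable {X Y : Scheme.{u}} (f : Y ⟶ X) [IsProper f] [AlgebraicGeometry.IsNoetherian X]
  [HasInjectiveResolutions Y.Modules]

/-- Twisting by a pulled back invertible module inside the alternating sum. -/
theorem rpushSum_tw {φ : X.Modules → ℤ} (hφ : Additive φ) {A : X.Modules} (hA : PicF.IsInvertible A)
    (G : Y.Modules) :
    rpushSum φ f ((AmpleVan.tw ((Scheme.Modules.pullback f).obj A)).obj G) =
      rpushSum (fun M => φ ((AmpleVan.tw A).obj M)) f G := by
  refine finsum_congr fun q => congrArg ((-1 : ℤ) ^ q * ·) ?_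
  obtain ⟨e⟩ := S0927.result f G A
    (fun y => let ⟨W, hy, he⟩ := InvEnd.isFinLocFreeOfRank_one hA y; ⟨W, 1, hy, he⟩) q
  exact hφ.iso _ _ ⟨(Coh.Rpush f q).mapIso (CurveTensor.commIso G _) ≪≫ e.symm ≪≫ CurveTensor.commIso A _⟩

theorem rpushSum_sub {φ ψ : X.Modules → ℤ} (hφ : Additive φ) (hψ : Additive ψ) {G : Y.Modules}
    (hG : Coh.IsCoh G) :
    rpushSum (fun M => φ M - ψ M) f G = rpushSum φ f G - rpushSum ψ f G := by
  obtain ⟨N, hN⟩ := exists_Rpush_bound f
  rw [rpushSum_eq_sum f (hφ.sub hψ) hG (hN G hG.1), rpushSum_eq_sum f hφ hG (hN G hG.1),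
    rpushSum_eq_sum f hψ hG (hN G hG.1), ← Finset.sum_sub_distrib]
  exact Finset.sum_congr rfl fun i _ => mul_sub _ _ _

end General

variable (k : Type u) [Field k] {X Y : Scheme.{u}} [X.Over (Spec (CommRingCat.of k))]
  [Y.Over (Spec (CommRingCat.of k))] [IsProper (X ↘ Spec (CommRingCat.of k))]
  [IsProper (Y ↘ Spec (CommRingCat.of k))]

/-- Intersection symbols of pulled back modules are alternating sums over higher direct images. -/
theorem iterD_pullback_eq_rpushSum [HasInjectiveResolutions Y.Modules] (f : Y ⟶ X)
    (hf : f ≫ (X ↘ Spec (CommRingCat.of k)) = Y ↘ Spec (CommRingCat.of k)) :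
    ∀ (l : List X.Modules), (∀ A ∈ l, PicF.IsInvertible A) → ∀ (G : Y.Modules), Coh.IsCoh G →
      iterD (l.map (Scheme.Modules.pullback f).obj) (Curv2.euler k Y) G =
        rpushSum (iterD l (Curv2.euler k X)) f G
  | [], _, G, hG => euler_eq_rpushSum k f hf hG
  | A :: l, h, G, hG => by
    haveI : AlgebraicGeometry.IsNoetherian X := CurveCohLib.isNoetherian_of_proper (k := k) (X := X)
    haveI : AlgebraicGeometry.IsNoetherian Y := CurveCohLib.isNoetherian_of_proper (k := k) (X := Y)
    haveI := isProper_over k f hf
    have hA := h A List.mem_cons_self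
    have hl : ∀ B ∈ l, PicF.IsInvertible B := fun B hB => h B (List.mem_cons_of_mem _ hB)
    have hφ : Additive (iterD l (Curv2.euler k X)) := additive_iterD (additive_euler k) hl
    have hA' := PicClLib.isInvertible_pullback f hA
    have h1 := iterD_pullback_eq_rpushSum f hf l hl ((AmpleVan.tw ((Scheme.Modules.pullback f).obj A)).obj G)
      (AmpleVan.isCoh_tensor hG (AmpleVan.isCoh_invertible hA'))
    have h2 := iterD_pullback_eq_rpushSum f hf l hl G hG
    simp only [List.map_cons, iterD]
    rw [h1, h2, rpushSum_tw f hφ hA]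
    exact (rpushSum_sub f (hφ.shift hA) hφ hG).symm

end Groth.Agent.VarBase
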