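import Groth.Agent.VarBase.TwistVan
import Groth.Agent.Lib.CurvePoint
import Groth.Agent.H23.TrivBasic
import Groth.Agent.CurveCohLib.Rank
import Groth.Agent.Lib.AVAmple

/-!
# Sections of high powers of an effective invertible module at points of its divisor
-/

set_option linter.style.haveILetI false
set_option linter.unusedSectionVars false
set_option backward.isDefEq.respectTransparency false
set_option backward.isDefEq.respectTransparency.types false

universe u

open CategoryTheory CategoryTheory.Limits AlgebraicGeometry TopologicalSpace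
open Groth.Agent.PnCoh.Finite (mapLin deltaLin)
open Groth.Agent.H23.TrivBasic (locus mem_locus_iff locus_eq_basicOpen)

noncomputable section

namespace Groth.Agent.VarBase

variable {X : Scheme.{u}}

theorem stalkMap_germ {M N : X.Modules} (φ : M ⟶ N) {U : X.Opens} {x : X} (hx : x ∈ U) (m : Γ(M, U)) :
    (DerSch.stalkFunctor X x).map φ (M.presheaf.germ U x hx m) = N.presheaf.germ U x hx (φ.app U m) :=
  TopCat.Presheaf.stalkFunctor_map_germ_apply U x hx ((Scheme.Modules.toPresheaf X).map φ) m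

theorem mem_locus_map_iso {M N : X.Modules} (e : M ≅ N) {t : Γ(M, ⊤)} {x : X} (h : x ∈ locus t) :
    x ∈ locus (e.hom.app ⊤ t) := by
  obtain ⟨U, hxU, hU⟩ := mem_locus_iff.1 h
  refine mem_locus_iff.2 ⟨U, hxU, ?_⟩
  have := InvX.IsFrame.map_iso e hU
  rwa [AModX.app_res] at this

/-- A morphism from the structure sheaf is an isomorphism on stalks over its generating locus. -/
theorem isoOn_genLocus {L : X.Modules} (s : Coh.structureModule X ⟶ L) :
    Snapper.IsoOn (CohB1.genLocus L s) s := fun x hx => by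
  obtain ⟨U, hxU, hU⟩ := InvX.mem_genLocus hx
  let F := DerSch.stalkFunctor X x
  let one : F.obj (Coh.structureModule X) :=
    (Coh.structureModule X).presheaf.germ U x hxU (show Γ(Coh.structureModule X, U) from (1 : Γ(X, U)))
  have hs1 : s.app U (show Γ(Coh.structureModule X, U) from (1 : Γ(X, U))) =
      AModX.res L (le_top : U ≤ ⊤) (InvX.one s) := (InvX.app_eq_smul s (1 : Γ(X, U))).trans (one_smul _ _)
  have hval : ∀ c : X.presheaf.stalk x, F.map s (c • one) =
      c • L.presheaf.germ U x hxU (AModX.res L (le_top : U ≤ ⊤) (InvX.one s)) := fun c => by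
    rw [map_smul (F.map s).hom]
    exact congrArg (c • ·) ((stalkMap_germ s hxU _).trans (congrArg (L.presheaf.germ U x hxU) hs1))
  refine (ConcreteCategory.isIso_iff_bijective _).2 ⟨fun p q hpq => ?_, fun q => ?_⟩
  · obtain ⟨c, rfl⟩ := ((InvX.isFrame_one (X := X) U).germ_bijective (x := x) hxU).2 p
    obtain ⟨d, rfl⟩ := ((InvX.isFrame_one (X := X) U).germ_bijective (x := x) hxU).2 q
    rw [(hU.germ_bijective hxU).1 (((hval c).symm.trans hpq).trans (hval d))]
  · obtain ⟨c, rfl⟩ := (hU.germ_bijective hxU).2 q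
    exact ⟨c • one, hval c⟩

/-- Off its locus a section has germ in the maximal ideal times the stalk. -/
theorem germ_eq_smul_of_notMem_locus {L : X.Modules} (hL : PicF.IsInvertible L) {t : Γ(L, ⊤)} {x : X}
    (hx : x ∉ locus t) : ∃ a ∈ IsLocalRing.maximalIdeal (X.presheaf.stalk x), ∃ w : L.presheaf.stalk x,
      L.presheaf.germ ⊤ x trivial t = a • w := by
  obtain ⟨U, hxU, e, he⟩ := InvX.exists_frame hL x
  obtain ⟨g, hg⟩ := he.exists_coord le_rfl (AModX.res L (le_top : U ≤ ⊤) t)
  rw [AModX.res_self] at hg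
  refine ⟨X.presheaf.germ U x hxU g, (IsLocalRing.mem_maximalIdeal _).2 fun hu => hx ?_,
    L.presheaf.germ U x hxU e, ?_⟩
  · have h : x ∈ X.basicOpen g := (X.mem_basicOpen g x hxU).2 hu
    rw [← locus_eq_basicOpen he hg] at h
    exact h.1
  · rw [← InvX.germ_res' (le_top : U ≤ ⊤) hxU t, hg]
    exact QCoh.germ_smul' L hxU g e

variable (k : Type u) [Field k] [X.Over (Spec (CommRingCat.of k))] [IsProper (X ↘ Spec (CommRingCat.of k))]

/-- If `H¹` of the sub injects, global sections surject onto the quotient. -/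
theorem app_top_surjective_of_injective {S : ShortComplex X.Modules} (hS : S.ShortExact)
    (h : Function.Injective (mapLin k S.f 1)) : Function.Surjective (S.g.app ⊤) := fun q => by
  let qH : Coh.HH X S.X₃ 0 := (Sheaf.H.equiv₀ (Coh.toAb S.X₃) isTerminalTop).symm q
  have h0 : mapLin k S.f 1 (deltaLin k hS 0 qH) = 0 :=
    LinearMap.mem_ker.1 ((Euler.range_deltaLin k hS 0).le ⟨qH, rfl⟩)
  have hd : qH ∈ LinearMap.ker (deltaLin k hS 0) :=
    LinearMap.mem_ker.2 (h (h0.trans (map_zero _).symm))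
  obtain ⟨y, hy⟩ := (Euler.range_mapLin_g k hS 0).ge hd
  refine ⟨Sheaf.H.equiv₀ (Coh.toAb S.X₂) isTerminalTop y, ?_⟩
  refine (Sheaf.H.equiv₀_naturality isTerminalTop ((QCoh.toAbFunctor X).map S.g) y).trans ?_
  refine (congrArg (Sheaf.H.equiv₀ (Coh.toAb S.X₃) isTerminalTop) hy).trans ?_
  exact AddEquiv.apply_symm_apply _ _

/-- `dim H^1 (L^n)`. -/
abbrev h1pow (L : X.Modules) (n : ℕ) : ℕ := Module.finrank k (Coh.HH X (CohB1.tensorPow L n) 1)

variable {L : X.Modules}

/-- `L ⊗ L^n ≅ L^(n+1)`. -/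
def powSuccIso (L : X.Modules) (n : ℕ) :
    CohB1.tensorMod L (CohB1.tensorPow L n) ≅ CohB1.tensorPow L (n + 1) :=
  CurveTensor.commIso L (CohB1.tensorPow L n)

/-- `(M ⊗ L) ⊗ L^n ≅ M ⊗ L^(n+1)`. -/
def twPowSucc (L M : X.Modules) (n : ℕ) :
    (AmpleVan.tw (CohB1.tensorPow L n)).obj ((AmpleVan.tw L).obj M) ≅
      CohB1.tensorMod M (CohB1.tensorPow L (n + 1)) :=
  (AmpleVan.twComp L (CohB1.tensorPow L n)).app M ≪≫
    PicGrp.tensorModIso (Iso.refl M) (powSuccIso L n)

/-- `(O ⊗ L) ⊗ L^n ≅ L^(n+1)`. -/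
def twOneSucc (L : X.Modules) (n : ℕ) :
    (AmpleVan.tw (CohB1.tensorPow L n)).obj ((AmpleVan.tw L).obj (Coh.structureModule X)) ≅
      CohB1.tensorPow L (n + 1) :=
  twPowSucc L (Coh.structureModule X) n ≪≫ CurveTensor.structureTensorIso (CohB1.tensorPow L (n + 1))

theorem exists_h1_stable (hL : PicF.IsInvertible L) (s : Coh.structureModule X ⟶ L)
    (hT : TwistVanOn L ((CohB1.genLocus L s : Set X)ᶜ)) :
    ∃ N, ∀ n, N ≤ n → h1pow k L n = h1pow k L N := by
  haveI := CurveCohLib.isNoetherian_of_proper (k := k) (X := X)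
  have hO : Coh.IsCoh (Coh.structureModule X) := QCoh.isCoh_structureModule'
  obtain ⟨N, hN⟩ := exists_mapLin_bijective k hL hT (le_refl ((CohB1.genLocus L s : Set X)ᶜ)) hO
    (AmpleVan.isCoh_invertible hL) s (isoOn_genLocus s)
  have hdec : ∀ n, N ≤ n → h1pow k L (n + 1) ≤ h1pow k L n := fun n hn => by
    haveI := CurveCohLib.finite_HH (k := k) (AmpleVan.isCoh_invertible (InvX.isInvertible_tensorPow hL n)) 1
    let i₁ : CohB1.tensorPow L n ≅ (AmpleVan.tw (CohB1.tensorPow L n)).obj (Coh.structureModule X) :=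
      (CurveTensor.structureTensorIso (CohB1.tensorPow L n)).symm
    let i₂ : (AmpleVan.tw (CohB1.tensorPow L n)).obj L ≅ CohB1.tensorPow L (n + 1) :=
      powSuccIso L n
    let e₁ := CurveCohLib.hhEquiv (k := k) i₁ 1
    let e₂ := CurveCohLib.hhEquiv (k := k) i₂ 1
    exact LinearMap.finrank_le_finrank_of_surjective (f := e₂.toLinearMap ∘ₗ
      mapLin k ((AmpleVan.tw (CohB1.tensorPow L n)).map s) 1 ∘ₗ e₁.toLinearMap)
      (e₂.surjective.comp ((hN n hn 0).1.comp e₁.surjective))
  let S : Set ℕ := {v | ∃ n, N ≤ n ∧ h1pow k L n = v}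
  obtain ⟨M, hM, hMv⟩ := Nat.sInf_mem (show S.Nonempty from ⟨_, N, le_rfl, rfl⟩)
  refine ⟨M, fun n hn => le_antisymm ?_ ?_⟩
  · induction n, hn using Nat.le_induction with
    | base => exact le_rfl
    | succ n hn ih => exact (hdec n (hM.trans hn)).trans ih
  · rw [hMv]
    exact Nat.sInf_le ⟨n, hM.trans hn, rfl⟩

set_option maxHeartbeats 1000000 in
include k in
/-- At a closed point some power has a generating section. -/
theorem exists_section_mem [IsIntegral X] (hL : PicF.IsInvertible L) (s : Coh.structureModule X ⟶ L) [Mono s]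
    (hT : TwistVanOn L ((CohB1.genLocus L s : Set X)ᶜ)) {x : X} (hx : IsClosed ({x} : Set X)) :
    ∃ n, 0 < n ∧ ∃ t : Γ(CohB1.tensorPow L n, ⊤), x ∈ locus t := by
  haveI := CurveCohLib.isNoetherian_of_proper (k := k) (X := X)
  by_cases hxs : x ∈ CohB1.genLocus L s
  · refine ⟨1, one_pos, (CurveTensor.structureTensorIso L).inv.app ⊤ (InvX.one s), ?_⟩
    refine mem_locus_map_iso (CurveTensor.structureTensorIso L).symm ?_
    show x ∈ CohB1.genLocus L (InvX.ofSect (InvX.one s))
    rwa [AVAmple.ofSect_one]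
  let O := Coh.structureModule X
  let Q := ClSub.quotMod (CurvePoint.ptIdeal x hx)
  have hQ : Coh.IsCoh Q := ParShLib.isCoh_quotMod (CurvePoint.ptIdeal x hx)
  have hQs : CohB1.support Q ⊆ {x} := CurvePoint.support_quot_subset x hx
  let I := ClSub.idealMod (CurvePoint.ptIdeal x hx)
  have hO : Coh.IsCoh O := QCoh.isCoh_structureModule'
  have hI : Coh.IsCoh I := QCoh.isCoh_kernel hO hQ _
  have hLc := AmpleVan.isCoh_invertible hL
  haveI := AmpleVan.isEquivalence_tw hL
  haveI : (AmpleVan.tw L).Additive := Functor.additive_of_preserves_binary_products _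
  let S : ShortComplex X.Modules :=
    (ShortComplex.mk (ClSub.idealModι (CurvePoint.ptIdeal x hx))
      (ClSub.toSubscheme (CurvePoint.ptIdeal x hx)) (kernel.condition _)).map (AmpleVan.tw L)
  have hS : S.ShortExact := (CurvePoint.shortExact_pt x hx).map_of_exact _
  have hX3s : CohB1.support S.X₃ ⊆ {x} := fun y hy => by
    have h := (QCoh.support_iso (CurveTensor.commIso Q L) (AmpleVan.isCoh_tensor hQ hLc).1).le hy
    exact hQs (CurveTensor.support_tensor_subset h)
  -- the section factors through the ideal of the point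
  let σ : O ⟶ S.X₂ := s ≫ (CurveTensor.structureTensorIso L).inv
  have hσ0 : σ ≫ S.g = 0 := by
    refine AmpleX.eq_zero_of_one_eq_zero _ ?_
    refine TopCat.Presheaf.section_ext ⟨S.X₃.presheaf, S.X₃.isSheaf⟩ ⊤ _ _ fun y hy => ?_
    rw [map_zero]
    by_cases hyx : y = x
    · subst hyx
      obtain ⟨a, ha, w, haw⟩ := germ_eq_smul_of_notMem_locus hL (t := InvX.one s) (x := y) (by
        show y ∉ CohB1.genLocus L (InvX.ofSect (InvX.one s))
        rwa [AVAmple.ofSect_one])
      show S.X₃.presheaf.germ ⊤ y hy (((CurveTensor.structureTensorIso L).inv ≫ S.g).app ⊤ (InvX.one s)) = 0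
      rw [← stalkMap_germ ((CurveTensor.structureTensorIso L).inv ≫ S.g) hy, haw,
        map_smul ((DerSch.stalkFunctor X y).map _).hom]
      let e := ((DerSch.stalkFunctor X y).mapIso (CurveTensor.commIso Q L)).toLinearEquiv
      refine e.injective ?_
      rw [map_zero]
      refine Eq.trans (map_smul e a _) ?_
      exact CurvePoint.smul_tensor_eq_zero y hx (G := L) ha _
    · haveI : Subsingleton (S.X₃.presheaf.stalk y) := not_not.1 fun h => hyx (hX3s h)
      exact Subsingleton.elim _ _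
  haveI := hS.mono_f
  obtain ⟨u, hu⟩ : ∃ u : O ⟶ S.X₁, u ≫ S.f = σ := hS.exact.lift' σ hσ0
  have hu' : Snapper.IsoOn (CohB1.genLocus L s) u := fun y hy => by
    haveI := isoOn_genLocus s y hy
    let F := DerSch.stalkFunctor X y
    haveI : IsIso (F.map u ≫ F.map S.f) := by
      rw [← F.map_comp, hu, F.map_comp]; infer_instance
    haveI : Mono (F.map S.f) := inferInstance
    haveI : Epi (F.map S.f) := epi_of_epi (F.map u) (F.map S.f)
    haveI : IsIso (F.map S.f) := isIso_of_mono_of_epi _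
    exact IsIso.of_isIso_comp_right (F.map u) (F.map S.f)
  obtain ⟨N₁, hN₁⟩ := exists_h1_stable k hL s hT
  obtain ⟨N₂, hN₂⟩ := exists_mapLin_bijective k hL hT (le_refl ((CohB1.genLocus L s : Set X)ᶜ)) hO
    (AmpleVan.isCoh_tensor hI hLc) u hu'
  obtain ⟨N₃, hN₃⟩ := hT S.X₃ (AmpleVan.isCoh_tensor hQ hLc) (hX3s.trans fun y hy => by
    rw [Set.mem_singleton_iff.1 hy]; exact hxs)
  let n := max N₁ (max N₂ N₃)
  have hn₁ : N₁ ≤ n := le_max_left _ _
  have hn₂ : N₂ ≤ n := le_trans (le_max_left _ _) (le_max_right N₁ _)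
  have hn₃ : N₃ ≤ n := le_trans (le_max_right _ _) (le_max_right N₁ _)
  have hP := InvX.isInvertible_tensorPow hL n
  let P := CohB1.tensorPow L n
  let F := AmpleVan.tw P
  haveI := AmpleVan.isEquivalence_tw hP
  haveI : F.Additive := Functor.additive_of_preserves_binary_products _
  have hSn : (ShortComplex.mk (F.map S.f) (F.map S.g)
      (by rw [← F.map_comp, S.zero, F.map_zero])).ShortExact :=
    hS.map_of_exact F
  haveI := CurveCohLib.finite_HH (k := k) (AmpleVan.isCoh_invertible hP) 1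
  haveI := CurveCohLib.finite_HH (k := k) (AmpleVan.isCoh_invertible (InvX.isInvertible_tensorPow hL (n + 1))) 1
  -- `H¹` of the ideal twist injects
  let i₁ : P ≅ F.obj O := (CurveTensor.structureTensorIso P).symm
  let a : Coh.HH X P 1 →ₗ[k] Coh.HH X (F.obj S.X₁) 1 := mapLin k (F.map u) 1 ∘ₗ
    (CurveCohLib.hhEquiv (k := k) i₁ 1).toLinearMap
  let b : Coh.HH X (F.obj S.X₁) 1 →ₗ[k] Coh.HH X (CohB1.tensorPow L (n + 1)) 1 :=
    (CurveCohLib.hhEquiv (k := k) (twOneSucc L n) 1).toLinearMap ∘ₗ mapLin k (F.map S.f) 1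
  have ha : Function.Surjective a :=
    (hN₂ n hn₂ 0).1.comp (LinearEquiv.surjective _)
  have hf : Function.Surjective (mapLin k (F.map S.f) 1) := surjective_mapLin_f k (q := 1) hSn (hN₃ n hn₃ 0)
  have hb : Function.Surjective b := by
    rw [LinearMap.coe_comp]
    exact (LinearEquiv.surjective _).comp hf
  have hbij : Function.Injective (b ∘ₗ a) := by
    refine (LinearMap.injective_iff_surjective_of_finrank_eq_finrank ?_).2 (hb.comp ha)
    show h1pow k L n = h1pow k L (n + 1)
    rw [hN₁ n hn₁, hN₁ (n + 1) (Nat.le_succ_of_le hn₁)]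
  have hinj : Function.Injective (mapLin k (F.map S.f) 1) := fun y y' h => by
    obtain ⟨z, rfl⟩ := ha y
    obtain ⟨z', rfl⟩ := ha y'
    exact congrArg a (hbij (congrArg (CurveCohLib.hhEquiv (k := k) (twOneSucc L n) 1) h))
  -- so sections lift
  let Φ : F.obj S.X₃ ≅ (DCoh.tensorBi.obj ((AmpleVan.tw P).obj L)).obj Q :=
    (AmpleVan.twComp L P).app Q ≪≫ CurveTensor.commIso Q _
  have hX3 : Coh.IsCoh (F.obj S.X₃) :=
    AmpleVan.isCoh_tensor (AmpleVan.isCoh_tensor hQ hLc) (AmpleVan.isCoh_invertible hP)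
  have hX3' : CohB1.support (F.obj S.X₃) ⊆ {x} := fun y hy =>
    hQs (CurveTensor.support_tensor_subset ((QCoh.support_iso Φ hX3.1).le hy))
  have hne : x ∈ CohB1.support (F.obj S.X₃) := by
    by_contra h
    have hz : IsZero (F.obj S.X₃) := QCoh.isZero_of_app_eq_zero hX3.1 fun W t =>
      TopCat.Presheaf.section_ext ⟨(F.obj S.X₃).presheaf, (F.obj S.X₃).isSheaf⟩ W _ _ fun y hy => by
        haveI : Subsingleton ((F.obj S.X₃).presheaf.stalk y) :=
          not_not.1 fun hy' => h (Set.mem_singleton_iff.1 (hX3' hy') ▸ hy')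
        exact Subsingleton.elim _ _
    have hz' : IsZero ((AmpleVan.tw L ⋙ F).obj Q) := hz
    haveI : (AmpleVan.tw L ⋙ F).IsEquivalence := inferInstance
    have hz2 : IsZero Q := (Functor.map_isZero (AmpleVan.tw L ⋙ F).inv hz').of_iso
      ((AmpleVan.tw L ⋙ F).asEquivalence.unitIso.app Q)
    exact CurvePoint.not_subsingleton_stalk x hx
      (ModuleCat.subsingleton_of_isZero ((DerSch.stalkFunctor X x).map_isZero hz2))
  haveI := not_subsingleton_iff_nontrivial.1 hne
  obtain ⟨m, hm⟩ := exists_ne (0 : (F.obj S.X₃).presheaf.stalk x)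
  obtain ⟨q, hq, -⟩ := CurveCohLib.exists_section_single hX3
    (fun y hy => by rw [Set.mem_singleton_iff.1 (hX3' hy)]; exact hx) hne m
  have hlift : ∃ t : Γ(F.obj S.X₂, ⊤), (F.map S.g).app ⊤ t = q :=
    app_top_surjective_of_injective k hSn hinj q
  obtain ⟨t, ht⟩ := hlift
  refine ⟨n + 1, n.succ_pos, (twOneSucc L n).hom.app ⊤ t, mem_locus_map_iso _ ?_⟩
  by_contra hxt
  have hinv : PicF.IsInvertible (F.obj S.X₂) :=
    InvX.isInvertible_tensorMod (InvX.isInvertible_tensorMod InvX.isInvertible_structureModule hL) hP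
  obtain ⟨c, hc, w, hcw⟩ := germ_eq_smul_of_notMem_locus hinv hxt
  refine hm (hq.symm.trans ?_)
  rw [← ht, ← stalkMap_germ (F.map S.g) (show x ∈ (⊤ : X.Opens) from trivial) t, hcw,
    map_smul ((DerSch.stalkFunctor X x).map _).hom]
  let e := ((DerSch.stalkFunctor X x).mapIso Φ).toLinearEquiv
  refine e.injective ?_
  rw [map_zero]
  refine Eq.trans (map_smul e c _) ?_
  exact CurvePoint.smul_tensor_eq_zero x hx (G := (AmpleVan.tw P).obj L) hc _

end Groth.Agent.VarBase
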