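import Groth.Agent.VarBase.HyperCoverPn
import Groth.Agent.AmpleX.Proj
import Groth.Agent.AmpleX.Sect
import Groth.Agent.SBBundle.TwType
import Groth.Agent.ProjUPX.Sections
import Groth.Agent.S3572
import Groth.Agent.S10829
import Groth.Agent.PicClLib.Basic
import Groth.Agent.H23.PnChart
import Mathlib.AlgebraicGeometry.Morphisms.QuasiFinite

/-!
# Finite surjective linear projections of projective schemes
-/

set_option linter.style.haveILetI false
set_option linter.unusedSectionVars false
set_option backward.isDefEq.respectTransparency false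
set_option backward.isDefEq.respectTransparency.types false
set_option maxHeartbeats 1000000

universe u

open CategoryTheory AlgebraicGeometry TopologicalSpace

noncomputable section

namespace Groth.Agent.VarBase.FiniteProj

open Groth.Agent

variable (k : Type u) [Field k]

/-- The basic open of a polynomial in projective space. -/
abbrev dPlus (n : ℕ) (f : MvPolynomial (Fin (n + 1)) k) : (CohB1.ProjSpace n k).Opens :=
  Proj.basicOpen (CohB1.polyGrading n k) f

/-- A closed set of dimension at most `d` is covered by `d + 1` linear basic opens. -/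
theorem exists_linear_cover [Infinite k] (n : ℕ) {T : Set (CohB1.ProjSpace n k)} (hT : IsClosed T) (d : ℕ)
    (hd : topologicalKrullDim ↥T ≤ (d : WithBot ℕ∞)) :
    ∃ h : Fin (d + 1) → MvPolynomial (Fin (n + 1)) k, (∀ j, h j ∈ CohB1.polyGrading n k 1) ∧
      T ⊆ ⋃ j, (dPlus k n (h j) : Set (CohB1.ProjSpace n k)) := by
  classical
  haveI : IsProper (CohB1.ProjSpace n k ↘ Spec (CommRingCat.of k)) := PnCoh.Chow.isProper_toSpec n k
  haveI : IsNoetherian (CohB1.ProjSpace n k) := CurveCohLib.isNoetherian_of_proper (k := k)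
  haveI : NoetherianSpace (ProjectiveSpectrum (CohB1.polyGrading n k)) :=
    inferInstanceAs (NoetherianSpace (CohB1.ProjSpace n k))
  haveI : QuasiSober (ProjectiveSpectrum (CohB1.polyGrading n k)) :=
    inferInstanceAs (QuasiSober (CohB1.ProjSpace n k))
  obtain ⟨h, hh, hcov⟩ := HyperCover.exists_cover_of (CohB1.polyGrading n k) isClosed_empty
    (fun f => f ∈ CohB1.polyGrading n k 1) (fun S _ => by
      let V : ProjectiveSpectrum (CohB1.polyGrading n k) → Submodule k (CohB1.polyGrading n k 1) := fun x =>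
        (x.asHomogeneousIdeal.toIdeal.restrictScalars k).comap (CohB1.polyGrading n k 1).subtype
      obtain ⟨w, hw⟩ := HyperCover.exists_linear_avoid V S fun x _ htop => by
        obtain ⟨i, hi⟩ := ProjUPX.cov_X (R := k) (n := n) x
        exact hi ((Submodule.eq_top_iff'.1 htop ⟨MvPolynomial.X i, MvPolynomial.isHomogeneous_X k i⟩ : _))
      exact ⟨w.1, w.2, fun x hx => hw x hx⟩) d T hT (by rwa [Set.sdiff_empty])
  exact ⟨h, hh, by rwa [Set.sdiff_empty] at hcov⟩

/-- A finite morphism does not lower the dimension. -/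
theorem dim_le_range {X Y : Scheme.{u}} (f : X ⟶ Y) [IsFinite f] :
    topologicalKrullDim X ≤ topologicalKrullDim ↥(Set.range f) := by
  let F : IrreducibleCloseds X → IrreducibleCloseds ↥(Set.range f) := fun c =>
    ⟨Set.rangeFactorization f '' (c : Set X),
      c.isIrreducible.image _ (f.continuous.subtype_mk _).continuousOn, by
      have h : Set.rangeFactorization f '' (c : Set X) = Subtype.val ⁻¹' (f '' (c : Set X)) := by
        ext ⟨y, hy⟩
        simp [Set.rangeFactorization, Subtype.ext_iff]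
      rw [h]
      exact (f.isClosedMap _ c.isClosed).preimage continuous_subtype_val⟩
  refine Order.krullDim_le_of_strictMono F fun c c' hc => lt_of_le_of_ne (Set.image_mono hc.le) fun e => ?_
  obtain ⟨z', hz'⟩ := QuasiSober.sober c'.isIrreducible c'.isClosed
  have hz'c : Set.rangeFactorization f z' ∈ (F c : Set ↥(Set.range f)) :=
    (congrArg (fun Z : IrreducibleCloseds ↥(Set.range f) => (Z : Set ↥(Set.range f))) e).ge ⟨z', hz'.mem, rfl⟩
  obtain ⟨z, hzc, hz⟩ := hz'c
  have hsp : z' ⤳ z := hz'.specializes (hc.le hzc)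
  have hfz : f z = f z' := congrArg Subtype.val hz
  haveI : DiscreteTopology ↥(f ⁻¹' {f z'}) := (f.isDiscrete_preimage_singleton (f z')).to_subtype
  have hs : (⟨z', rfl⟩ : ↥(f ⁻¹' {f z'})) ⤳ ⟨z, hfz⟩ := (subtype_specializes_iff _ _).2 hsp
  have heq : z' = z := congrArg Subtype.val (specializes_iff_eq.1 hs)
  refine hc.not_ge (show (c' : Set X) ⊆ c from ?_)
  rw [← hz'.def]
  exact c.isClosed.closure_subset_iff.2 (Set.singleton_subset_iff.2 (heq ▸ hzc))

/-- A closed subscheme of projective space of dimension `d` maps finitely onto `P^d`. -/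
theorem exists_projection [Infinite k] {X : Scheme.{u}} (n : ℕ) (ι : X ⟶ CohB1.ProjSpace n k) [IsClosedImmersion ι]
    (d : ℕ) (hd : topologicalKrullDim X = d) :
    ∃ π : X ⟶ CohB1.ProjSpace d k, π ≫ CohB1.ProjSpace.toSpec d k = ι ≫ CohB1.ProjSpace.toSpec n k ∧
      IsFinite π ∧ Surjective π := by
  classical
  obtain ⟨h, hh, hcov⟩ := exists_linear_cover k n ι.isClosedEmbedding.isClosed_range d
    ((IsHomeomorph.topologicalKrullDim_eq _ ι.isEmbedding.toHomeomorph.isHomeomorph).symm.trans hd).le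
  let L := (Scheme.Modules.pullback ι).obj (Twist.twistProjSpace n k 1)
  have hO : PicF.IsInvertible (Twist.twistProjSpace n k 1) := SBBundle.isInvertible_twistProjSpace n k 1
  have hL : PicF.IsInvertible L := PicClLib.isInvertible_pullback ι hO
  let t : ∀ j, Γ(L, ⊤) := fun j => InvX.pullElt ι (U := ⊤) (ProjUPX.sec (CohB1.polyGrading n k) (hh j))
  have hXcov : ⨆ i : Fin (n + 1), Proj.basicOpen (CohB1.polyGrading n k) (MvPolynomial.X i) = ⊤ :=
    eq_top_iff.2 fun x _ => Opens.mem_iSup.2 (ProjUPX.cov_X x)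
  have hloc : ∀ j, AmpleX.locus (t j) = ι ⁻¹ᵁ Proj.basicOpen (CohB1.polyGrading n k) (h j) := fun j => by
    rw [show AmpleX.locus (t j) = _ from AmpleX.locus_pullElt hO ι _]
    have h1 := AmpleX.genLocus_sec (CohB1.polyGrading n k) (fun i : Fin (n + 1) => MvPolynomial.X i)
      (fun i => MvPolynomial.isHomogeneous_X k i) hXcov (hh j)
    rw [AmpleX.genLocus_eq_locus, InvX.one_ofSect] at h1
    exact congrArg (fun U => ι ⁻¹ᵁ U) h1
  have hgen : ProjUP.GeneratedBy L t := ProjUPX.generatedBy_of_frames t fun x => by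
    obtain ⟨j, hj⟩ := Set.mem_iUnion.1 (hcov ⟨x, rfl⟩)
    exact ⟨j, AmpleX.locus (t j), (hloc j).ge hj, AmpleX.isFrame_res_locus (t j)⟩
  obtain ⟨r, hr, τ, hτ⟩ := S3572.result d (ι ≫ CohB1.ProjSpace.toSpec n k) L hL t hgen
  have hO' : PicF.IsInvertible (Twist.twistProjSpace d k 1) := SBBundle.isInvertible_twistProjSpace d k 1
  have hXcov' : ⨆ i : Fin (d + 1), Proj.basicOpen (CohB1.polyGrading d k) (MvPolynomial.X i) = ⊤ :=
    eq_top_iff.2 fun x _ => Opens.mem_iSup.2 (ProjUPX.cov_X x)
  have hpre : ∀ j, r ⁻¹ᵁ Proj.basicOpen (CohB1.polyGrading d k) (MvPolynomial.X j) =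
      ι ⁻¹ᵁ Proj.basicOpen (CohB1.polyGrading n k) (h j) := fun j => by
    rw [← hloc, ← hτ j, AmpleX.locus_iso]
    have h1 := AmpleX.genLocus_sec (CohB1.polyGrading d k) (fun i : Fin (d + 1) => MvPolynomial.X i)
      (fun i => MvPolynomial.isHomogeneous_X k i) hXcov' (a := MvPolynomial.X j) (MvPolynomial.isHomogeneous_X k j)
    rw [AmpleX.genLocus_eq_locus, InvX.one_ofSect] at h1
    rw [← h1]
    exact (AmpleX.locus_pullElt hO' r _).symm
  haveI : IsProper (CohB1.ProjSpace n k ↘ Spec (CommRingCat.of k)) := PnCoh.Chow.isProper_toSpec n k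
  haveI : IsProper (CohB1.ProjSpace d k ↘ Spec (CommRingCat.of k)) := PnCoh.Chow.isProper_toSpec d k
  haveI : IsProper r := by
    haveI : IsProper (r ≫ CohB1.ProjSpace.toSpec d k) := by
      rw [hr]; exact inferInstanceAs (IsProper (ι ≫ (CohB1.ProjSpace n k ↘ Spec (CommRingCat.of k))))
    haveI : IsSeparated (CohB1.ProjSpace.toSpec d k) :=
      inferInstanceAs (IsSeparated (CohB1.ProjSpace d k ↘ Spec (CommRingCat.of k)))
    exact IsProper.of_comp r (CohB1.ProjSpace.toSpec d k)
  haveI : IsAffineHom r := by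
    refine isAffineHom_of_forall_exists_isAffineOpen r fun y => ?_
    obtain ⟨j, hj⟩ := ProjUPX.cov_X (R := k) (n := d) y
    exact ⟨Proj.basicOpen (CohB1.polyGrading d k) (MvPolynomial.X j), hj,
      Proj.isAffineOpen_basicOpen _ _ (MvPolynomial.isHomogeneous_X k j) one_pos,
      (hpre j).symm ▸ (Proj.isAffineOpen_basicOpen (CohB1.polyGrading n k) (h j) (hh j) one_pos).preimage ι⟩
  haveI : IsFinite r := IsFinite.iff_isProper_and_isAffineHom.2 ⟨inferInstance, inferInstance⟩
  refine ⟨r, hr, inferInstance, ⟨?_⟩⟩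
  rw [← Set.range_eq_univ]
  by_contra hne
  have h1 : (d : WithBot ℕ∞) ≤ topologicalKrullDim ↥(Set.range r) := hd.ge.trans (dim_le_range r)
  haveI : IsIntegral (CohB1.ProjSpace d k) := H23.PnChart.isIntegral_projSpace d k
  have hdP : topologicalKrullDim (CohB1.ProjSpace d k) = (d : WithBot ℕ∞) := S10829.result k d
  have h2 : ∀ Z ∈ irreducibleComponents (CohB1.ProjSpace d k), ¬ Z ⊆ Set.range r := fun Z hZ hsub => by
    rw [irreducibleComponents_eq_singleton] at hZ
    obtain rfl : Z = Set.univ := hZ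
    exact hne (Set.univ_subset_iff.1 hsub)
  rcases d with _ | d
  · have := HyperCover.eq_empty_of_no_component h2 r.isClosedMap.isClosed_range (by simpa using hdP.le)
    rw [this] at h1
    haveI : IsEmpty ↥(∅ : Set (CohB1.ProjSpace 0 k)) := Set.isEmpty_coe_sort.2 rfl
    haveI : IsEmpty (IrreducibleCloseds ↥(∅ : Set (CohB1.ProjSpace 0 k))) :=
      ⟨fun c => isEmptyElim c.isIrreducible.nonempty.choose⟩
    rw [topologicalKrullDim, Order.krullDim_eq_bot] at h1
    simp at h1
  · have := h1.trans (HyperCover.dim_le_of_no_component r.isClosedMap.isClosed_range h2 hdP.le)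
    exact absurd this (not_le.2 (by exact_mod_cast Nat.lt_succ_self d))

end Groth.Agent.VarBase.FiniteProj
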