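import Groth.Agent.VarBase.HyperCover
import Groth.Agent.PnCoh.Chow.Proper
import Groth.Agent.CurveCohLib.Proper
import Groth.Prelude.Def_CohB1

/-!
# Affine covers by hypersurface complements in projective space
-/

set_option linter.style.haveILetI false
set_option linter.unusedSectionVars false
set_option backward.isDefEq.respectTransparency false
set_option backward.isDefEq.respectTransparency.types false

universe u

open CategoryTheory AlgebraicGeometry TopologicalSpace

noncomputable section

namespace Groth.Agent.VarBase.HyperCover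

open Groth.Agent

variable (k : Type u) [Field k] (n : ℕ)

/-- The complement of a closed set in a closed set of projective space is covered by few hypersurface complements. -/
theorem exists_cover_projSpace {Y T : Set (CohB1.ProjSpace n k)} (hY : IsClosed Y) (hT : IsClosed T) (d : ℕ)
    (hd : topologicalKrullDim ↥(T \ Y) ≤ (d : WithBot ℕ∞)) :
    ∃ (h : Fin (d + 1) → MvPolynomial (Fin (n + 1)) k) (D : Fin (d + 1) → (CohB1.ProjSpace n k).Opens),
      (∀ j, D j = Proj.basicOpen (CohB1.polyGrading n k) (h j)) ∧
      (∀ j, ∃ e : ℕ, 0 < e ∧ (h j).IsHomogeneous e) ∧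
      (∀ j, IsAffineOpen (D j)) ∧
      (∀ j, Y ⊆ (D j : Set (CohB1.ProjSpace n k))ᶜ) ∧
      T \ Y ⊆ ⋃ j, (D j : Set (CohB1.ProjSpace n k)) := by
  haveI : IsProper (CohB1.ProjSpace n k ↘ Spec (CommRingCat.of k)) := PnCoh.Chow.isProper_toSpec n k
  haveI : IsNoetherian (CohB1.ProjSpace n k) := CurveCohLib.isNoetherian_of_proper (k := k)
  haveI : NoetherianSpace (ProjectiveSpectrum (CohB1.polyGrading n k)) :=
    inferInstanceAs (NoetherianSpace (CohB1.ProjSpace n k))
  haveI : QuasiSober (ProjectiveSpectrum (CohB1.polyGrading n k)) :=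
    inferInstanceAs (QuasiSober (CohB1.ProjSpace n k))
  obtain ⟨h, hh, hhY, hcov⟩ := exists_cover (CohB1.polyGrading n k) (Y := Y) hY d T hT hd
  refine ⟨h, fun j => Proj.basicOpen (CohB1.polyGrading n k) (h j), fun j => rfl, fun j => ?_, fun j => ?_, hhY, hcov⟩
  · obtain ⟨e, he, hm⟩ := hh j
    exact ⟨e, he, hm⟩
  · obtain ⟨e, he, hm⟩ := hh j
    exact Proj.isAffineOpen_basicOpen (CohB1.polyGrading n k) (h j) hm he

end Groth.Agent.VarBase.HyperCover
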