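import Groth.Agent.PD70.ClosedSub
import Groth.Agent.Growth22.NumEmb
import Groth.Agent.Pic13Lib.ConstSemi
import Groth.Prelude.Def_ClSub2

/-!
# Vanishing of the cohomology of high negative powers of an ample module
-/

universe u

set_option linter.style.haveILetI false
set_option linter.unusedSectionVars false
set_option backward.isDefEq.respectTransparency false
set_option backward.isDefEq.respectTransparency.types false
set_option maxHeartbeats 1000000

open CategoryTheory CategoryTheory.Limits AlgebraicGeometry TopologicalSpace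
open scoped Groth.Agent.H23.PicMul

namespace Groth.Agent.VarBase.NegTwist

open Groth.Agent

/-- Depth is unchanged by tensoring with an invertible module. -/
theorem depth_tensor {X : Scheme.{u}} (F : X.Modules) {N : X.Modules} (hN : PicF.IsInvertible N) (x : X)
    [IsNoetherianRing (X.presheaf.stalk x)] :
    LocCoh.depth (X.presheaf.stalk x) ((CohB1.tensorMod F N).presheaf.stalk x) =
      LocCoh.depth (X.presheaf.stalk x) (F.presheaf.stalk x) := by
  obtain ⟨U, hx, e, he⟩ := InvX.exists_frame hN x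
  let e' : X.presheaf.stalk x ≃ₗ[X.presheaf.stalk x] N.presheaf.stalk x :=
    LinearEquiv.ofBijective
      (LinearMap.toSpanSingleton (X.presheaf.stalk x) (N.presheaf.stalk x) ((N.presheaf.germ U x hx).hom e))
      (he.germ_bijective hx)
  exact Hensel.depth_congr ((KFlatLib.stalkTensorIso x F N).toLinearEquiv.symm.trans
    ((TensorProduct.congr (LinearEquiv.refl _ _) e'.symm).trans (TensorProduct.rid _ _)))

/-- Depth above `b` at the closed points kills `Hⁱ` of high negative twists for `i ≤ b`. -/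
theorem exists_vanish (k : Type u) [Field k] {X : Scheme.{u}} [X.Over (Spec (CommRingCat.of k))]
    [IsProper (X ↘ Spec (CommRingCat.of k))] {L M : X.Modules} (hL : CohB1.IsAmple L) (hM : ClSub.IsInverseOf L M) {F : X.Modules}
    (hF : Coh.IsCoh F) (b : ℕ)
    (hdepth : ∀ x : X, IsClosed ({x} : Set X) →
      (b : ℕ∞) < LocCoh.depth (X.presheaf.stalk x) (F.presheaf.stalk x)) :
    ∃ n₀ : ℕ, ∀ n : ℕ, n₀ ≤ n → ∀ i ≤ b,
      Subsingleton (Coh.HH X (CohB1.tensorMod F (CohB1.tensorPow M n)) i) := by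
  obtain ⟨a, ha, N, j, hj, -, hcl⟩ := Growth22.exists_embedding_pow k hL
  haveI := hj
  haveI := Pic13Lib.isNoetherian j
  have hLM : PicF.cl L * PicF.cl M = 1 := H23.PicMul.cl_eq_iff.2 hM
  have hMinv : PicF.IsInvertible M := Pic13Lib.isInvertible_of_tensor_iso hL.1 hM
  have hneg : ∀ q : ℕ, PicF.cl (Pic13Lib.hyp j (-(q : ℤ))) = PicF.cl M ^ (a * q) := fun q =>
    left_inv_eq_right_inv (a := PicF.cl L ^ (a * q))
      (by rw [← Growth22.cl_hyp_natCast j hcl, Pic13Lib.cl_hyp_add, neg_add_cancel, Pic13Lib.cl_hyp_zero])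
      (by rw [← mul_pow, hLM, one_pow])
  have hr : ∀ r : Fin a, ∃ m₀ : ℤ, ∀ m : ℤ, m₀ ≤ m → ∀ i ≤ b, Subsingleton (Coh.HH X
      (CohB1.tensorMod (CohB1.tensorMod F (CohB1.tensorPow M r)) (Pic13Lib.hyp j (-m))) i) := fun r =>
    (PD70.hvan_closed_iff j (AmpleVan.isCoh_tensor hF (AmpleVan.isCoh_invertible
      (InvX.isInvertible_tensorPow hMinv r))) b).2 fun x hx => by
        rw [depth_tensor F (InvX.isInvertible_tensorPow hMinv r) x]
        exact hdepth x hx
  choose m₁ hm₁ using hr
  refine ⟨a * (Finset.univ.sup fun r => (m₁ r).toNat) + a, fun n hn i hi => ?_⟩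
  have hlt : n % a < a := Nat.mod_lt _ ha
  have hd : (m₁ ⟨n % a, hlt⟩).toNat ≤ n / a := by
    refine le_trans (Finset.le_sup (f := fun r => (m₁ r).toNat) (Finset.mem_univ (⟨n % a, hlt⟩ : Fin a))) ?_
    exact (Nat.le_div_iff_mul_le ha).2 (by rw [mul_comm]; omega)
  refine QCoh.subsingleton_HH_of_iso (H23.PicMul.cl_eq_iff.1 ?_).some i
    (hm₁ ⟨n % a, hlt⟩ ((n / a : ℕ) : ℤ) (by omega) i hi)
  rw [H23.PicMul.cl_tensor, H23.PicMul.cl_tensor, H23.PicMul.cl_tensor, H23.PicMul.cl_tensorPow,
    H23.PicMul.cl_tensorPow, hneg, mul_assoc, ← pow_add, Nat.mod_add_div]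

end Groth.Agent.VarBase.NegTwist
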