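import Groth.Agent.VarBase.GenPush
import Groth.Agent.H23.RedSub

/-!
# Scheme theoretic images of integral schemes
-/

set_option autoImplicit false
set_option linter.style.haveILetI false
set_option linter.unusedSectionVars false
set_option backward.isDefEq.respectTransparency false
set_option backward.isDefEq.respectTransparency.types false

universe u

open CategoryTheory CategoryTheory.Limits AlgebraicGeometry TopologicalSpace

namespace Groth.Agent.VarBase

/-- Scheme theoretic images of integral schemes are integral. -/
theorem isIntegral_image {A B : Scheme.{u}} (q : A ⟶ B) [IsIntegral A] [IsProper q] :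
    IsIntegral q.ker.subscheme := by
  let S : Closeds B := q.ker.support
  let V := Scheme.IdealSheafData.vanishingIdeal S
  have hr : Set.range V.subschemeι = (S : Set B) := by
    rw [Scheme.IdealSheafData.range_subschemeι, Scheme.IdealSheafData.coe_support_vanishingIdeal]
  obtain ⟨g, hg⟩ := Groth.Agent.H23.RedSub.exists_lift_closed q V.subschemeι
    (by rw [hr]; exact q.range_subset_ker_support)
  have e : q.ker = V := le_antisymm (Scheme.IdealSheafData.le_support_iff_le_vanishingIdeal.1 le_rfl)
    (by rw [← hg]; exact (Scheme.IdealSheafData.ker_subschemeι (I := V)).symm.trans_le (g.le_ker_comp V.subschemeι))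
  haveI : IsReduced V.subscheme := inferInstance
  haveI : IsReduced q.ker.subscheme := by rw [e]; infer_instance
  haveI : IrreducibleSpace q.ker.subscheme := by
    have hirr : IsIrreducible (Set.range q.ker.subschemeι) := by
      rw [Scheme.IdealSheafData.range_subschemeι, Scheme.Hom.support_ker]
      refine IsIrreducible.closure ?_
      have h := (IrreducibleSpace.isIrreducible_univ A).image q q.continuous.continuousOn
      rwa [Set.image_univ] at h
    haveI := Subtype.irreducibleSpace hirr
    exact (q.ker.subschemeι.isEmbedding.toHomeomorph).irreducibleSpace_iff.2 inferInstance
  exact isIntegral_of_irreducibleSpace_of_isReduced q.ker.subscheme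

theorem toImage_genericPoint {A B : Scheme.{u}} (q : A ⟶ B) [IsIntegral A] [IsProper q]
    [IsIntegral q.ker.subscheme] [IsIntegral q.image] : q.toImage (genericPoint A) = genericPoint q.image := by
  have h := (genericPoint_spec A).image q.toImage.continuous
  rw [Set.image_univ, DenseRange.closure_range q.toImage.denseRange] at h
  exact h.eq (genericPoint_spec q.image)

end Groth.Agent.VarBase
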