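import Groth.Agent.VarBase.Nef
import Groth.Agent.VarBase.GenPush
import Groth.Agent.VarBase.Image
import Groth.Agent.VarBase.IntegralSub
import Groth.Agent.AmpleVan.Pull
import Groth.Agent.PnCoh.Chow.Exists

/-!
# Kleiman's theorem on proper schemes
-/

set_option autoImplicit false
set_option linter.style.haveILetI false
set_option linter.unusedSectionVars false
set_option backward.isDefEq.respectTransparency false
set_option backward.isDefEq.respectTransparency.types false
set_option maxHeartbeats 800000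

universe u

open CategoryTheory CategoryTheory.Limits AlgebraicGeometry TopologicalSpace

noncomputable section

namespace Groth.Agent.VarBase

open Groth.Agent.HilbPoly (Additive additive_euler iterD additive_iterD)

variable (k : Type u) [Field k]

/-- A proper morphism which is an isomorphism over a nonempty open has degree one and preserves dimensions. -/
theorem birational_facts {Z Z' : Scheme.{u}} [Z.Over (Spec (CommRingCat.of k))] [Z'.Over (Spec (CommRingCat.of k))]
    [IsProper (Z ↘ Spec (CommRingCat.of k))] [IsProper (Z' ↘ Spec (CommRingCat.of k))] [IsIntegral Z] [IsIntegral Z']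
    (π : Z' ⟶ Z) (hπ : π ≫ (Z ↘ Spec (CommRingCat.of k)) = Z' ↘ Spec (CommRingCat.of k))
    {U : Z.Opens} (hU : Nonempty U.toScheme) [IsIso (π ∣_ U)] :
    π (genericPoint Z') = genericPoint Z ∧ π.residueDegree (genericPoint Z') = 1 ∧
      topologicalKrullDim Z' = topologicalKrullDim Z := by
  haveI : IsProper π := isProper_over k π hπ
  have hη : genericPoint Z ∈ U := ((genericPoint_spec Z).mem_open_set_iff U.2).2
    (by obtain ⟨u⟩ := hU; exact ⟨u.1, trivial, u.2⟩)
  obtain ⟨x', hx'⟩ : ∃ x' : (π ⁻¹ᵁ U).toScheme, (π ∣_ U) x' = ⟨genericPoint Z, hη⟩ :=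
    (TopCat.homeoOfIso (asIso (π ∣_ U).base)).surjective _
  have hπx : π x'.1 = genericPoint Z := by
    rw [← morphismRestrict_base_coe π U x']
    exact congrArg Subtype.val hx'
  have hgen : π (genericPoint Z') = genericPoint Z := by
    have h : π (genericPoint Z') ⤳ genericPoint Z := hπx ▸ (genericPoint_specializes x'.1).map π.continuous
    exact (h.antisymm (genericPoint_specializes _)).eq
  have hmem : genericPoint Z' ∈ π ⁻¹ᵁ U := by show π (genericPoint Z') ∈ U; rw [hgen]; exact hη
  let u : (π ⁻¹ᵁ U).toScheme := ⟨genericPoint Z', hmem⟩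
  have hcomp : (π ⁻¹ᵁ U).ι ≫ π = (π ∣_ U) ≫ U.ι := (morphismRestrict_ι π U).symm
  refine ⟨hgen, ?_, ?_⟩
  · have h := residueDegree_congr_hom hcomp u
    rw [CycLib.residueDegree_comp, CycLib.residueDegree_comp, CycLib.residueDegree_preimmersion (j := (π ⁻¹ᵁ U).ι),
      CycLib.residueDegree_preimmersion (j := U.ι), CycLib.residueDegree_preimmersion (j := π ∣_ U), mul_one, one_mul] at h
    exact h
  · rw [VarDim.topologicalKrullDim_eq_deg_genericPoint (Z ↘ Spec (CommRingCat.of k)),
      VarDim.topologicalKrullDim_eq_deg_genericPoint (Z' ↘ Spec (CommRingCat.of k))]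
    have e1 := VarDim.deg_comp (Z' ↘ Spec (CommRingCat.of k)) (π ⁻¹ᵁ U).ι u
    have e2 := VarDim.deg_comp (Z ↘ Spec (CommRingCat.of k)) ((π ∣_ U) ≫ U.ι) u
    have e3 := VarDim.deg_congr (k := k) (show (π ⁻¹ᵁ U).ι ≫ (Z' ↘ Spec (CommRingCat.of k)) =
      ((π ∣_ U) ≫ U.ι) ≫ (Z ↘ Spec (CommRingCat.of k)) by rw [← hcomp, Category.assoc, hπ]) u
    rw [e1, e2] at e3
    have e4 : ((π ∣_ U) ≫ U.ι) u = genericPoint Z := by rw [← hcomp]; exact hgen
    rw [e4] at e3
    exact congrArg (fun a : ℕ => ((a : ℕ∞) : WithBot ℕ∞)) e3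

/-- Nef modules pull back to nef modules. -/
theorem nefOn_pullback {X Y : Scheme.{u}} [X.Over (Spec (CommRingCat.of k))] [Y.Over (Spec (CommRingCat.of k))]
    [IsProper (X ↘ Spec (CommRingCat.of k))] [IsProper (Y ↘ Spec (CommRingCat.of k))] (f : Y ⟶ X)
    (hf : f ≫ (X ↘ Spec (CommRingCat.of k)) = Y ↘ Spec (CommRingCat.of k))
    {L : X.Modules} (hL : PicF.IsInvertible L) (h : NefOn k L) :
    NefOn k ((Scheme.Modules.pullback f).obj L) := by
  intro C c hc hC hd
  haveI := hc
  haveI := hC
  haveI : IsProper f := isProper_over k f hf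
  let q := c ≫ f
  haveI : IsProper q := MorphismProperty.comp_mem @IsProper _ _ inferInstance inferInstance
  haveI : IsIntegral q.ker.subscheme := isIntegral_image q
  haveI : IsIntegral q.image := inferInstanceAs (IsIntegral q.ker.subscheme)
  haveI : IsClosedImmersion q.imageι := inferInstanceAs (IsClosedImmersion q.ker.subschemeι)
  haveI := CurveCohLib.isNoetherian_of_proper (k := k) (X := X)
  have hd' : topologicalKrullDim C = ((1 : ℕ) : WithBot ℕ∞) := by rw [hd, Nat.cast_one]
  have h1 := iterD_pullback_eq_mul k f hf c q.imageι q.toImage q.toImage_imageι (toImage_genericPoint q) hd'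
    (l := [L]) (by simpa using hL) rfl
  rw [List.map_cons, List.map_nil] at h1
  rw [h1]
  refine mul_nonneg (Int.natCast_nonneg _) ?_
  by_cases h2 : topologicalKrullDim q.image = 1
  · exact h q.image q.imageι inferInstance inferInstance h2
  · refine (HilbPoly.iterD_eq_zero 1 (additive_euler k) [L] rfl (by simpa using hL) _
      (QCoh.isCoh_push_structure q.imageι) ?_).ge
    letI : C.Over (Spec (CommRingCat.of k)) := ⟨c ≫ (Y ↘ Spec (CommRingCat.of k))⟩
    letI : q.image.Over (Spec (CommRingCat.of k)) := ⟨q.imageι ≫ (X ↘ Spec (CommRingCat.of k))⟩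
    haveI : IsProper (C ↘ Spec (CommRingCat.of k)) := isProper_sub c k
    haveI : IsProper (q.image ↘ Spec (CommRingCat.of k)) := isProper_sub q.imageι k
    have hw : q.toImage ≫ (q.image ↘ Spec (CommRingCat.of k)) = C ↘ Spec (CommRingCat.of k) := by
      show q.toImage ≫ q.imageι ≫ (X ↘ Spec (CommRingCat.of k)) = c ≫ (Y ↘ Spec (CommRingCat.of k))
      rw [Scheme.Hom.toImage_imageι_assoc, Category.assoc, hf]
    refine (H23.TopDim.dim_le_dim_of_subset (QCoh.support_push_subset q.imageι QCoh.isQCoh_structureModule)).trans_lt ?_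
    rw [dim_range (X := X) q.imageι]
    rw [VarDim.topologicalKrullDim_eq_deg_genericPoint (q.image ↘ Spec (CommRingCat.of k))] at h2 ⊢
    rw [VarDim.topologicalKrullDim_eq_deg_genericPoint (C ↘ Spec (CommRingCat.of k))] at hd'
    have h3 := VarDim.deg_map_le q.toImage (q.image ↘ Spec (CommRingCat.of k)) hw (genericPoint C)
    rw [toImage_genericPoint q] at h3
    have h4 : VarDim.deg (C ↘ Spec (CommRingCat.of k)) (genericPoint C) = 1 := by exact_mod_cast hd'
    have h5 : VarDim.deg (q.image ↘ Spec (CommRingCat.of k)) (genericPoint q.image) ≠ 1 := fun e => h2 (by rw [e]; rfl)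
    exact_mod_cast (by omega : VarDim.deg (q.image ↘ Spec (CommRingCat.of k)) (genericPoint q.image) < 1)

/-- Top self-intersections of nef modules are nonnegative. -/
theorem mult_nonneg_of_nef {X : Scheme.{u}} [X.Over (Spec (CommRingCat.of k))]
    [IsProper (X ↘ Spec (CommRingCat.of k))] {L : X.Modules} (hL : PicF.IsInvertible L) (hnef : NefOn k L)
    {Z : Scheme.{u}} (i : Z ⟶ X) [IsClosedImmersion i] [IsIntegral Z] {d : ℕ}
    (hd : topologicalKrullDim Z = (d : WithBot ℕ∞)) :
    0 ≤ HilbPoly.mult k L d ((Coh.push i).obj (Coh.structureModule Z)) := by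
  letI : Z.Over (Spec (CommRingCat.of k)) := ⟨i ≫ (X ↘ Spec (CommRingCat.of k))⟩
  haveI : IsProper (Z ↘ Spec (CommRingCat.of k)) := isProper_sub i k
  obtain ⟨N, Z', π, p, hint, hpi, hpf, hπ, U, hU, hiso⟩ := PnCoh.Chow.chow_integral (Z ↘ Spec (CommRingCat.of k))
  haveI := hpi; haveI := hπ; haveI := hint; haveI := hiso
  letI : Z'.Over (Spec (CommRingCat.of k)) := ⟨π ≫ (Z ↘ Spec (CommRingCat.of k))⟩
  haveI : IsProper (Z' ↘ Spec (CommRingCat.of k)) :=
    MorphismProperty.comp_mem @IsProper _ _ hπ inferInstance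
  haveI := CurveCohLib.isNoetherian_of_proper (k := k) (X := Z)
  haveI := CurveCohLib.isNoetherian_of_proper (k := k) (X := Z')
  obtain ⟨hgen, hdeg, hdim⟩ := birational_facts k π rfl hU
  have hLZ := PicClLib.isInvertible_pullback i hL
  have hnefZ := nefOn_restrict k i rfl hL hnef
  have hnef' := nefOn_pullback k π rfl hLZ hnefZ
  obtain ⟨H, hH⟩ := AmpleVan.exists_ample_of_closedImmersion_projSpace p
  have hd' : topologicalKrullDim Z' = (d : WithBot ℕ∞) := hdim.trans hd
  have h0 := sym_nef_nonneg k d hd' (PicClLib.isInvertible_pullback π hLZ) hnef' hH 0 (Nat.zero_le d)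
  rw [List.replicate_zero, List.nil_append, Nat.sub_zero] at h0
  have hl : ∀ A ∈ List.replicate d ((Scheme.Modules.pullback i).obj L), PicF.IsInvertible A := fun A hA =>
    List.eq_of_mem_replicate hA ▸ hLZ
  have h1 := iterD_pullback_eq_mul k π rfl (𝟙 Z') (𝟙 Z) π (by rw [Category.comp_id, Category.id_comp]) hgen hd'
    hl List.length_replicate
  rw [List.map_replicate, Category.id_comp, hdeg, Nat.cast_one, one_mul] at h1
  rw [mult_push k i rfl hL d QCoh.isCoh_structureModule']
  have hA := additive_iterD (additive_euler k (X := Z)) hl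
  have hA' := additive_iterD (additive_euler k (X := Z'))
    (l := List.replicate d ((Scheme.Modules.pullback π).obj ((Scheme.Modules.pullback i).obj L)))
    (fun A hA => List.eq_of_mem_replicate hA ▸ PicClLib.isInvertible_pullback π hLZ)
  rw [hA'.iso _ _ ⟨(Scheme.Modules.pushforwardId Z').app (Coh.structureModule Z')⟩,
    hA.iso _ _ ⟨(Scheme.Modules.pushforwardId Z).app (Coh.structureModule Z)⟩] at h1
  exact h0.trans_eq h1

end Groth.Agent.VarBase
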