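import Groth.Agent.DimFormula.Scheme
import Groth.Agent.FibDim.BaseChange
import Groth.Agent.FibDim.Semicont

/-!
# Fibre dimensions along a specialization out of a fibre, Noetherian local ring of the base only
-/

universe u

open AlgebraicGeometry CategoryTheory CategoryTheory.Limits Order Topology

namespace Groth.Agent.VarBase.GenDrop

variable {X Y : Scheme.{u}} (f : X ⟶ Y) [LocallyOfFiniteType f]

/-- If `η` specializes to `z` and lies over another point of the base, the relative degree at `z` is at
most that at `η`, plus the dimension of the local ring of the base, minus one. -/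
theorem rd_add_one_le {η z : X} (h : η ⤳ z) (hne : f η ≠ f z) [IsNoetherianRing (Y.presheaf.stalk (f z))] :
    ((FibDim.rd f z + 1 : ℕ) : WithBot ℕ∞) ≤
      (FibDim.rd f η : ℕ) + ringKrullDim (Y.presheaf.stalk (f z)) := by
  set g := Y.fromSpecStalk (f z)
  haveI : IsNoetherianRing (Y.presheaf.stalk (f z) : Type u) := ‹_›
  let p := pullback.fst f g
  let q := pullback.snd f g
  have hpb : IsPullback p q f g := IsPullback.of_hasPullback f g
  haveI : LocallyOfFiniteType q := MorphismProperty.of_isPullback hpb ‹_›
  haveI : IsLocallyNoetherian (pullback f g) := LocallyOfFiniteType.isLocallyNoetherian q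
  have hp : IsEmbedding p := p.isEmbedding
  have hmem : ∀ t : X, t ⤳ z → t ∈ Set.range p := fun t ht => by
    rw [Scheme.Pullback.range_fst]
    show f t ∈ Set.range g
    exact DimFormula.fromSpecStalk_range_of_specializes (ht.map f.continuous)
  obtain ⟨z', hz'⟩ := hmem z (specializes_refl z)
  obtain ⟨η', hη'⟩ := hmem η h
  have h' : η' ⤳ z' := hp.isInducing.specializes_iff.1 (by rw [hη', hz']; exact h)
  have hrd : ∀ w' : ↥(pullback f g), FibDim.rd q w' = FibDim.rd f (p w') := fun w' => by
    have hfw : f (p w') = g (q w') := congrArg (fun φ : pullback f g ⟶ Y => φ w') hpb.w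
    obtain ⟨x', hx', -, he⟩ := FibDim.exists_rd_baseChange_eq hpb (p w') (q w') hfw
    rwa [hp.injective hx'] at he
  have h1 := (DimFormula.cd_formula q h').1
  rw [hrd, hrd, hz', hη'] at h1
  have hgz : g (q z') = f z :=
    (congrArg (fun φ : pullback f g ⟶ Y => φ z') hpb.w).symm.trans (congrArg f hz')
  have hpos : 1 ≤ DimFormula.cd η' z' := by
    rcases Nat.eq_zero_or_pos (DimFormula.cd η' z') with h0 | h0
    · rw [DimFormula.cd_eq_zero_iff h'] at h0
      exact absurd (congrArg f (hη'.symm.trans ((congrArg p h0).trans hz'))) hne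
    · exact h0
  have hcd := DimFormula.cd_le_codim (h'.map q.continuous)
  have hdim : (DimFormula.codim (q z') : WithBot ℕ∞) ≤ ringKrullDim (Y.presheaf.stalk (f z)) := by
    rw [← DimFormula.ringKrullDim_stalk]
    refine (ringKrullDim_le_of_surjective (g.stalkMap (q z')).hom (g.stalkMap_surjective (q z'))).trans
      (le_of_eq ?_)
    rw [hgz]
  calc ((FibDim.rd f z + 1 : ℕ) : WithBot ℕ∞) ≤ ((FibDim.rd f η + DimFormula.codim (q z') : ℕ) : WithBot ℕ∞) := by
        exact_mod_cast (by omega : FibDim.rd f z + 1 ≤ FibDim.rd f η + DimFormula.codim (q z'))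
    _ ≤ _ := by rw [Nat.cast_add]; exact add_le_add le_rfl hdim

/-- At a maximal point the local dimension of the fibre is the relative degree. -/
theorem fibreDimAt_of_maximal {η : X} (hη : ∀ z, z ⤳ η → z = η) :
    FlatMor.fibreDimAt f η = ((FibDim.rd f η : ℕ∞) : WithBot ℕ∞) := by
  obtain ⟨z, hz, -, he, -⟩ := FibDim.exists_fibreDimAt_eq f η
  rw [he, hη z hz]

/-- A maximal generization, as the generic point of an irreducible component. -/
theorem exists_component (z : X) :
    ∃ (Z : Set X) (η : X), Z ∈ irreducibleComponents (X : Type u) ∧ IsGenericPoint η Z ∧ η ⤳ z ∧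
      z ∈ Z ∧ ∀ t, t ⤳ η → t = η := by
  have hZ := irreducibleComponent_mem_irreducibleComponents z
  have hcl : IsClosed (irreducibleComponent z) := isClosed_irreducibleComponent
  obtain ⟨η, hη⟩ := QuasiSober.sober isIrreducible_irreducibleComponent hcl
  refine ⟨_, η, hZ, hη, hη.specializes mem_irreducibleComponent, mem_irreducibleComponent, fun t ht => ?_⟩
  have hle : irreducibleComponent z ≤ closure {t} := by
    rw [← hη.def]
    exact specializes_iff_closure_subset.1 ht
  exact (isGenericPoint_closure (x := t)).eq (show IsGenericPoint η (closure {t}) from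
    hη.def.trans (le_antisymm hle (hZ.2 isIrreducible_singleton.closure hle)))

end Groth.Agent.VarBase.GenDrop
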