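import Groth.Agent.Lib.CurvePoint
import Groth.Agent.CurveCohLib.Nonspecial
import Groth.Agent.VarBase.DimOne.Projective
import Groth.Agent.AGStr.GeomReduced
import Groth.Agent.H23.EquidimFibres
import Groth.Agent.S1536
import Groth.Agent.S2501
import Groth.Agent.AmpleVan.Uniform
import Groth.Agent.CurveVA.Twist

/-!
# Nonspecial invertible modules on a possibly singular integral curve

Twisting by a regular closed point at which some section generates lowers `h⁰` by one and keeps `h¹ = 0`.
-/

set_option linter.style.haveILetI false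
set_option linter.unusedSectionVars false
set_option backward.isDefEq.respectTransparency false
set_option backward.isDefEq.respectTransparency.types false
set_option maxHeartbeats 1000000

universe u

open CategoryTheory CategoryTheory.Limits AlgebraicGeometry TopologicalSpace Opposite
open Groth.Agent.PnCoh.Finite (mapLin)

noncomputable section

namespace Groth.Agent.VarBase.NonspecialLine

open Groth.Agent Groth.Agent.CurveStable Groth.Agent.CurveBundle Groth.Agent.CurveSlope Groth.Agent.CurvePoint Groth.Agent.InvX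

variable {X : Scheme.{u}} (k : Type u) [Field k] [IsAlgClosed k] [X.Over (Spec (CommRingCat.of k))]
  [IsIntegral X] [IsProper (X ↘ Spec (CommRingCat.of k))]

include k in
theorem geometricallyReduced : GeometricallyReduced (X ↘ Spec (CommRingCat.of k)) := by
  haveI : IsIntegral (Over.mk (X ↘ Spec (CommRingCat.of k))).left := inferInstanceAs (IsIntegral X)
  haveI := H23.EquidimFibres.geometricallyIntegral_of_isAlgClosed (V := Over.mk (X ↘ Spec (CommRingCat.of k)))
  exact inferInstanceAs (GeometricallyReduced (Over.mk (X ↘ Spec (CommRingCat.of k))).hom)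

/-- The global functions of an integral proper scheme over an algebraically closed field. -/
theorem h0_eq_one : Module.finrank k (Coh.HH X (Coh.structureModule X) 0) = 1 := by
  haveI := geometricallyReduced k (X := X)
  haveI := S2501.result (X ↘ Spec (CommRingCat.of k))
  exact S1536.result k X

include k in
/-- Closed points with principal local ring lie in every nonempty open. -/
theorem exists_pir_point (hdim : topologicalKrullDim X = 1) (W : X.Opens) (hW : (W : Set X).Nonempty) :
    ∃ p ∈ W, IsClosed ({p} : Set X) ∧ IsPrincipalIdealRing (X.presheaf.stalk p) := by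
  haveI := CurveCohLib.isNoetherian_of_proper (k := k) (X := X)
  haveI := geometricallyReduced k (X := X)
  let f := X ↘ Spec (CommRingCat.of k)
  haveI : JacobsonSpace X := LocallyOfFiniteType.jacobsonSpace f
  obtain ⟨y, hy⟩ := (AGStr.dense_smoothLocus_of_geometricallyReduced f).inter_open_nonempty _ W.2 hW
  obtain ⟨p, ⟨hpW, hps⟩, hpc⟩ := nonempty_inter_closedPoints (Z := (W : Set X) ∩ f.smoothLocus) ⟨y, hy⟩
    ((W.2.inter f.smoothLocus.2).isLocallyClosed)
  have hd : ringKrullDim (X.presheaf.stalk p) ≤ 1 :=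
    (SmoothReg.ringKrullDim_stalk_closedPoint f hpc).le.trans hdim.le
  have hreg := SmoothReg.isRegularLocalRing_stalk_of_mem_smoothLocus f (x := p) hps
  rw [IsRegularLocalRing.iff_finrank_cotangentSpace] at hreg
  have h1 : Module.finrank (IsLocalRing.ResidueField (X.presheaf.stalk p))
      (IsLocalRing.CotangentSpace (X.presheaf.stalk p)) ≤ 1 := by
    rw [← hreg] at hd
    exact_mod_cast hd
  exact ⟨p, hpW, hpc, ((tfae_of_isNoetherianRing_of_isLocalRing_of_isDomain (R := X.presheaf.stalk p)).out 5 0).1 h1⟩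

variable (p : X) (hp : IsClosed ({p} : Set X))

theorem euler_quot : Curv2.euler k X (ClSub.quotMod (ptIdeal p hp)) = 1 := by
  classical
  haveI := CurveCohLib.isNoetherian_of_proper (k := k) (X := X)
  let Q := ClSub.quotMod (ptIdeal p hp)
  obtain ⟨h, hfin⟩ := CurveCohLib.euler_eq_sum_stalks (k := k) (ParShLib.isCoh_quotMod (ptIdeal p hp))
    (fun _ hx => Set.mem_singleton_iff.1 (support_quot_subset p hp hx) ▸ hp) {p} (by simpa using support_quot_subset p hp)
  rw [h, Finset.sum_singleton]
  letI := CurveCohLib.stalkModuleK k Q p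
  haveI := hfin p (Finset.mem_singleton_self p)
  haveI : Nontrivial (Q.presheaf.stalk p) := not_subsingleton_iff_nontrivial.1 (not_subsingleton_stalk p hp)
  obtain ⟨q₀, hq₀⟩ : ∃ q₀ : Q.presheaf.stalk p, ∀ q, ∃ a : X.presheaf.stalk p, q = a • q₀ :=
    ParShLib.exists_germ_smul (ptIdeal p hp) p
  let L : k →ₗ[k] Q.presheaf.stalk p :=
    { toFun := fun c => Curv2.stalkMap k X p c • q₀
      map_add' := fun c d => by rw [map_add, add_smul]
      map_smul' := fun a c => by
        show Curv2.stalkMap k X p (a * c) • q₀ = Curv2.stalkMap k X p a • (Curv2.stalkMap k X p c • q₀)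
        rw [map_mul, mul_smul] }
  have hL : Function.Surjective L := fun q => by
    obtain ⟨a, ha⟩ := hq₀ q
    obtain ⟨c, hc⟩ := CurveSection.exists_stalkMap_sub_mem k hp a
    refine ⟨c, ?_⟩
    have h0 := smul_quot_eq_zero p hp hc q₀
    rw [sub_smul, sub_eq_zero] at h0
    exact h0.symm.trans (ha.symm : a • q₀ = q)
  have h1 := LinearMap.finrank_le_finrank_of_surjective hL
  have h2 : 0 < Module.finrank k (Q.presheaf.stalk p) := Module.finrank_pos
  rw [Module.finrank_self] at h1
  exact_mod_cast le_antisymm h1 h2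


include k in
theorem isInvertible_ptMod (hdim : topologicalKrullDim X = 1) [IsPrincipalIdealRing (X.presheaf.stalk p)] :
    PicF.IsInvertible (ptMod p hp) := by
  haveI := CurveCohLib.isNoetherian_of_proper (k := k) (X := X)
  have hS := shortExact_pt p hp
  haveI : Mono (ClSub.idealModι (ptIdeal p hp)) := hS.mono_f
  have hO1 := InvEnd.isFinLocFreeOfRank_one (CurveDeg.isInvertible_structureModule (X := X))
  have hOf := isFinLocFree_of_rank hO1
  have hc : Coh.IsCoh (ptMod p hp) :=
    QCoh.isCoh_kernel QCoh.isCoh_structureModule' (ParShLib.isCoh_quotMod (ptIdeal p hp)) _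
  have hf : FlatMod.IsFinLocFree (ptMod p hp) := QCoh.isFinLocFree_iff.2 ⟨QCoh.isCoh_iff_isFP.1 hc, fun x => by
    by_cases hx : x = p
    · subst hx
      exact free_stalk_of_mono (ClSub.idealModι (ptIdeal x hp)) hOf x
    · haveI := QCoh.free_stalk_of_isFinLocFree hOf x
      have hex := hS.map_of_exact (DerSch.stalkFunctor X x)
      have hsurj : Function.Surjective (Algz.stalkMapₗ (ClSub.idealModι (ptIdeal p hp)) x) := fun z => by
        have hsub : Subsingleton ↑((DerSch.stalkFunctor X x).obj (ClSub.quotMod (ptIdeal p hp))) :=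
          subsingleton_stalk_of_ne p hp hx
        obtain ⟨m, hm⟩ := (ShortComplex.moduleCat_exact_iff _).1 hex.exact z (@Subsingleton.elim _ hsub _ _)
        exact ⟨m, hm⟩
      exact Module.Free.of_equiv (LinearEquiv.ofBijective _ ⟨stalkMap_injective _ x, hsurj⟩).symm⟩
  have h := rk_add_coh k _ _ _ hS QCoh.isCoh_structureModule'
  have h0 : rk (ClSub.quotMod (ptIdeal p hp)) = 0 := by
    haveI : Subsingleton ((ClSub.quotMod (ptIdeal p hp)).presheaf.stalk (genericPoint X)) := by
      refine subsingleton_stalk_of_ne p hp fun hη => ?_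
      have : CohB1.support (ClSub.quotMod (ptIdeal p hp)) ⊆ {p} := support_quot_subset p hp
      obtain ⟨S, hS2, hScl⟩ := CurveSection.exists_closed_finset k hdim 2
      have hall : ∀ x : X, IsClosed ({x} : Set X) → x = genericPoint X := fun x _ =>
        ((genericPoint_spec X).specializes (Set.mem_univ x)).mem_closed (hη ▸ hp) (Set.mem_singleton _)
      have : S.card ≤ 1 := Finset.card_le_one.2 fun a ha b hb =>
        (hall a (hScl a ha)).trans (hall b (hScl b hb)).symm
      omega
    letI := (isField_stalk_generic (X := X)).toField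
    exact Module.finrank_zero_of_subsingleton
  rw [rk_eq hO1, h0] at h
  have h' : rk (ptMod p hp) = 1 := by
    have h2 : 1 = rk (ptMod p hp) + 0 := h
    omega
  have hr : FlatMod.IsFinLocFreeOfRank 1 (ptMod p hp) := h' ▸ isFinLocFreeOfRank_rk hf
  exact fun x => let ⟨U, hx, ⟨e⟩⟩ := hr x; ⟨U, hx, ⟨e ≪≫ coproductUniqueIso _⟩⟩

/-- A section generating at the supporting point of the quotient is not in the submodule. -/
theorem finrank_lt_of_generates {S : ShortComplex X.Modules} (hS : S.ShortExact) (hB : Coh.IsCoh S.X₂)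
    (hsupp : CohB1.support S.X₃ ⊆ {p}) (hne : Curv2.euler k X S.X₃ ≠ 0) (t : Coh.HH X S.X₂ 0)
    (hgen : ∀ v : S.X₂.presheaf.stalk p, ∃ a : X.presheaf.stalk p,
      v = a • S.X₂.presheaf.germ ⊤ p trivial (Sheaf.H.equiv₀ (Coh.toAb S.X₂) isTerminalTop t : Γ(S.X₂, ⊤))) :
    Module.finrank k (Coh.HH X S.X₁ 0) < Module.finrank k (Coh.HH X S.X₂ 0) := by
  haveI := CurveCohLib.isNoetherian_of_proper (k := k) (X := X)
  haveI := CurveCohLib.finite_HH (k := k) hB 0
  have hinj : Function.Injective (mapLin k S.f 0) := CurveCohLib.mapLin_f_zero_injective k hS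
  rw [← LinearMap.finrank_range_of_inj hinj]
  refine Submodule.finrank_lt fun htop => ?_
  obtain ⟨z, hz⟩ : t ∈ LinearMap.range (mapLin k S.f 0) := htop ▸ Submodule.mem_top
  have hz' : S.f.app ⊤ (Sheaf.H.equiv₀ (Coh.toAb S.X₁) isTerminalTop z) =
      (Sheaf.H.equiv₀ (Coh.toAb S.X₂) isTerminalTop t : Γ(S.X₂, ⊤)) :=
    (Sheaf.H.equiv₀_naturality isTerminalTop ((QCoh.toAbFunctor X).map S.f) z).trans
      (congrArg (Sheaf.H.equiv₀ (Coh.toAb S.X₂) isTerminalTop) hz)
  let F := DerSch.stalkFunctor X p
  have hgz : (F.map S.g).hom (S.X₂.presheaf.germ ⊤ p trivial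
      (Sheaf.H.equiv₀ (Coh.toAb S.X₂) isTerminalTop t : Γ(S.X₂, ⊤))) = 0 := by
    rw [← hz', ← RefHull.stalkMapₗ_germ (U := ⊤) S.f p trivial]
    show ((F.map S.f) ≫ (F.map S.g)).hom _ = 0
    rw [← F.map_comp, S.zero, F.map_zero]
    rfl
  haveI : Epi (F.map S.g) := by
    haveI : Epi S.g := hS.epi_g
    infer_instance
  have hsub : Subsingleton (S.X₃.presheaf.stalk p) := subsingleton_of_forall_eq 0 fun w => by
    obtain ⟨v, rfl⟩ := (ModuleCat.epi_iff_surjective (F.map S.g)).1 inferInstance w
    obtain ⟨a, rfl⟩ := hgen v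
    rw [map_smul, hgz, smul_zero]
  haveI : ∀ x, Subsingleton (S.X₃.presheaf.stalk x) := fun x => by
    by_cases hx : x = p
    · exact hx ▸ hsub
    · exact not_not.1 fun h => hx (hsupp h)
  exact hne (CurveSlope.euler_eq_zero_of_isZero k (CurveCohLib.isZero_of_subsingleton_stalks this))

/-- Lowering `h⁰` by one with `h¹ = 0`. -/
theorem exists_step (hdim : topologicalKrullDim X = 1) {L : X.Modules} (hL : PicF.IsInvertible L) {n : ℕ}
    (h0 : Module.finrank k (Coh.HH X L 0) = n + 1) (h1 : Subsingleton (Coh.HH X L 1)) :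
    ∃ M : X.Modules, PicF.IsInvertible M ∧ Module.finrank k (Coh.HH X M 0) = n ∧ Subsingleton (Coh.HH X M 1) := by
  classical
  haveI := CurveCohLib.isNoetherian_of_proper (k := k) (X := X)
  have hL1 := InvEnd.isFinLocFreeOfRank_one hL
  have hLf : FlatMod.IsFinLocFree L := isFinLocFree_of_rank hL1
  have hLc : Coh.IsCoh L := CurveDeg.isCoh_of_isInvertible hL
  haveI : Nontrivial (Coh.HH X L 0) := Module.nontrivial_of_finrank_pos (R := k) (by omega)
  obtain ⟨t, ht⟩ := exists_ne (0 : Coh.HH X L 0)
  let s : Γ(L, ⊤) := Sheaf.H.equiv₀ (Coh.toAb L) isTerminalTop t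
  -- an open where `s` generates
  obtain ⟨U, hηU, e, he⟩ := InvX.exists_frame hL (genericPoint X)
  obtain ⟨c, hc⟩ := he.exists_coord le_rfl (AModX.res L (le_top : U ≤ ⊤) s)
  rw [AModX.res_self] at hc
  have hne : ((X.basicOpen c : X.Opens) : Set X).Nonempty := by
    by_contra hemp
    have hc0 : c = 0 := eq_zero_of_basicOpen_eq_bot c (Opens.ext (Set.not_nonempty_iff_eq_empty.1 hemp))
    rw [hc0, zero_smul] at hc
    refine ht ((Sheaf.H.equiv₀ (Coh.toAb L) isTerminalTop).injective ?_)
    rw [map_zero]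
    refine AModX.eq_of_locally s 0 fun y hy => ?_
    obtain ⟨W, hyW, ν, hν⟩ := InvX.exists_frame hL y
    obtain ⟨r, hr⟩ := hν.exists_coord le_rfl (AModX.res L (le_top : W ≤ ⊤) s)
    rw [AModX.res_self] at hr
    have hηW : genericPoint X ∈ W := ((genericPoint_spec X).specializes (Set.mem_univ y)).mem_open W.2 hyW
    refine ⟨W, le_top, hyW, ?_⟩
    have h0 : X.presheaf.germ W (genericPoint X) hηW r = 0 := (hν.germ_bijective hηW).1
      (show _ • L.presheaf.germ W _ hηW ν = (0 : X.presheaf.stalk (genericPoint X)) • L.presheaf.germ W _ hηW ν by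
        rw [← QCoh.germ_smul', ← hr, InvX.germ_res', ← InvX.germ_res' (le_top : U ≤ ⊤) hηU s, hc, map_zero, zero_smul])
    have hr0 : r = 0 := germ_injective_of_isIntegral X (genericPoint X) hηW (h0.trans (map_zero _).symm)
    rw [hr, hr0, zero_smul, map_zero]
  obtain ⟨p, hpc, hp, hpir⟩ := exists_pir_point k hdim (X.basicOpen c) hne
  haveI := hpir
  have hI := isInvertible_ptMod k p hp hdim
  have hM : PicF.IsInvertible ((DCoh.tensorBi.obj L).obj (ptMod p hp)) := H23.PicMul.isInvertible_tensor hL hI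
  refine ⟨_, hM, ?_⟩
  have hS := shortExact_of_iso_mid _ _ _
    (CurveTensor.shortExact_tensor hLf _ _ _ (shortExact_pt p hp)) (KFlatLib.tensorUnitIso L)
  have hMc : Coh.IsCoh ((DCoh.tensorBi.obj L).obj (ptMod p hp)) := CurveDeg.isCoh_of_isInvertible hM
  have hQc := CurveTensor.isCoh_tensor hLf (ParShLib.isCoh_quotMod (ptIdeal p hp))
  have hcl : ∀ x ∈ CohB1.support (ClSub.quotMod (ptIdeal p hp)), IsClosed ({x} : Set X) :=
    fun _ hx => Set.mem_singleton_iff.1 (support_quot_subset p hp hx) ▸ hp
  have hcl' : ∀ x ∈ CohB1.support ((DCoh.tensorBi.obj L).obj (ClSub.quotMod (ptIdeal p hp))), IsClosed ({x} : Set X) :=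
    fun x hx => hcl x (CurveTensor.support_tensor_subset hx)
  have hQ1 := CurveTensor.euler_tensor_torsion k hL1 (ParShLib.isCoh_quotMod (ptIdeal p hp)) hcl
  rw [euler_quot k p hp] at hQ1
  have hadd := euler_add' k _ _ _ hS hMc hLc hQc
  have hlt := finrank_lt_of_generates k p hS hLc
    (fun x hx => support_quot_subset p hp (CurveTensor.support_tensor_subset hx))
    (by rw [hQ1]; norm_num) t fun v => by
      have hpU : p ∈ U := X.basicOpen_le c hpc
      have hu : IsUnit (X.presheaf.germ U p hpU c) := (X.mem_basicOpen c p hpU).1 hpc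
      obtain ⟨a, ha⟩ := (he.germ_bijective hpU).2 v
      refine ⟨a * ↑hu.unit⁻¹, ?_⟩
      show v = _ • L.presheaf.germ ⊤ p trivial s
      rw [← InvX.germ_res' (le_top : U ≤ ⊤) hpU s, hc, QCoh.germ_smul', smul_smul, mul_assoc,
        IsUnit.val_inv_mul, mul_one]
      exact ha.symm
  change Module.finrank k (Coh.HH X ((DCoh.tensorBi.obj L).obj (ptMod p hp)) 0) < Module.finrank k (Coh.HH X L 0) at hlt
  set M := (DCoh.tensorBi.obj L).obj (ptMod p hp)
  rw [hQ1] at hadd
  have hχM := CurveRR.euler_eq_h0_sub_h1 k hdim.le hMc.1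
  have hχL := CurveRR.euler_eq_h0_sub_h1 k hdim.le hLc.1
  haveI := CurveCohLib.finite_HH (k := k) hMc 1
  have hh1 : Module.finrank k (Coh.HH X L 1) = 0 := Module.finrank_zero_of_subsingleton
  push_cast at hadd
  refine ⟨by omega, Module.finrank_zero_iff.1 (show Module.finrank k (Coh.HH X M 1) = 0 by omega)⟩

/-- Invertible modules without `H¹` and with `h⁰` as prescribed. -/
theorem exists_nonspecial (hdim : topologicalKrullDim X = 1) :
    (∃ L : X.Modules, PicF.IsInvertible L ∧ Module.finrank k (Coh.HH X L 0) = 1 ∧ Subsingleton (Coh.HH X L 1)) ∧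
    ∃ L : X.Modules, PicF.IsInvertible L ∧ Module.finrank k (Coh.HH X L 0) = 0 ∧ Subsingleton (Coh.HH X L 1) := by
  haveI := CurveCohLib.isNoetherian_of_proper (k := k) (X := X)
  haveI : X.IsSeparated := AmpleVan.isSeparated_of_proper (A := k)
  have key : ∀ d n : ℕ, ∀ L : X.Modules, PicF.IsInvertible L → Module.finrank k (Coh.HH X L 0) = n + d →
      Subsingleton (Coh.HH X L 1) →
      ∃ M : X.Modules, PicF.IsInvertible M ∧ Module.finrank k (Coh.HH X M 0) = n ∧ Subsingleton (Coh.HH X M 1) := by
    intro d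
    induction d with
    | zero => exact fun n L hL h0 h1 => ⟨L, hL, h0, h1⟩
    | succ d ih =>
      intro n L hL h0 h1
      obtain ⟨M, hM, hM0, hM1⟩ := exists_step k hdim hL (n := n + d) (by omega) h1
      exact ih n M hM hM0 hM1
  obtain ⟨H, hH⟩ := DimOne.exists_isAmple (X := X) hdim.le
  obtain ⟨d₀, hd⟩ := AmpleVan.exists_vanishing (A := k) hH (QCoh.isCoh_structureModule' (X := X))
  obtain ⟨m₀, hgen⟩ := AmpleX.eventually_generated hH QCoh.isQCoh_structureModule (QCoh.isCoh_structureModule' (X := X)).2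
  obtain ⟨G, iG, J, s, hs⟩ := hgen (max m₀ d₀) (le_max_left _ _)
  have hG : PicF.IsInvertible G := H23.PicMul.isInvertible_of_iso iG.symm (H23.PicMul.isInvertible_tensor CurveDeg.isInvertible_structureModule
    (InvX.isInvertible_tensorPow hH.1 _))
  have hG1 : Subsingleton (Coh.HH X G 1) := QCoh.subsingleton_HH_of_iso iG.symm _ (hd _ (le_max_right _ _) 0)
  have hpos : 0 < Module.finrank k (Coh.HH X G 0) := by
    by_contra h0
    haveI := CurveCohLib.finite_HH (k := k) (CurveDeg.isCoh_of_isInvertible hG) 0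
    haveI : Subsingleton (Coh.HH X G 0) := (Module.finrank_zero_iff (R := k)).1 (by omega)
    haveI : Subsingleton Γ(G, ⊤) := (Sheaf.H.equiv₀ (Coh.toAb G) isTerminalTop).symm.injective.subsingleton
    obtain ⟨U, hηU, e, he⟩ := InvX.exists_frame hG (genericPoint X)
    have hbot : (⊤ : Submodule (X.presheaf.stalk (genericPoint X)) (G.presheaf.stalk (genericPoint X))) ≤ ⊥ :=
      (hs (genericPoint X)).ge.trans (Submodule.span_le.2 (by
        rintro _ ⟨j, rfl⟩
        show G.presheaf.germ ⊤ (genericPoint X) trivial (s j) ∈ _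
        rw [Subsingleton.elim (s j) 0, map_zero]
        exact zero_mem _))
    exact one_ne_zero ((he.germ_bijective hηU).1
      (show (1 : X.presheaf.stalk (genericPoint X)) • G.presheaf.germ U _ hηU e = 0 • G.presheaf.germ U _ hηU e by
        rw [(Submodule.mem_bot _).1 (hbot (Submodule.mem_top (x := G.presheaf.germ U _ hηU e))), smul_zero, smul_zero]))
  obtain ⟨m, hm⟩ : ∃ m, Module.finrank k (Coh.HH X G 0) = 1 + m := ⟨Module.finrank k (Coh.HH X G 0) - 1, by omega⟩
  exact ⟨key m 1 G hG hm hG1, key (m + 1) 0 G hG (by omega) hG1⟩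

end Groth.Agent.VarBase.NonspecialLine
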