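import Groth.Agent.CohCore23.FlatPushBC
import Groth.Agent.ExistEasy.PP.PullSec
import Groth.Agent.InvX.GenEpi
import Groth.Agent.InvX.GenLocusPull
import Groth.Agent.KFlatLib.Scheme.FlatDescent
import Groth.Agent.QCoh.VanIdeal
import Groth.Prelude.Def_Curv2

/-!
# Global sections and global generation along a faithfully flat change of an affine base

Every global section of a pulled back quasi-coherent module is a combination of pulled back global sections,
the global functions are the tensor product, and global generation descends.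
-/

set_option linter.style.haveILetI false
set_option linter.unusedSectionVars false
set_option backward.isDefEq.respectTransparency false
set_option backward.isDefEq.respectTransparency.types false
set_option maxHeartbeats 1000000

universe u

open CategoryTheory CategoryTheory.Limits AlgebraicGeometry TopologicalSpace Opposite
open scoped TensorProduct

noncomputable section

namespace Groth.Agent.VarBase.FFSections

open Groth.Agent Groth.Agent.CohCore23

variable {X Y X' Y' : Scheme.{u}} {f : X ⟶ Y} {g : Y' ⟶ Y} {g' : X' ⟶ X} {f' : X' ⟶ Y'}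

/-- Pullback of a global section. -/
def pullTop (g' : X' ⟶ X) (M : X.Modules) (m : Γ(M, ⊤)) : Γ((Scheme.Modules.pullback g').obj M, ⊤) :=
  QCoh.pullSec g' M (V := ⊤) (W := ⊤) (fun _ _ => trivial) m

theorem pullTop_natural (g' : X' ⟶ X) {M N : X.Modules} (k : M ⟶ N) (m : Γ(M, ⊤)) :
    ((Scheme.Modules.pullback g').map k).app ⊤ (pullTop g' M m) = pullTop g' N (k.app ⊤ m) :=
  ExistEasy.pullSec_natural g' k _ m

theorem pullTop_smul (g' : X' ⟶ X) (M : X.Modules) (r : Γ(X, ⊤)) (m : Γ(M, ⊤)) :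
    pullTop g' M (r • m) = g'.appTop r • pullTop g' M m := by
  refine (QCoh.pullSec_smul g' M _ r m).trans ?_
  exact congrArg (fun h : Γ(X, ⊤) ⟶ Γ(X', ⊤) => h r • pullTop g' M m) g'.app_eq_appLE.symm

theorem pullTop_zero (g' : X' ⟶ X) (M : X.Modules) : pullTop g' M 0 = 0 := by
  have h := pullTop_smul g' M 0 0
  rwa [zero_smul, map_zero, zero_smul] at h

theorem isFrame_pullTop (g' : X' ⟶ X) {M : X.Modules} {m : Γ(M, ⊤)} (hm : InvX.IsFrame m) :
    InvX.IsFrame (pullTop g' M m) :=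
  (InvX.isFrame_pullElt g' hm).res _

variable (H : IsPullback g' f' f g) [IsAffine Y] [IsAffine Y'] [QuasiCompact f] [QuasiSeparated f] [Flat g]

/-- The open on which the comparison lives. -/
abbrev upTop (f : X ⟶ Y) (g' : X' ⟶ X) (f' : X' ⟶ Y') : X'.Opens :=
  BC.up g' (f' ⁻¹ᵁ (⊤ : Y'.Opens)) (f ⁻¹ᵁ (⊤ : Y.Opens))

omit [IsAffine Y] [IsAffine Y'] [QuasiCompact f] [QuasiSeparated f] [Flat g] in
theorem le_upTop : (⊤ : X'.Opens) ≤ upTop f g' f' := fun _ _ => ⟨trivial, trivial⟩

include H in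
theorem psi_bijective {M : X.Modules} (hM : Coh.IsQCoh M) :
    letI := (g.appLE ⊤ ⊤ le_top).hom.toAlgebra
    Function.Bijective (BC.psi M (BC.compat_square H (le_top : (⊤ : Y'.Opens) ≤ g ⁻¹ᵁ ⊤)) (f ⁻¹ᵁ ⊤) le_rfl) := by
  letI := (g.appLE ⊤ ⊤ le_top).hom.toAlgebra
  have hV : IsAffineOpen (⊤ : Y.Opens) := isAffineOpen_top Y
  have hW : IsAffineOpen (⊤ : Y'.Opens) := isAffineOpen_top Y'
  haveI : Module.Flat Γ(Y, ⊤) Γ(Y', ⊤) := g.flat_appLE hV hW le_top
  exact BC.psi_bijective M _ (BC.affBC_square H _ hV hW hM) (f.isCompact_preimage hV.isCompact)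
    (fun U U' hU hU' => f.isQuasiSeparated_preimage hV.isQuasiSeparated U.1 U'.1 hU U.1.2 U.2.isCompact hU'
      U'.1.2 U'.2.isCompact) le_rfl

omit [IsAffine Y] [IsAffine Y'] [QuasiCompact f] [QuasiSeparated f] [Flat g] in
theorem res_upTop_injective (P : X'.Modules) :
    Function.Injective (AModX.res P (le_top : upTop f g' f' ≤ ⊤)) := fun a b h => by
  have := congrArg (AModX.res P (le_upTop (f := f) (g' := g') (f' := f'))) h
  rwa [AModX.res_res, AModX.res_res, AModX.res_self, AModX.res_self] at this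

omit [IsAffine Y] [IsAffine Y'] [QuasiCompact f] [QuasiSeparated f] [Flat g] in
theorem psi_tmul (M : X.Modules) (b : Γ(Y', ⊤)) (x : Γ(M, ⊤)) :
    letI := (g.appLE ⊤ ⊤ le_top).hom.toAlgebra
    BC.psi M (BC.compat_square H (le_top : (⊤ : Y'.Opens) ≤ g ⁻¹ᵁ ⊤)) (f ⁻¹ᵁ ⊤) le_rfl
        (b ⊗ₜ[Γ(Y, ⊤)] (show BC.S M (BC.scX f ⊤) (f ⁻¹ᵁ ⊤) le_rfl from x)) =
      AModX.res _ (le_top : upTop f g' f' ≤ ⊤) (f'.appTop b • pullTop g' M x) := by
  letI := (g.appLE ⊤ ⊤ le_top).hom.toAlgebra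
  rw [BC.psi, LinearMap.liftBaseChange_tmul, AModX.res_smul]
  refine congrArg₂ (fun (c : Γ(X', upTop f g' f')) (z : Γ((Scheme.Modules.pullback g').obj M, upTop f g' f')) => c • z)
    rfl ?_
  refine Eq.trans ?_ (ExistEasy.pullSec_res g' M (le_refl (⊤ : X.Opens)) (le_top : upTop f g' f' ≤ ⊤) le_top
    (inf_le_left : upTop f g' f' ≤ g' ⁻¹ᵁ (⊤ : X.Opens)) x).symm
  exact congrArg (QCoh.pullSec g' M _) (ConcreteCategory.congr_hom (M.presheaf.map_id (op ⊤)) x).symm

include H in
/-- Global sections upstairs are combinations of pulled back ones. -/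
theorem mem_span {M : X.Modules} (hM : Coh.IsQCoh M) (z : Γ((Scheme.Modules.pullback g').obj M, ⊤)) :
    z ∈ Submodule.span Γ(X', ⊤) (Set.range (pullTop g' M)) := by
  letI := (g.appLE ⊤ ⊤ le_top).hom.toAlgebra
  obtain ⟨w, hw⟩ := (psi_bijective H hM).2 (AModX.res _ (le_top : upTop f g' f' ≤ ⊤) z)
  obtain ⟨z₁, hz₁, he⟩ : ∃ z₁ ∈ Submodule.span Γ(X', ⊤) (Set.range (pullTop g' M)),
      AModX.res _ (le_top : upTop f g' f' ≤ ⊤) z₁ =
        BC.psi M (BC.compat_square H (le_top : (⊤ : Y'.Opens) ≤ g ⁻¹ᵁ ⊤)) (f ⁻¹ᵁ ⊤) le_rfl w := by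
    clear hw
    induction w using TensorProduct.induction_on with
    | zero => exact ⟨0, zero_mem _, by rw [map_zero, map_zero]⟩
    | tmul b x => exact ⟨_, Submodule.smul_mem _ (f'.appTop b) (Submodule.subset_span ⟨x, rfl⟩), (psi_tmul H M b x).symm⟩
    | add a b ha hb =>
      obtain ⟨za, hza, ea⟩ := ha
      obtain ⟨zb, hzb, eb⟩ := hb
      exact ⟨za + zb, add_mem hza hzb, by rw [map_add, map_add, ea, eb]⟩
  rwa [← res_upTop_injective _ (he.trans hw)]

include H in
/-- The comparison on global functions is bijective. -/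
theorem bijective_functions :
    letI := (g.appLE ⊤ ⊤ le_top).hom.toAlgebra
    letI : Algebra Γ(Y, ⊤) Γ(X, ⊤) := f.appTop.hom.toAlgebra
    ∃ Φ : Γ(Y', ⊤) ⊗[Γ(Y, ⊤)] Γ(X, ⊤) →+* Γ(X', ⊤),
      Function.Bijective Φ ∧ ∀ b r, Φ (b ⊗ₜ r) = f'.appTop b * g'.appTop r := by
  letI := (g.appLE ⊤ ⊤ le_top).hom.toAlgebra
  letI : Algebra Γ(Y, ⊤) Γ(X, ⊤) := f.appTop.hom.toAlgebra
  letI : Algebra Γ(Y, ⊤) Γ(X', ⊤) := (g'.appTop.hom.comp f.appTop.hom).toAlgebra
  have hsq : ∀ a, f'.appTop (g.appLE ⊤ ⊤ le_top a) = g'.appTop (f.appTop a) := fun a => by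
    rw [← ConcreteCategory.comp_apply (f.appTop) g'.appTop, ← Scheme.Hom.comp_appTop, H.w,
      Scheme.Hom.comp_appTop, ConcreteCategory.comp_apply]
    exact congrArg f'.appTop (congrArg (fun h : Γ(Y, ⊤) ⟶ Γ(Y', g ⁻¹ᵁ ⊤) => h a) g.app_eq_appLE.symm)
  let φb : Γ(Y', ⊤) →ₐ[Γ(Y, ⊤)] Γ(X', ⊤) := { f'.appTop.hom with commutes' := fun a => hsq a }
  let φr : Γ(X, ⊤) →ₐ[Γ(Y, ⊤)] Γ(X', ⊤) := { g'.appTop.hom with commutes' := fun a => rfl }
  let Φ := (Algebra.TensorProduct.lift φb φr fun _ _ => Commute.all _ _).toRingHom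
  have hΦ : ∀ b r, Φ (b ⊗ₜ r) = f'.appTop b * g'.appTop r := fun b r => Algebra.TensorProduct.lift_tmul _ _ _ _ _
  refine ⟨Φ, ?_, hΦ⟩
  let O := Coh.structureModule X
  let q := pullTop g' O (show Γ(O, ⊤) from (1 : Γ(X, ⊤)))
  have hq : InvX.IsFrame q := isFrame_pullTop g' (InvX.isFrame_one (X := X) ⊤)
  let ι : Γ(X, ⊤) →ₗ[Γ(Y, ⊤)] BC.S O (BC.scX f ⊤) (f ⁻¹ᵁ ⊤) le_rfl :=
    { toFun := fun r => r
      map_add' := fun _ _ => rfl
      map_smul' := fun a r => by
        show (show Γ(X, ⊤) from f.appTop a * r) =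
          (show Γ(X, ⊤) from X.presheaf.map (homOfLE (le_refl (f ⁻¹ᵁ ⊤))).op (f.app ⊤ a)) * r
        exact congrArg (· * r) (ConcreteCategory.congr_hom (X.presheaf.map_id (op ⊤)) _).symm }
  have hkey : ∀ z, BC.psi O (BC.compat_square H (le_top : (⊤ : Y'.Opens) ≤ g ⁻¹ᵁ ⊤)) (f ⁻¹ᵁ ⊤) le_rfl
      (LinearMap.lTensor _ ι z) = AModX.res _ (le_top : upTop f g' f' ≤ ⊤) (Φ z • q) := fun z => by
    induction z using TensorProduct.induction_on with
    | zero => rw [map_zero, map_zero, map_zero, zero_smul, map_zero]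
    | tmul b r =>
      rw [LinearMap.lTensor_tmul, hΦ]
      refine (psi_tmul H O b r).trans (congrArg (AModX.res _ _) ?_)
      rw [mul_smul, ← pullTop_smul]
      exact congrArg (fun t => f'.appTop b • pullTop g' O t) (mul_one r).symm
    | add a b ha hb => rw [map_add, map_add, map_add, ha, hb, add_smul, map_add]
  have hι : Function.Bijective (LinearMap.lTensor Γ(Y', ⊤) ι) :=
    (LinearEquiv.lTensor _ (LinearEquiv.ofBijective ι Function.bijective_id)).bijective
  constructor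
  · refine (injective_iff_map_eq_zero Φ).2 fun z hz => hι.1 ((psi_bijective H QCoh.isQCoh_structureModule).1 ?_)
    rw [hkey, hz, zero_smul, map_zero, map_zero, map_zero]
  · intro c
    obtain ⟨w, hw⟩ := (psi_bijective H (QCoh.isQCoh_structureModule (X := X))).2
      (AModX.res _ (le_top : upTop f g' f' ≤ ⊤) (c • q))
    obtain ⟨z, rfl⟩ := hι.2 w
    rw [hkey] at hw
    exact ⟨z, hq.coord_unique le_rfl (by rw [AModX.res_self]; exact res_upTop_injective _ hw)⟩

omit [IsAffine Y] [IsAffine Y'] [QuasiCompact f] [QuasiSeparated f] [Flat g] in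
/-- A map out of the structure module vanishes with the image of one. -/
theorem hom_eq_zero_of_one {Z : Scheme.{u}} {M : Z.Modules} (s : Coh.structureModule Z ⟶ M) (h : InvX.one s = 0) :
    s = 0 := Scheme.Modules.hom_ext _ _ fun W => by
  ext r
  rw [InvX.app_eq_smul s r, h, map_zero, smul_zero]
  rfl

include H in
/-- Global generation descends. -/
theorem isGloballyGenerated [Flat g'] [Surjective g'] {M : X.Modules} (hM : Coh.IsQCoh M)
    (h : Curv2.IsGloballyGenerated ((Scheme.Modules.pullback g').obj M)) : Curv2.IsGloballyGenerated M := by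
  obtain ⟨ι, p, hp⟩ := h
  haveI := hp
  let q : (SheafOfModules.free (Γ(M, ⊤) : Type u) : X.Modules) ⟶ M := Sigma.desc fun m => InvX.ofSect m
  let C : X.Modules := cokernel q
  let π : M ⟶ C := cokernel.π q
  let π' := (Scheme.Modules.pullback g').map π
  have hπ : ∀ m : Γ(M, ⊤), π.app ⊤ m = 0 := fun m => by
    have h1 : InvX.ofSect (M := M) m ≫ π = 0 := by
      have hι : InvX.ofSect (M := M) m = Sigma.ι (fun _ : Γ(M, ⊤) => Coh.structureModule X) m ≫ q :=
        (Sigma.ι_desc (fun m => InvX.ofSect m) m).symm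
      rw [hι, Category.assoc, cokernel.condition, comp_zero]
    have h2 := congrArg InvX.one h1
    exact (congrArg (π.app ⊤) (InvX.one_ofSect m).symm).trans h2
  have hπ' : ∀ z : Γ((Scheme.Modules.pullback g').obj M, ⊤), π'.app ⊤ z = 0 := fun z => by
    induction mem_span H hM z using Submodule.span_induction with
    | mem z hz =>
      obtain ⟨m, rfl⟩ := hz
      rw [pullTop_natural, hπ, pullTop_zero]
    | zero => exact map_zero _
    | add a b _ _ ha hb => rw [map_add, ha, hb, add_zero]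
    | smul c a _ ha => rw [Scheme.Modules.Hom.app_smul, ha, smul_zero]
  have h0 : π' = 0 := by
    rw [← cancel_epi p, comp_zero]
    refine Sigma.hom_ext _ _ fun i => ?_
    rw [comp_zero, ← Category.assoc]
    exact hom_eq_zero_of_one _ (hπ' _)
  haveI : Epi π' := by
    haveI : (Scheme.Modules.pullback g').IsLeftAdjoint :=
      (Scheme.Modules.pullbackPushforwardAdjunction g').isLeftAdjoint
    exact inferInstanceAs (Epi ((Scheme.Modules.pullback g').map π))
  have hz : IsZero (cokernel q) := KFlatLib.isZero_of_isZero_pullback g' _ (by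
    rw [IsZero.iff_id_eq_zero, ← cancel_epi π', h0]; simp)
  haveI : Epi q := Preadditive.epi_of_isZero_cokernel q hz
  exact ⟨_, q, inferInstance⟩

end Groth.Agent.VarBase.FFSections
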