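import Groth.Agent.VarBase.CurveDeg
import Groth.Agent.VarBase.DimOne.Projective
import Groth.Agent.GGen.Wedge
import Groth.Agent.Div57.Ref.ExtGen
import Groth.Agent.CanonDual.TopDiff
import Groth.Agent.IntThLib.DetLength
import Groth.Agent.AmpleX.Generated
import Groth.Agent.DevK.Twist
import Groth.Agent.AVIdx.EulerPull

/-!
# The degree of a bundle on an integral curve is the degree of its determinant
-/

set_option linter.style.haveILetI false
set_option linter.unusedSectionVars false
set_option backward.isDefEq.respectTransparency false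
set_option backward.isDefEq.respectTransparency.types false
set_option maxHeartbeats 1000000
set_option synthInstance.maxHeartbeats 100000

universe u

open CategoryTheory CategoryTheory.Limits AlgebraicGeometry TopologicalSpace Opposite

attribute [local instance] Groth.Agent.QCoh.hasFiniteBiproducts

noncomputable section

namespace Groth.Agent.VarBase.DetDeg

open Groth.Agent Groth.Agent.AModX Groth.Agent.InvX
open scoped Matrix

variable {X : Scheme.{u}}

section Biproduct

variable (k : Type u) [Field k] [X.Over (Spec (CommRingCat.of k))]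

theorem euler_isZero [IsProper (X ↘ Spec (CommRingCat.of k))] {M : X.Modules} (h : IsZero M) :
    Curv2.euler k X M = 0 := by
  rw [Euler.euler_eq_sum k M 0 fun i _ => Euler.subsingleton_HH_of_isZero h i, Finset.sum_range_zero]

theorem euler_biproduct [IsProper (X ↘ Spec (CommRingCat.of k))] [IsNoetherian X] {M : X.Modules} (hM : Coh.IsCoh M) :
    ∀ n : ℕ, Coh.IsCoh (⨁ fun _ : ULift.{u} (Fin n) => M) ∧
      Curv2.euler k X (⨁ fun _ : ULift.{u} (Fin n) => M) = n * Curv2.euler k X M
  | 0 => by
    refine ⟨QCoh.isCoh_biproduct _ fun _ => hM, ?_⟩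
    rw [Nat.cast_zero, zero_mul]
    refine euler_isZero k ?_
    rw [IsZero.iff_id_eq_zero]
    exact biproduct.hom_ext _ _ fun j => j.down.elim0
  | n + 1 => by
    obtain ⟨hc, he⟩ := euler_biproduct hM n
    let A := ⨁ fun _ : ULift.{u} (Fin (n + 1)) => M
    let B := ⨁ fun _ : ULift.{u} (Fin n) => M
    let p : A ⟶ B := biproduct.lift fun j => biproduct.π _ ⟨j.down.castSucc⟩
    let i : M ⟶ A := biproduct.ι (fun _ : ULift.{u} (Fin (n + 1)) => M) ⟨Fin.last n⟩
    let q : A ⟶ M := biproduct.π (fun _ : ULift.{u} (Fin (n + 1)) => M) ⟨Fin.last n⟩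
    let s : B ⟶ A := biproduct.desc fun j => biproduct.ι (fun _ : ULift.{u} (Fin (n + 1)) => M) ⟨j.down.castSucc⟩
    have hw : i ≫ p = 0 := biproduct.hom_ext _ _ fun j => by
      simp only [i, p, Category.assoc, biproduct.lift_π, zero_comp]
      exact biproduct.ι_π_ne _ fun h => (Fin.castSucc_lt_last j.down).ne (congrArg ULift.down h).symm
    have hsp : (ShortComplex.mk i p hw).Splitting :=
      { r := q
        s := s
        f_r := biproduct.ι_π_self _ _
        s_g := by
          refine biproduct.hom_ext' _ _ fun j => ?_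
          simp only [s, p, ← Category.assoc, biproduct.ι_desc]
          refine biproduct.hom_ext _ _ fun l => ?_
          simp only [Category.assoc, biproduct.lift_π]
          erw [Category.id_comp]
          by_cases hjl : j = l
          · subst hjl; simp
          · rw [biproduct.ι_π_ne _ hjl]; exact biproduct.ι_π_ne _ (fun h => hjl (ULift.ext _ _
              (Fin.castSucc_injective _ (congrArg ULift.down h))))
        id := by
          refine biproduct.hom_ext' _ _ fun j => ?_
          rw [Preadditive.comp_add, Category.comp_id]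
          obtain ⟨j⟩ := j
          induction j using Fin.lastCases with
          | last =>
            have h1 : biproduct.ι (fun _ : ULift.{u} (Fin (n + 1)) => M) ⟨Fin.last n⟩ ≫ p = 0 := hw
            rw [← Category.assoc _ p, h1, zero_comp, add_zero, ← Category.assoc, biproduct.ι_π_self,
              Category.id_comp]
          | cast l =>
            have h1 : biproduct.ι (fun _ : ULift.{u} (Fin (n + 1)) => M) ⟨l.castSucc⟩ ≫ p =
                biproduct.ι (fun _ : ULift.{u} (Fin n) => M) ⟨l⟩ := by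
              refine biproduct.hom_ext _ _ fun j => ?_
              simp only [p, Category.assoc, biproduct.lift_π]
              by_cases hjl : (⟨l⟩ : ULift.{u} (Fin n)) = j
              · subst hjl; simp
              · rw [biproduct.ι_π_ne _ hjl]; exact biproduct.ι_π_ne _ (fun h => hjl (ULift.ext _ _
                  (Fin.castSucc_injective _ (congrArg ULift.down h))))
            have hq0 : biproduct.ι (fun _ : ULift.{u} (Fin (n + 1)) => M) ⟨l.castSucc⟩ ≫ q = 0 :=
              biproduct.ι_π_ne _ (fun h => (Fin.castSucc_lt_last l).ne (congrArg ULift.down h))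
            rw [← Category.assoc _ p, h1, biproduct.ι_desc, ← Category.assoc, hq0, zero_comp, zero_add] }
    have hA : Coh.IsCoh A := QCoh.isCoh_biproduct _ fun _ => hM
    refine ⟨hA, ?_⟩
    rw [CurveBundle.euler_add' k i p hw hsp.shortExact hM hA hc, he]
    push_cast
    ring

end Biproduct

/-- A basis of sections on an affine open gives one of the stalk. -/
theorem exists_basis_germ {E : X.Modules} (hq : Coh.IsQCoh E) {V : X.Opens} (hV : IsAffineOpen V) {x : X}
    (hx : x ∈ V) {ι : Type*} (b : Module.Basis ι Γ(X, V) Γ(E, V)) :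
    ∃ bs : Module.Basis ι (X.presheaf.stalk x) (E.presheaf.stalk x), ∀ i, bs i = E.presheaf.germ V x hx (b i) := by
  letI := QCoh.stalkAlg (X := X) hx
  letI := QCoh.stalkModule E hx
  haveI := QCoh.isScalarTower_stalk E hx
  haveI := QCoh.isLocalization_stalk' hV hx
  haveI := QCoh.isLocalizedModule_germLin hq hV hx
  exact ⟨b.ofIsLocalizedModule (X.presheaf.stalk x) (hV.primeIdealOf ⟨x, hx⟩).asIdeal.primeCompl (QCoh.germLin E hx),
    fun i => Module.Basis.ofIsLocalizedModule_apply _ _ _ _ i⟩

/-- A basis of sections on an affine neighbourhood inside a given open. -/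
theorem exists_basis_sections_le {E : X.Modules} {r : ℕ} (hE : FlatMod.IsFinLocFreeOfRank r E) {W : X.Opens}
    {x : X} (hx : x ∈ W) :
    ∃ V : X.affineOpens, x ∈ V.1 ∧ V.1 ≤ W ∧ Nonempty (Module.Basis (Fin r) Γ(X, V.1) Γ(E, V.1)) := by
  obtain ⟨U, hxU, ⟨e⟩⟩ := hE x
  obtain ⟨s, hs⟩ := H23.Frame.exists_frame e
  obtain ⟨_, ⟨V, hV, rfl⟩, hxV, hle⟩ := X.isBasis_affineOpens.exists_subset_of_mem_open
    (show x ∈ U ⊓ W from ⟨hxU, hx⟩) (U ⊓ W).2
  have hVU : V ≤ U := fun z hz => (hle hz).1
  let l : (Fin r → Γ(X, V)) →ₗ[Γ(X, V)] Γ(E, V) :=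
    Fintype.linearCombination Γ(X, V) fun i => E.presheaf.map (homOfLE hVU).op (s i)
  exact ⟨⟨V, hV⟩, hxV, fun z hz => (hle hz).2,
    ⟨(Module.Basis.ofEquivFun (LinearEquiv.ofBijective l (hs V hVU)).symm)⟩⟩

variable {E D : X.Modules} {n : ℕ}

/-- The wedge of a basis is a basis of the determinant. -/
theorem exists_basis_wedge (hD : ExtPow.IsExtPow n E D) (V : X.affineOpens)
    (b : Module.Basis (Fin n) Γ(X, V.1) Γ(E, V.1)) :
    ∃ bD : Module.Basis PUnit.{1} Γ(X, V.1) Γ(D, V.1), bD PUnit.unit = GGen.wedge hD V b := by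
  let l : Γ(X, V.1) →ₗ[Γ(X, V.1)] Γ(D, V.1) := LinearMap.toSpanSingleton _ _ (GGen.wedge hD V b)
  have hb : Function.Bijective l := by
    constructor
    · refine (injective_iff_map_eq_zero l).2 fun c hc => ?_
      have h0 : c • exteriorPower.ιMulti Γ(X, V.1) n b = 0 := by
        apply (hD.choose V).symm.injective
        rw [map_smul, map_zero]
        exact hc
      have := congrArg (exteriorPower.alternatingMapLinearEquiv b.det) h0
      rwa [map_smul, exteriorPower.alternatingMapLinearEquiv_apply_ιMulti, b.det_self, map_zero, smul_eq_mul,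
        mul_one] at this
    · intro y
      have hy : hD.choose V y ∈ Submodule.span Γ(X, V.1)
          (Set.range (exteriorPower.ιMulti Γ(X, V.1) n (M := Γ(E, V.1)))) := by
        rw [exteriorPower.ιMulti_span]; trivial
      have hmem : hD.choose V y ∈ Submodule.span Γ(X, V.1) {exteriorPower.ιMulti Γ(X, V.1) n b} := by
        refine Submodule.span_le.2 ?_ hy
        rintro _ ⟨v, rfl⟩
        exact Submodule.mem_span_singleton.2 ⟨b.det v, (Div57.Ref.alt_eq_det _ b v).symm⟩
      obtain ⟨c, hc⟩ := Submodule.mem_span_singleton.1 hmem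
      refine ⟨c, (hD.choose V).injective ?_⟩
      show hD.choose V (c • (hD.choose V).symm _) = _
      rw [map_smul, LinearEquiv.apply_symm_apply]
      exact hc
  exact ⟨(Module.Basis.singleton PUnit Γ(X, V.1)).map (LinearEquiv.ofBijective l hb), by
    rw [Module.Basis.map_apply, Module.Basis.singleton_apply]
    exact one_smul _ _⟩

/-- The map out of an invertible module given by a section of a twist. -/
theorem exists_pairHom {E G N : X.Modules} (hN : PicF.IsInvertible N) (e : CohB1.tensorMod G N ≅ E) (s : Γ(G, ⊤)) :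
    ∃ f : N ⟶ E, ∀ (U : X.Opens) (ν : Γ(N, U)), IsFrame ν →
      f.app U ν = e.hom.app U (tmul (res G le_top s) ν) := by
  choose W hW ν hν using fun x : X => InvX.exists_frame hN x
  let v : ∀ x, Γ(E, W x) := fun x => e.hom.app (W x) (tmul (res G le_top s) (ν x))
  have hres : ∀ (x : X) (U : X.Opens) (h : U ≤ W x),
      res E h (v x) = e.hom.app U (tmul (res G le_top s) (res N h (ν x))) := fun x U h => by
    rw [← app_res, res_tmul, res_res]
  have hcomp : ∀ (a b : X) (U : X.Opens) (ha : U ≤ W a) (hb : U ≤ W b) (g : Γ(X, U)),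
      res N hb (ν b) = g • res N ha (ν a) → res E hb (v b) = g • res E ha (v a) := fun a b U ha hb g hg => by
    rw [hres, hres, hg, tmul_smul_right, Scheme.Modules.Hom.app_smul]
  refine ⟨ofFrames (fun x => ⟨x, hW x⟩) hν hcomp, fun U μ _ => eq_of_locally _ _ fun p hp => ?_⟩
  obtain ⟨r, hr⟩ := (hν p).exists_coord (inf_le_right : U ⊓ W p ≤ W p) (res N inf_le_left μ)
  refine ⟨U ⊓ W p, inf_le_left, ⟨hp, hW p⟩, ?_⟩
  rw [← app_res, hr, Scheme.Modules.Hom.app_smul, ofFrames_app_res, hres, ← app_res, res_tmul, res_res, hr,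
    tmul_smul_right, Scheme.Modules.Hom.app_smul]

/-- The determinant of maps out of an invertible module, as a map out of its power. -/
theorem exists_wedgeHom {N : X.Modules} (hN : PicF.IsInvertible N) (hD : ExtPow.IsExtPow n E D)
    (f : Fin n → (N ⟶ E)) :
    ∃ φ : CohB1.tensorPow N n ⟶ D, ∀ (U : X.affineOpens) (ν : Γ(N, U.1)), IsFrame ν →
      φ.app U.1 (AmpleX.powElt ν n) = GGen.wedge hD U fun i => (f i).app U.1 ν := by
  have hex : ∀ x : X, ∃ (U : X.affineOpens) (ν : Γ(N, U.1)), x ∈ U.1 ∧ IsFrame ν := fun x => by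
    obtain ⟨W, hW, ν, hν⟩ := InvX.exists_frame hN x
    obtain ⟨_, ⟨U, hU, rfl⟩, hxU, hle⟩ := X.isBasis_affineOpens.exists_subset_of_mem_open hW W.2
    exact ⟨⟨U, hU⟩, res N hle ν, hxU, hν.res _⟩
  choose W ν hW hν using hex
  let v : ∀ x, Γ(D, (W x).1) := fun x => GGen.wedge hD (W x) fun i => (f i).app (W x).1 (ν x)
  have hres : ∀ (x : X) (U : X.affineOpens) (h : U.1 ≤ (W x).1),
      res D h (v x) = GGen.wedge hD U fun i => (f i).app U.1 (res N h (ν x)) := fun x U h =>
    (GGen.res_wedge hD _ U h _).trans (congrArg (GGen.wedge hD U) (funext fun i => (app_res (f i) h _).symm))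
  have key : ∀ (U : X.affineOpens) (μ μ' : Γ(N, U.1)) (c : Γ(X, U.1)), μ = c • μ' →
      (GGen.wedge hD U fun i => (f i).app U.1 μ) = c ^ n • GGen.wedge hD U fun i => (f i).app U.1 μ' :=
    fun U μ μ' c h => by
      subst h
      rw [show (fun i => (f i).app U.1 (c • μ')) = fun i => c • (f i).app U.1 μ' from
        funext fun i => Scheme.Modules.Hom.app_smul _ _ _, AlternatingMap.map_smul_univ, Finset.prod_const,
        Finset.card_univ, Fintype.card_fin]
  have hcomp : ∀ (a b : X) (U : X.Opens) (ha : U ≤ (W a).1) (hb : U ≤ (W b).1) (g : Γ(X, U)),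
      res (CohB1.tensorPow N n) hb (AmpleX.powElt (ν b) n) = g • res _ ha (AmpleX.powElt (ν a) n) →
      res D hb (v b) = g • res D ha (v a) := fun a b U ha hb g hg => by
    obtain ⟨c, hc⟩ := (hν a).exists_coord ha (res N hb (ν b))
    have hgc : g = c ^ n := (AmpleX.isFrame_powElt (hν a) n).coord_unique ha (by
      rw [← hg, AmpleX.res_powElt, AmpleX.res_powElt, hc, AmpleX.powElt_smul])
    refine eq_of_locally _ _ fun p hp => ?_
    obtain ⟨_, ⟨V, hV, rfl⟩, hpV, hle⟩ := X.isBasis_affineOpens.exists_subset_of_mem_open hp U.2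
    refine ⟨V, hle, hpV, ?_⟩
    rw [res_smul, res_res, res_res, hres b ⟨V, hV⟩, hres a ⟨V, hV⟩, hgc, map_pow]
    refine key ⟨V, hV⟩ _ _ _ ?_
    have h := congrArg (res N (show V ≤ U from hle)) hc
    rwa [res_smul, res_res, res_res] at h
  refine ⟨ofFrames (fun x => ⟨x, hW x⟩) (fun x => AmpleX.isFrame_powElt (hν x) n) hcomp,
    fun U μ _ => eq_of_locally _ _ fun p hp => ?_⟩
  obtain ⟨_, ⟨V, hV, rfl⟩, hpV, hle⟩ := X.isBasis_affineOpens.exists_subset_of_mem_open
    (show p ∈ U.1 ⊓ (W p).1 from ⟨hp, hW p⟩) (U.1 ⊓ (W p).1).2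
  have hVU : V ≤ U.1 := fun z hz => (hle hz).1
  have hVW : V ≤ (W p).1 := fun z hz => (hle hz).2
  obtain ⟨c, hc⟩ := (hν p).exists_coord hVW (res N hVU μ)
  refine ⟨V, hVU, hpV, ?_⟩
  rw [← app_res, AmpleX.res_powElt, hc, AmpleX.powElt_smul, Scheme.Modules.Hom.app_smul, ← AmpleX.res_powElt,
    ofFrames_app_res, hres p ⟨V, hV⟩, GGen.res_wedge hD U ⟨V, hV⟩ hVU]
  rw [← key ⟨V, hV⟩ (res N hVU μ) _ c hc]
  exact congrArg (GGen.wedge hD ⟨V, hV⟩) (funext fun i => app_res (f i) hVU μ)

theorem stalkMapₗ_germ {M M' : X.Modules} (φ : M ⟶ M') {U : X.Opens} (x : X) (hx : x ∈ U) (m : Γ(M, U)) :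
    ((DerSch.stalkFunctor X x).map φ).hom (M.presheaf.germ U x hx m) = M'.presheaf.germ U x hx (φ.app U m) :=
  RefHull.stalkMapₗ_germ φ x hx m

section Curve

variable (k : Type u) [Field k] [X.Over (Spec (CommRingCat.of k))] [IsIntegral X]
  [IsProper (X ↘ Spec (CommRingCat.of k))]

omit [IsIntegral X] in
/-- Modules supported on finitely many closed points with stalks of equal lengths have equal `χ`. -/
theorem euler_eq_of_lengths {A B : X.Modules} (hA : Coh.IsCoh A) (hB : Coh.IsCoh B)
    (hA0 : ∀ x ∈ CohB1.support A, IsClosed ({x} : Set X)) (hB0 : ∀ x ∈ CohB1.support B, IsClosed ({x} : Set X))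
    (h : ∀ x : X, Module.length (X.presheaf.stalk x) (A.presheaf.stalk x) =
      Module.length (X.presheaf.stalk x) (B.presheaf.stalk x)) :
    Curv2.euler k X A = Curv2.euler k X B := by
  haveI := CurveCohLib.isNoetherian_of_proper (k := k) (X := X)
  have hd : ∀ {M : X.Modules}, Coh.IsCoh M → (∀ x ∈ CohB1.support M, IsClosed ({x} : Set X)) →
      topologicalKrullDim ↥(CohB1.support M) ≤ ((0 : ℕ) : WithBot ℕ∞) := fun {M} hM h0 => by
    have hfin := DimOne.finite_of_isClosed_of_closed_points (QCoh.isClosed_support_of_isFT hM.1 hM.2) h0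
    haveI := DimOne.discreteTopology_of_finite hfin fun y hy z _ hyz =>
      (((h0 y hy).closure_eq ▸ specializes_iff_mem_closure.1 hyz : z ∈ ({y} : Set X))).symm
    exact topologicalKrullDim_zero_of_discreteTopology _
  have hkey : ∀ {M : X.Modules}, Coh.IsCoh M → (∀ x ∈ CohB1.support M, IsClosed ({x} : Set X)) →
      Curv2.euler k X M = compSum 0 (fun F => Curv2.euler k X F) M := fun {M} hM h0 => by
    refine eq_compSum _ (fun _ _ ⟨e⟩ => Euler.euler_congr k e) 0
      (fun S hS h₁ h₂ h₃ => Euler.euler_add k hS h₁ h₂ h₃) (fun M' hM' hlt => ?_) hM (hd hM h0)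
    refine euler_isZero k (AVIdx.isZero_of_support_empty hM'.1 ?_)
    by_contra hne
    obtain ⟨y, hy⟩ := Set.nonempty_iff_ne_empty.2 hne
    exact (dim_nonneg_of_nonempty ⟨y, hy⟩).not_gt (by simpa using hlt)
  rw [hkey hA hA0, hkey hB hB0]
  refine finsum_congr fun ξ => ?_
  split_ifs
  · rw [lenAt, lenAt, h ξ]
  · rfl

theorem mulVecLin_apply_eq {R M : Type*} [CommRing R] [AddCommGroup M] [Module R M] {m : ℕ}
    (b : Module.Basis (Fin m) R M) (v : Fin m → M) (c : Fin m → R) :
    b.equivFun (∑ i, c i • v i) = (b.toMatrix v).mulVecLin c := by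
  funext j
  rw [map_sum, Finset.sum_apply]
  simp only [map_smul, Pi.smul_apply, smul_eq_mul, Matrix.mulVecLin_apply, Matrix.mulVec, dotProduct,
    Module.Basis.toMatrix_apply, Module.Basis.equivFun_apply, mul_comm]

/-- **The degree of a bundle on an integral curve is the degree of its determinant.** -/
theorem deg_eq (hdim : topologicalKrullDim X = 1) (hE : FlatMod.IsFinLocFreeOfRank n E)
    (hD : ExtPow.IsExtPow n E D) : Curv2.deg k X E n = Curv2.deg k X D 1 := by
  classical
  haveI := CurveCohLib.isNoetherian_of_proper (k := k) (X := X)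
  haveI : X.IsSeparated := ⟨by
    rw [← terminal.comp_from (X ↘ Spec (CommRingCat.of k))]
    exact MorphismProperty.comp_mem @IsSeparated _ _ inferInstance inferInstance⟩
  have hEf : FlatMod.IsFinLocFree E := fun y => let ⟨W, hy, he⟩ := hE y; ⟨W, n, hy, he⟩
  have hEq := QCoh.isQCoh_of_isFinLocFree hEf
  have hEc : Coh.IsCoh E := CurveDeg.isCoh_of_isFinLocFree hEf
  have hDi : PicF.IsInvertible D := CanonDual.isInvertible_of_isExtPow hE hEq hD
  have hDc : Coh.IsCoh D := AmpleVan.isCoh_invertible hDi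
  -- twist until generated
  obtain ⟨H, hH⟩ := DimOne.exists_isAmple (X := X) hdim.le
  obtain ⟨m₀, hm⟩ := AmpleX.eventually_generated hH hEq hEc.2
  obtain ⟨G, iG, J, s, hs⟩ := hm m₀ le_rfl
  obtain ⟨N, hN, ⟨eN⟩⟩ := H23.PicInv.exists_inverse (InvX.isInvertible_tensorPow hH.1 m₀)
  letI := H23.PicMul.clMonoid X
  obtain ⟨eGN⟩ : Nonempty (CohB1.tensorMod G N ≅ E) := H23.PicMul.cl_eq_iff.1 (by
    rw [H23.PicMul.cl_tensor, H23.PicMul.cl_eq_iff.2 ⟨iG⟩, H23.PicMul.cl_tensor, mul_assoc,
      ← H23.PicMul.cl_tensor (CohB1.tensorPow H m₀) N, H23.PicMul.cl_eq_iff.2 ⟨eN⟩, ← H23.PicMul.one_def, mul_one])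
  choose g hg using fun j => exists_pairHom hN eGN (s j)
  -- a basis at the generic point
  set η := genericPoint X with hη
  obtain ⟨U₀, hηU₀, ν₀, hν₀⟩ := InvX.exists_frame hN η
  letI : Field (X.presheaf.stalk η) := inferInstanceAs (Field X.functionField)
  let z₀ := N.presheaf.germ U₀ η hηU₀ ν₀
  let σ : J → E.presheaf.stalk η := fun j => ((DerSch.stalkFunctor X η).map (g j)).hom z₀
  have hσ : Submodule.span (X.presheaf.stalk η) (Set.range σ) = ⊤ := by
    have ht := AmpleX.span_germ_tmul_eq_top (M := G) hηU₀ (fun j => res G le_top (s j)) (by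
      refine top_le_iff.1 ((hs η).ge.trans (Submodule.span_le.2 ?_))
      rintro _ ⟨j, rfl⟩
      exact Submodule.subset_span ⟨j, InvX.germ_res' le_top hηU₀ (s j)⟩) hν₀
    have hsurj : Function.Surjective ((DerSch.stalkFunctor X η).map eGN.hom).hom :=
      (ConcreteCategory.bijective_of_isIso ((DerSch.stalkFunctor X η).map eGN.hom)).2
    have h := congrArg (Submodule.map ((DerSch.stalkFunctor X η).map eGN.hom).hom) ht
    rw [Submodule.map_span, Submodule.map_top, LinearMap.range_eq_top.2 hsurj, ← Set.range_comp] at h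
    refine (congrArg (fun S => Submodule.span (X.presheaf.stalk η) (Set.range S)) (funext fun j => ?_)).trans h
    show ((DerSch.stalkFunctor X η).map (g j)).hom z₀ = _
    rw [stalkMapₗ_germ, hg j U₀ ν₀ hν₀]
    exact (stalkMapₗ_germ _ _ _ _).symm
  obtain ⟨bη⟩ := CurveTensor.exists_basis_stalk hE η
  obtain ⟨t, hts, htsp, htli⟩ := exists_linearIndependent (X.presheaf.stalk η) (Set.range σ)
  rw [hσ] at htsp
  let b₁ : Module.Basis t (X.presheaf.stalk η) (E.presheaf.stalk η) := Module.Basis.mk htli (by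
    rw [Subtype.range_coe_subtype, Set.ofPred_mem_eq, htsp])
  let b₀ := b₁.reindex (b₁.indexEquiv bη)
  have hb₀ : ∀ i, ∃ j, σ j = b₀ i := fun i => by
    rw [Module.Basis.reindex_apply, Module.Basis.mk_apply]
    exact hts ((b₁.indexEquiv bη).symm i).2
  choose j hj using hb₀
  let f : Fin n → (N ⟶ E) := fun i => g (j i)
  obtain ⟨φ, hφ⟩ := exists_wedgeHom hN hD f
  let K := ⨁ fun _ : ULift.{u} (Fin n) => N
  let F : K ⟶ E := biproduct.desc fun i => f i.down
  have hNc : Coh.IsCoh N := AmpleVan.isCoh_invertible hN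
  have hKc : Coh.IsCoh K := QCoh.isCoh_biproduct _ fun _ => hNc
  have hPi := InvX.isInvertible_tensorPow hN n
  have hPc : Coh.IsCoh (CohB1.tensorPow N n) := AmpleVan.isCoh_invertible hPi
  -- the local computation
  have hloc : ∀ x : X, ∃ d : X.presheaf.stalk x, d ≠ 0 ∧
      Function.Injective ((DerSch.stalkFunctor X x).map F).hom ∧
      Function.Injective ((DerSch.stalkFunctor X x).map φ).hom ∧
      Module.length (X.presheaf.stalk x) (E.presheaf.stalk x ⧸ LinearMap.range ((DerSch.stalkFunctor X x).map F).hom) =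
        Ring.ord (X.presheaf.stalk x) d ∧
      Module.length (X.presheaf.stalk x) (D.presheaf.stalk x ⧸ LinearMap.range ((DerSch.stalkFunctor X x).map φ).hom) =
        Ring.ord (X.presheaf.stalk x) d ∧
      (x = η → IsUnit d) := by
    intro x
    obtain ⟨W₀, hxW₀, μ, hμ⟩ := InvX.exists_frame hN x
    obtain ⟨V, hxV, hVW, ⟨b⟩⟩ := exists_basis_sections_le hE hxW₀
    let ν := res N hVW μ
    have hν : IsFrame ν := hμ.res hVW
    obtain ⟨bs, hbs⟩ := exists_basis_germ hEq V.2 hxV b
    obtain ⟨bD, hbD⟩ := exists_basis_wedge hD V b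
    obtain ⟨bDs, hbDs⟩ := exists_basis_germ hDc.1 V.2 hxV bD
    let zν : N.presheaf.stalk x := N.presheaf.germ V.1 x hxV ν
    let w : Fin n → E.presheaf.stalk x := fun i => ((DerSch.stalkFunctor X x).map (f i)).hom zν
    let d : X.presheaf.stalk x := (bs.toMatrix w).det
    let a : Γ(X, V.1) := b.det fun i => (f i).app V.1 ν
    have hw : ∀ i, w i = E.presheaf.germ V.1 x hxV ((f i).app V.1 ν) := fun i => stalkMapₗ_germ _ _ _ _
    have hgen : ∀ (y : X) (hy : y ∈ V.1) (by' : Module.Basis (Fin n) (X.presheaf.stalk y) (E.presheaf.stalk y)),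
        (∀ i, by' i = E.presheaf.germ V.1 y hy (b i)) →
        (by'.toMatrix fun i => E.presheaf.germ V.1 y hy ((f i).app V.1 ν)).det = X.presheaf.germ V.1 y hy a := by
      intro y hy by' hby
      show _ = (X.presheaf.germ V.1 y hy).hom (b.toMatrix fun i => (f i).app V.1 ν).det
      rw [RingHom.map_det]
      congr 1
      ext p q
      rw [RingHom.mapMatrix_apply, Matrix.map_apply, Module.Basis.toMatrix_apply, Module.Basis.toMatrix_apply]
      have hsum : E.presheaf.germ V.1 y hy ((f q).app V.1 ν) =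
          ∑ r, (X.presheaf.germ V.1 y hy (b.repr ((f q).app V.1 ν) r)) • by' r := by
        rw [← b.sum_repr ((f q).app V.1 ν), map_sum]
        refine Finset.sum_congr rfl fun r _ => ?_
        rw [QCoh.germ_smul', hby, b.sum_repr]
      rw [hsum, by'.repr_sum_self]
    have hd : d = X.presheaf.germ V.1 x hxV a := by
      show (bs.toMatrix w).det = _
      rw [show w = fun i => E.presheaf.germ V.1 x hxV ((f i).app V.1 ν) from funext hw]
      exact hgen x hxV bs hbs
    have hηV : η ∈ V.1 := (genericPoint_spec X).mem_open_set_iff V.1.2 |>.2 ⟨x, trivial, hxV⟩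
    have haη : IsUnit (X.presheaf.germ V.1 η hηV a) := by
      obtain ⟨bsη, hbsη⟩ := exists_basis_germ hEq V.2 hηV b
      rw [← hgen η hηV bsη hbsη]
      obtain ⟨c, hc⟩ := (hν.germ_bijective hηV).2 z₀
      refine isUnit_iff_ne_zero.2 fun h0 => ?_
      have h1 : bsη.det (fun i => c • E.presheaf.germ V.1 η hηV ((f i).app V.1 ν)) = 0 := by
        rw [AlternatingMap.map_smul_univ, Module.Basis.det_apply, h0, smul_zero]
      rw [show (fun i => c • E.presheaf.germ V.1 η hηV ((f i).app V.1 ν)) = ⇑b₀ from funext fun i => by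
        rw [← hj i, show σ (j i) = ((DerSch.stalkFunctor X η).map (g (j i))).hom (c • N.presheaf.germ V.1 η hηV ν)
          from congrArg _ hc.symm, map_smul, stalkMapₗ_germ]] at h1
      exact (bsη.isUnit_det b₀).ne_zero h1
    have hd0 : d ≠ 0 := fun h0 => by
      rw [hd] at h0
      refine haη.ne_zero ?_
      have := congrArg (X.presheaf.stalkSpecializes ((genericPoint_spec X).specializes (Set.mem_univ x))) h0
      rwa [TopCat.Presheaf.germ_stalkSpecializes_apply, map_zero] at this
    -- the source of `F` on stalks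
    let π' : Fin n → ((K.presheaf.stalk x) →ₗ[X.presheaf.stalk x] N.presheaf.stalk x) := fun i =>
      ((DerSch.stalkFunctor X x).map (biproduct.π (fun _ : ULift.{u} (Fin n) => N) ⟨i⟩)).hom
    let ι' : Fin n → (N.presheaf.stalk x →ₗ[X.presheaf.stalk x] K.presheaf.stalk x) := fun i =>
      ((DerSch.stalkFunctor X x).map (biproduct.ι (fun _ : ULift.{u} (Fin n) => N) ⟨i⟩)).hom
    have hKs : ∀ z : K.presheaf.stalk x, z = ∑ i, ι' i (π' i z) := fun z => by
      have h := congrArg (fun ψ : K ⟶ K => ((DerSch.stalkFunctor X x).map ψ).hom z)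
        (QCoh.biproduct_total' (fun _ : ULift.{u} (Fin n) => N))
      simp only [CategoryTheory.Functor.map_sum, ModuleCat.hom_sum, LinearMap.sum_apply, Functor.map_comp,
        ModuleCat.hom_comp, LinearMap.comp_apply] at h
      rw [show ((DerSch.stalkFunctor X x).map (𝟙 K)).hom z = z from by rw [CategoryTheory.Functor.map_id]; rfl] at h
      exact h.symm.trans (Fintype.sum_equiv Equiv.ulift _ (fun i => ι' i (π' i z)) fun i => rfl)
    have hFι : ∀ i y, ((DerSch.stalkFunctor X x).map F).hom (ι' i y) = ((DerSch.stalkFunctor X x).map (f i)).hom y :=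
      fun i y => by
      show ((DerSch.stalkFunctor X x).map (biproduct.ι (fun _ : ULift.{u} (Fin n) => N) ⟨i⟩) ≫
        (DerSch.stalkFunctor X x).map F).hom y = _
      rw [← Functor.map_comp, biproduct.ι_desc]
    have hνb := hν.germ_bijective hxV
    have hFz : ∀ z, ∃ c : Fin n → X.presheaf.stalk x, z = ∑ i, c i • ι' i zν ∧
        bs.equivFun (((DerSch.stalkFunctor X x).map F).hom z) = (bs.toMatrix w).mulVecLin c := fun z => by
      choose c hc using fun i => hνb.2 (π' i z)
      have hz : z = ∑ i, c i • ι' i zν := (hKs z).trans (Finset.sum_congr rfl fun i _ => by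
        rw [← hc i, map_smul])
      refine ⟨c, hz, ?_⟩
      rw [← mulVecLin_apply_eq, hz, map_sum]
      simp only [map_smul, hFι, w]
    have hinjG : Function.Injective (bs.toMatrix w).mulVecLin := fun a b hab => by
      have h' := congrArg ((bs.toMatrix w).adjugate *ᵥ ·) hab
      simp only [Matrix.mulVecLin_apply, Matrix.mulVec_mulVec, Matrix.adjugate_mul,
        Matrix.smul_mulVec, Matrix.one_mulVec] at h'
      exact smul_right_injective _ hd0 h'
    have hP := (AmpleX.isFrame_powElt hν n).germ_bijective hxV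
    let zP : (CohB1.tensorPow N n).presheaf.stalk x :=
      (CohB1.tensorPow N n).presheaf.germ V.1 x hxV (AmpleX.powElt ν n)
    have hφz : ((DerSch.stalkFunctor X x).map φ).hom zP = d • bDs PUnit.unit := by
      rw [stalkMapₗ_germ, hφ V ν hν, Div57.Ref.alt_eq_det (GGen.wedge hD V) b, ← hbD, QCoh.germ_smul', hd, hbDs]
    have hbDinj : Function.Injective fun c : X.presheaf.stalk x => c • bDs PUnit.unit := fun a b hab => by
      have := congrArg (fun z => bDs.repr z PUnit.unit) hab
      simpa using this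
    refine ⟨d, hd0, ?_, ?_, ?_, ?_, fun hx => ?_⟩
    · refine (injective_iff_map_eq_zero _).2 fun z hz => ?_
      obtain ⟨c, hc, hFc⟩ := hFz z
      rw [hz, map_zero] at hFc
      have hc0 : c = 0 := hinjG (by rw [map_zero]; exact hFc.symm)
      rw [hc, hc0]
      simp
    · refine (injective_iff_map_eq_zero _).2 fun z hz => ?_
      obtain ⟨c, rfl⟩ := hP.2 z
      rw [map_smul, hφz, smul_smul] at hz
      have : c * d = 0 := hbDinj (show (c * d) • bDs PUnit.unit = (0 : X.presheaf.stalk x) • bDs PUnit.unit by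
        rw [hz, zero_smul])
      simp [(mul_eq_zero.1 this).resolve_right hd0]
    · rw [← IntThLib.length_coker_eq_ord_det (bs.toMatrix w) (Or.inr (mem_nonZeroDivisors_of_ne_zero hd0))]
      refine LinearEquiv.length_eq (Submodule.Quotient.equiv _ _ bs.equivFun ?_)
      ext v
      constructor
      · rintro ⟨_, ⟨z, rfl⟩, rfl⟩
        obtain ⟨c, -, hFc⟩ := hFz z
        exact ⟨c, hFc.symm⟩
      · rintro ⟨c, rfl⟩
        refine ⟨((DerSch.stalkFunctor X x).map F).hom (∑ i, c i • ι' i zν), ⟨_, rfl⟩, ?_⟩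
        rw [← mulVecLin_apply_eq, map_sum]
        simp only [map_smul, hFι, w, LinearEquiv.coe_coe]
    · let e : X.presheaf.stalk x ≃ₗ[X.presheaf.stalk x] D.presheaf.stalk x :=
        LinearEquiv.ofBijective (LinearMap.toSpanSingleton _ _ (bDs PUnit.unit)) ⟨hbDinj, fun y =>
          ⟨bDs.repr y PUnit.unit, by
            show bDs.repr y PUnit.unit • bDs PUnit.unit = y
            conv_rhs => rw [← bDs.sum_repr y]
            simp⟩⟩
      rw [Ring.ord]
      refine (LinearEquiv.length_eq (Submodule.Quotient.equiv _ _ e ?_)).symm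
      ext v
      constructor
      · rintro ⟨r, hr, rfl⟩
        obtain ⟨c, rfl⟩ := Ideal.mem_span_singleton'.1 hr
        refine ⟨c • zP, ?_⟩
        rw [map_smul, hφz, smul_smul]
        rfl
      · rintro ⟨z, rfl⟩
        obtain ⟨c, rfl⟩ := hP.2 z
        refine ⟨c * d, Ideal.mem_span_singleton'.2 ⟨c, rfl⟩, ?_⟩
        rw [map_smul, hφz, smul_smul]
        rfl
    · subst hx
      rw [hd]; exact haη
  choose d hd0 hFi hφi hlF hlφ hdη using hloc
  haveI : Mono F := DevK.mono_of_stalk F hFi
  haveI : Mono φ := DevK.mono_of_stalk φ hφi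
  have hstalk : ∀ {A B : X.Modules} (ψ : A ⟶ B) (x : X),
      Module.length (X.presheaf.stalk x) ((cokernel ψ).presheaf.stalk x) =
        Module.length (X.presheaf.stalk x) (B.presheaf.stalk x ⧸ LinearMap.range ((DerSch.stalkFunctor X x).map ψ).hom) :=
    fun {A B} ψ x =>
      ((PreservesCokernel.iso (DerSch.stalkFunctor X x) ψ) ≪≫
        ModuleCat.cokernelIsoRangeQuotient ((DerSch.stalkFunctor X x).map ψ)).toLinearEquiv.length_eq
  have hsupp : ∀ {A B : X.Modules} (ψ : A ⟶ B), (∀ x, Module.length (X.presheaf.stalk x)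
      (B.presheaf.stalk x ⧸ LinearMap.range ((DerSch.stalkFunctor X x).map ψ).hom) = Ring.ord (X.presheaf.stalk x) (d x)) →
      ∀ x ∈ CohB1.support (cokernel ψ), IsClosed ({x} : Set X) := fun {A B} ψ hl x hx => by
    refine DimOne.isClosed_singleton_of_specializes_ne hdim.le ((genericPoint_spec X).specializes (Set.mem_univ x))
      fun e => hx ?_
    rw [← Module.length_eq_zero_iff (R := X.presheaf.stalk x), hstalk, hl, Ring.ord_of_isUnit]
    exact hdη x e.symm
  have hQ := euler_eq_of_lengths k (QCoh.isCoh_cokernel hKc.1 hEc F) (QCoh.isCoh_cokernel hPc.1 hDc φ)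
    (hsupp F hlF) (hsupp φ hlφ) fun x => by rw [hstalk, hstalk, hlF, hlφ]
  have h1 := CurveBundle.euler_add' k _ _ _ (CurveSlope.shortExact_cokernel_of_mono F) hKc hEc
    (QCoh.isCoh_cokernel hKc.1 hEc F)
  have h2 := CurveBundle.euler_add' k _ _ _ (CurveSlope.shortExact_cokernel_of_mono φ) hPc hDc
    (QCoh.isCoh_cokernel hPc.1 hDc φ)
  have h3 : Curv2.euler k X K = n * Curv2.euler k X N := (euler_biproduct k hNc n).2
  have h4 : ∀ m : ℕ, Curv2.euler k X (CohB1.tensorPow N m) - Curv2.euler k X (Coh.structureModule X) =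
      m * (Curv2.euler k X N - Curv2.euler k X (Coh.structureModule X)) := by
    intro m
    induction m with
    | zero => simp [CohB1.tensorPow]
    | succ m ih =>
      have h := CurvePsi.deg_tensor_locFree k hdim.le (InvEnd.isFinLocFreeOfRank_one (InvX.isInvertible_tensorPow hN m))
        (InvEnd.isFinLocFreeOfRank_one hN)
      simp only [Curv2.deg, one_mul, Nat.cast_one] at h
      show Curv2.euler k X ((DCoh.tensorBi.obj (CohB1.tensorPow N m)).obj N) - _ = _
      push_cast
      linear_combination h + ih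
  unfold Curv2.deg
  have h4n := h4 n
  push_cast
  linear_combination h1 - h2 + hQ + h3 - h4n

end Curve

end Groth.Agent.VarBase.DetDeg
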