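import Groth.Agent.VarBase.FFSections
import Groth.Agent.GGen.Wedge
import Groth.Agent.H23.PicInv
import Groth.Agent.H23.PicMul
import Groth.Agent.CurveBC.Coh
import Groth.Agent.SBBundle.TwType
import Groth.Agent.SurfInt.Boundary
import Mathlib.RingTheory.Flat.FaithfullyFlat.Algebra

/-!
# Triviality of invertible modules descends when the functions form a semilocal ring

If `L` becomes trivial after a faithfully flat change of the affine base, the products `⟨m, n⟩` of global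
sections of `L` and of its inverse generate the unit ideal; over a semilocal ring one product is then a unit.
-/

set_option linter.style.haveILetI false
set_option linter.unusedSectionVars false
set_option backward.isDefEq.respectTransparency false
set_option backward.isDefEq.respectTransparency.types false
set_option maxHeartbeats 1000000

universe u

open CategoryTheory CategoryTheory.Limits AlgebraicGeometry TopologicalSpace Opposite
open scoped TensorProduct

noncomputable section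

namespace Groth.Agent.VarBase.SemilocalTriv

open Groth.Agent Groth.Agent.AModX Groth.Agent.InvX Groth.Agent.VarBase.FFSections

variable {X : Scheme.{u}} {L D : X.Modules}

/-- The product of sections of a module and of its inverse. -/
def pair (e : CohB1.tensorMod L D ≅ Coh.structureModule X) (W : X.Opens) :
    Γ(L, W) →ₗ[Γ(X, W)] Γ(D, W) →ₗ[Γ(X, W)] Γ(X, W) :=
  (GGen.tmulLin L D W).compr₂
    { toFun := fun z => (show Γ(X, W) from e.hom.app W z)
      map_add' := fun a b => map_add _ a b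
      map_smul' := fun _ _ => Scheme.Modules.Hom.app_smul _ _ _ }

variable (e : CohB1.tensorMod L D ≅ Coh.structureModule X)

theorem resR_pair {W W' : X.Opens} (h : W' ≤ W) (m : Γ(L, W)) (n : Γ(D, W)) :
    resR h (pair e W m n) = pair e W' (res L h m) (res D h n) := by
  show res (Coh.structureModule X) h (e.hom.app W (tmul m n)) = e.hom.app W' (tmul (res L h m) (res D h n))
  rw [← app_res, InvX.res_tmul]

/-- The product of frames is a unit. -/
theorem isUnit_pair {W : X.Opens} {ν : Γ(L, W)} {δ : Γ(D, W)} (hν : IsFrame ν) (hδ : IsFrame δ) :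
    IsUnit (pair e W ν δ) := by
  have hf : IsFrame (e.hom.app W (tmul ν δ)) := (isFrame_tmul hν hδ).map_iso e
  obtain ⟨c, hc⟩ := hf.exists_coord le_rfl (show Γ(Coh.structureModule X, W) from (1 : Γ(X, W)))
  rw [res_self] at hc
  exact IsUnit.of_mul_eq_one_right c hc.symm

theorem exists_coeffs {ι M : Type*} {R : Type*} [CommRing R] [AddCommGroup M] [Module R M] (v : ι → M) (z : M)
    (h : z ∈ Submodule.span R (Set.range v)) : ∃ c : ι →₀ R, z = ∑ i ∈ c.support, c i • v i := by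
  obtain ⟨c, rfl⟩ := Finsupp.mem_span_range_iff_exists_finsupp.1 h
  exact ⟨c, rfl⟩

variable {Y X' Y' : Scheme.{u}} {f : X ⟶ Y} {g : Y' ⟶ Y} {g' : X' ⟶ X} {f' : X' ⟶ Y'}

theorem exists_frame_top {M : X'.Modules} (h : Nonempty (M ≅ Coh.structureModule X')) :
    ∃ z : Γ(M, ⊤), IsFrame z := by
  obtain ⟨i⟩ := h
  exact ⟨_, (isFrame_one (X := X') ⊤).map_iso i.symm⟩

theorem res_pullTop_smul {U : X.Opens} {M : X.Modules} (m : Γ(M, ⊤)) {ν : Γ(M, U)} {r : Γ(X, U)}
    (hr : res M (le_top : U ≤ ⊤) m = r • ν) :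
    res _ (le_top : g' ⁻¹ᵁ U ≤ ⊤) (pullTop g' M m) =
      g'.app U r • QCoh.pullSec g' M (le_refl (g' ⁻¹ᵁ U)) ν := by
  refine (ExistEasy.pullSec_res g' M (le_top : U ≤ ⊤) (le_top : g' ⁻¹ᵁ U ≤ ⊤) _ (le_refl (g' ⁻¹ᵁ U)) m).trans ?_
  refine (congrArg (QCoh.pullSec g' M (le_refl (g' ⁻¹ᵁ U))) hr).trans ?_
  rw [QCoh.pullSec_smul, ← Scheme.Hom.app_eq_appLE]

theorem isUnit_coeff {U : X'.Opens} {M : X'.Modules} {z ν : Γ(M, U)} (hz : IsFrame z) (hν : IsFrame ν)
    {a : Γ(X', U)} (h : z = a • ν) : IsUnit a := by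
  obtain ⟨c, hc⟩ := hz.exists_coord le_rfl ν
  rw [res_self] at hc
  exact IsUnit.of_mul_eq_one_right c (hν.coord_unique le_rfl (by rw [res_self, mul_smul, one_smul, ← h, ← hc]))

variable (H : IsPullback g' f' f g) [IsAffine Y] [IsAffine Y'] [QuasiCompact f] [QuasiSeparated f] [Flat g]
  [Surjective g]

include H in
/-- The products generate the unit ideal. -/
theorem span_pair_eq_top (hL : PicF.IsInvertible L) (hD : PicF.IsInvertible D)
    (htriv : Nonempty ((Scheme.Modules.pullback g').obj L ≅ Coh.structureModule X')) :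
    Ideal.span (Set.range fun p : Γ(L, ⊤) × Γ(D, ⊤) => pair e ⊤ p.1 p.2) = ⊤ := by
  classical
  set I := Ideal.span (Set.range fun p : Γ(L, ⊤) × Γ(D, ⊤) => pair e ⊤ p.1 p.2) with hI
  have htD : Nonempty ((Scheme.Modules.pullback g').obj D ≅ Coh.structureModule X') := by
    letI := H23.PicMul.clMonoid X'
    refine H23.PicMul.cl_eq_iff.1 ?_
    have h1 : PicF.cl ((Scheme.Modules.pullback g').obj L) = 1 := by
      rw [H23.PicMul.one_def]; exact H23.PicMul.cl_eq_iff.2 htriv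
    have h2 : PicF.cl ((Scheme.Modules.pullback g').obj L) * PicF.cl ((Scheme.Modules.pullback g').obj D) = 1 := by
      rw [← H23.PicMul.cl_tensor, H23.PicMul.one_def]
      exact H23.PicMul.cl_eq_iff.2
        ⟨(SBBundle.pullTensorIso g' L D).symm ≪≫ (Scheme.Modules.pullback g').mapIso e ≪≫ CurveBC.unitIso g'⟩
    rw [h1, one_mul] at h2
    rw [h2, H23.PicMul.one_def]
  obtain ⟨zL, hzL⟩ := exists_frame_top htriv
  obtain ⟨zD, hzD⟩ := exists_frame_top htD
  obtain ⟨c, hc⟩ := exists_coeffs _ _ (mem_span H (ProjUPX.isQCoh_of_isInvertible hL) zL)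
  obtain ⟨d, hd⟩ := exists_coeffs _ _ (mem_span H (ProjUPX.isQCoh_of_isInvertible hD) zD)
  let J := I.map g'.appTop.hom
  let s : Γ(X', ⊤) := ∑ m ∈ c.support, ∑ n ∈ d.support, c m * d n * g'.appTop (pair e ⊤ m n)
  have hsJ : s ∈ J := Ideal.sum_mem _ fun m _ => Ideal.sum_mem _ fun n _ =>
    Ideal.mul_mem_left _ _ (Ideal.mem_map_of_mem _ (Ideal.subset_span ⟨(m, n), rfl⟩))
  have hs : IsUnit s := by
    suffices h : X'.basicOpen s = ⊤ by
      refine RingedSpace.isUnit_of_isUnit_germ X'.toRingedSpace ⊤ s fun x hx => ?_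
      exact (X'.mem_basicOpen s x hx).1 (h.ge hx)
    refine eq_top_iff.2 fun x' _ => ?_
    obtain ⟨U₁, hxU₁, ν₁, hν₁⟩ := InvX.exists_frame hL (g' x')
    obtain ⟨U₂, hxU₂, δ₂, hδ₂⟩ := InvX.exists_frame hD (g' x')
    let U : X.Opens := U₁ ⊓ U₂
    let ν := res L (inf_le_left : U ≤ U₁) ν₁
    let δ := res D (inf_le_right : U ≤ U₂) δ₂
    have hν : IsFrame ν := hν₁.res _
    have hδ : IsFrame δ := hδ₂.res _
    choose a ha using fun m : Γ(L, ⊤) => hν.exists_coord le_rfl (res L (le_top : U ≤ ⊤) m)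
    choose b hb using fun n : Γ(D, ⊤) => hδ.exists_coord le_rfl (res D (le_top : U ≤ ⊤) n)
    simp only [res_self] at ha hb
    let W := g' ⁻¹ᵁ U
    have hA : IsUnit (∑ m ∈ c.support, resR (le_top : W ≤ ⊤) (c m) * g'.app U (a m)) := by
      refine isUnit_coeff (hzL.res (le_top : W ≤ ⊤))
        (InvX.isFrame_pullElt g' hν |>.res (le_refl W)) ?_
      rw [hc, map_sum, Finset.sum_smul]
      refine Finset.sum_congr rfl fun m _ => ?_
      rw [res_smul, res_pullTop_smul m (ha m), mul_smul]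
      rfl
    have hB : IsUnit (∑ n ∈ d.support, resR (le_top : W ≤ ⊤) (d n) * g'.app U (b n)) := by
      refine isUnit_coeff (hzD.res (le_top : W ≤ ⊤))
        (InvX.isFrame_pullElt g' hδ |>.res (le_refl W)) ?_
      rw [hd, map_sum, Finset.sum_smul]
      refine Finset.sum_congr rfl fun n _ => ?_
      rw [res_smul, res_pullTop_smul n (hb n), mul_smul]
      rfl
    have hres : resR (le_top : W ≤ ⊤) s =
        (∑ m ∈ c.support, resR (le_top : W ≤ ⊤) (c m) * g'.app U (a m)) *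
        (∑ n ∈ d.support, resR (le_top : W ≤ ⊤) (d n) * g'.app U (b n)) * g'.app U (pair e U ν δ) := by
      simp only [s, map_sum, map_mul]
      rw [Finset.sum_mul_sum, Finset.sum_mul]
      refine Finset.sum_congr rfl fun m _ => ?_
      rw [Finset.sum_mul]
      refine Finset.sum_congr rfl fun n _ => ?_
      have h1 : resR (le_top : W ≤ ⊤) (g'.appTop (pair e ⊤ m n)) = g'.app U (resR (le_top : U ≤ ⊤) (pair e ⊤ m n)) :=
        (ConcreteCategory.congr_hom (g'.naturality (homOfLE (le_top : U ≤ ⊤)).op) (pair e ⊤ m n)).symm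
      rw [h1, resR_pair, ha m, hb n]
      simp only [map_smul, LinearMap.smul_apply, smul_eq_mul, map_mul]
      ring
    have hu : IsUnit (resR (le_top : W ≤ ⊤) s) := hres ▸ (hA.mul hB).mul ((isUnit_pair e hν hδ).map _)
    have hxW : x' ∈ W := ⟨hxU₁, hxU₂⟩
    have := X'.basicOpen_of_isUnit hu
    rw [show resR (le_top : W ≤ ⊤) s = X'.presheaf.map (homOfLE (le_top : W ≤ ⊤)).op s from rfl,
      Scheme.basicOpen_res] at this
    exact (this.ge hxW).2
  have hJ : J = ⊤ := Ideal.eq_top_of_isUnit_mem _ hsJ hs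
  -- faithfully flat descent on the functions
  letI : Algebra Γ(Y, ⊤) Γ(Y', ⊤) := (g.appLE ⊤ ⊤ le_top).hom.toAlgebra
  letI : Algebra Γ(Y, ⊤) Γ(X, ⊤) := f.appTop.hom.toAlgebra
  obtain ⟨Φ, hΦb, hΦ⟩ := bijective_functions H
  haveI : Module.FaithfullyFlat Γ(Y, ⊤) Γ(Y', ⊤) := by
    have h := (AlgebraicGeometry.Flat.flat_and_surjective_iff_faithfullyFlat_of_isAffine g).1 ⟨inferInstance, inferInstance⟩
    rw [show g.appTop = g.appLE ⊤ ⊤ le_top from g.app_eq_appLE] at h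
    exact h
  let ψ : Γ(X, ⊤) ⊗[Γ(Y, ⊤)] Γ(Y', ⊤) ≃+* Γ(X', ⊤) :=
    (Algebra.TensorProduct.comm Γ(Y, ⊤) Γ(X, ⊤) Γ(Y', ⊤)).toRingEquiv.trans (RingEquiv.ofBijective Φ hΦb)
  have hψ : ψ.toRingHom.comp (algebraMap Γ(X, ⊤) (Γ(X, ⊤) ⊗[Γ(Y, ⊤)] Γ(Y', ⊤))) = g'.appTop.hom :=
    RingHom.ext fun r => by
      show Φ ((Algebra.TensorProduct.comm Γ(Y, ⊤) Γ(X, ⊤) Γ(Y', ⊤)) (r ⊗ₜ 1)) = _
      rw [Algebra.TensorProduct.comm_tmul, hΦ, map_one, one_mul]
  have hmap : (I.map (algebraMap Γ(X, ⊤) (Γ(X, ⊤) ⊗[Γ(Y, ⊤)] Γ(Y', ⊤)))).map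
      ψ.toRingHom = ⊤ := by
    rw [Ideal.map_map, hψ]; exact hJ
  have htop : I.map (algebraMap Γ(X, ⊤) (Γ(X, ⊤) ⊗[Γ(Y, ⊤)] Γ(Y', ⊤))) = ⊤ := by
    have h2 := congrArg (Ideal.comap ψ.toRingHom) hmap
    rwa [Ideal.comap_map_of_bijective ψ.toRingHom ψ.bijective, Ideal.comap_top] at h2
  rw [← Ideal.comap_map_eq_self_of_faithfullyFlat (B := Γ(X, ⊤) ⊗[Γ(Y, ⊤)] Γ(Y', ⊤)) I, htop, Ideal.comap_top]

/-- Over a semilocal ring some product is a unit. -/
theorem nonempty_iso (hsl : Finite (MaximalSpectrum Γ(X, ⊤))) (hL : PicF.IsInvertible L) (hD : PicF.IsInvertible D)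
    (h : Ideal.span (Set.range fun p : Γ(L, ⊤) × Γ(D, ⊤) => pair e ⊤ p.1 p.2) = ⊤) :
    Nonempty (L ≅ Coh.structureModule X) := by
  classical
  haveI := Fintype.ofFinite (MaximalSpectrum Γ(X, ⊤))
  have hp : ∀ μ : MaximalSpectrum Γ(X, ⊤), ∃ p : Γ(L, ⊤) × Γ(D, ⊤), pair e ⊤ p.1 p.2 ∉ μ.asIdeal := fun μ => by
    by_contra! hall
    refine μ.isMaximal.ne_top (top_le_iff.1 (h.ge.trans (Ideal.span_le.2 ?_)))
    rintro _ ⟨p, rfl⟩
    exact hall p
  choose p hp using hp
  have ha : ∀ μ : MaximalSpectrum Γ(X, ⊤), ∃ a, a ∉ μ.asIdeal ∧ ∀ ν, ν ≠ μ → a ∈ ν.asIdeal := fun μ => by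
    by_contra! hall
    have hle : (Finset.univ.erase μ).inf (fun ν : MaximalSpectrum Γ(X, ⊤) => ν.asIdeal) ≤ μ.asIdeal := fun a ha => by
      by_contra hne
      obtain ⟨ν, hν, hνa⟩ := hall a hne
      exact hνa (Submodule.mem_finsetInf.1 ha ν (Finset.mem_erase.2 ⟨hν, Finset.mem_univ _⟩))
    obtain ⟨ν, hν, hle'⟩ := (μ.isMaximal.isPrime.inf_le' (s := Finset.univ.erase μ)).1 hle
    exact (Finset.mem_erase.1 hν).1 (MaximalSpectrum.ext (ν.isMaximal.eq_of_le μ.isMaximal.ne_top hle'))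
  choose a ha ha' using ha
  let m := ∑ μ, a μ • (p μ).1
  let n := ∑ μ, a μ • (p μ).2
  have hu : IsUnit (pair e ⊤ m n) := by
    by_contra hnu
    obtain ⟨M, hM, hmem⟩ := exists_max_ideal_of_mem_nonunits hnu
    let μ : MaximalSpectrum Γ(X, ⊤) := ⟨M, hM⟩
    have h1 : pair e ⊤ m n = ∑ i, ∑ j, a i * (a j * pair e ⊤ (p i).1 (p j).2) := by
      simp only [m, n, map_sum, map_smul, LinearMap.sum_apply, LinearMap.smul_apply, smul_eq_mul, Finset.mul_sum]
      rw [Finset.sum_comm]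
      refine Finset.sum_congr rfl fun i _ => Finset.sum_congr rfl fun j _ => ?_
      ring
    rw [h1, ← Finset.add_sum_erase _ _ (Finset.mem_univ μ)] at hmem
    have h2 : ∑ i ∈ Finset.univ.erase μ, ∑ j, a i * (a j * pair e ⊤ (p i).1 (p j).2) ∈ M :=
      Ideal.sum_mem _ fun i hi => Ideal.sum_mem _ fun j _ =>
        Ideal.mul_mem_right _ _ (ha' i μ (Finset.mem_erase.1 hi).1.symm)
    rw [Ideal.add_mem_iff_left _ h2, ← Finset.add_sum_erase _ _ (Finset.mem_univ μ)] at hmem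
    have h3 : ∑ j ∈ Finset.univ.erase μ, a μ * (a j * pair e ⊤ (p μ).1 (p j).2) ∈ M :=
      Ideal.sum_mem _ fun j hj => Ideal.mul_mem_left _ _
        (Ideal.mul_mem_right _ _ (ha' j μ (Finset.mem_erase.1 hj).1.symm))
    rw [Ideal.add_mem_iff_left _ h3] at hmem
    rcases hM.isPrime.mem_or_mem hmem with h4 | h4
    · exact ha μ h4
    · rcases hM.isPrime.mem_or_mem h4 with h5 | h5
      · exact ha μ h5
      · exact hp μ h5
  have hframe : IsFrame m := InvX.isFrame_of_germ fun y hy => ?_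
  · haveI := SurfInt.isIso_of_genLocus_eq_top (s := InvX.ofSect m) (top_le_iff.1 (InvX.le_genLocus _ (by
      rw [InvX.one_ofSect, res_self]; exact hframe)))
    exact ⟨(asIso (InvX.ofSect m)).symm⟩
  · obtain ⟨U₁, hU₁, ν₁, hν₁⟩ := InvX.exists_frame hL y
    obtain ⟨U₂, hU₂, δ₂, hδ₂⟩ := InvX.exists_frame hD y
    let U : X.Opens := U₁ ⊓ U₂
    have hν : IsFrame (res L (inf_le_left : U ≤ U₁) ν₁) := hν₁.res _
    have hδ : IsFrame (res D (inf_le_right : U ≤ U₂) δ₂) := hδ₂.res _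
    obtain ⟨r, hr⟩ := hν.exists_coord le_rfl (res L (le_top : U ≤ ⊤) m)
    obtain ⟨t, ht⟩ := hδ.exists_coord le_rfl (res D (le_top : U ≤ ⊤) n)
    rw [res_self] at hr ht
    have hru : IsUnit r := by
      have h5 := hu.map (resR (le_top : U ≤ ⊤))
      rw [resR_pair, hr, map_smul, LinearMap.smul_apply, smul_eq_mul] at h5
      exact isUnit_of_mul_isUnit_left h5
    have hm : IsFrame (res L (le_top : U ≤ ⊤) m) := hr ▸ hν.isUnit_smul hru
    have := hm.germ_bijective (show y ∈ U from ⟨hU₁, hU₂⟩)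
    rwa [InvX.germ_res'] at this

end Groth.Agent.VarBase.SemilocalTriv
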