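import Groth.Agent.CohCore23.TensorMV
import Groth.Agent.SiteBase.Global
import Groth.Agent.AmpleX.Sect
import Groth.Agent.S1297

/-!
# Zero loci of sections with acyclic inverse are connected
-/

universe u

set_option linter.style.haveILetI false
set_option linter.unusedSectionVars false
set_option backward.isDefEq.respectTransparency false
set_option backward.isDefEq.respectTransparency.types false

open CategoryTheory CategoryTheory.Limits AlgebraicGeometry TopologicalSpace Opposite CategoryTheory.Abelian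

namespace Groth.Agent.VarBase.ConnSection

open Groth.Agent Groth.Agent.AModX Groth.Agent.InvX

variable {X : Scheme.{u}}

noncomputable abbrev h0 (F : X.Modules) (W : X.Opens) :
    CohTop.HU (X := X.toPresheafedSpace.carrier) (Coh.toAb F) 0 W ≃+ Γ(F, W) :=
  SiteBase.huZero (J := Opens.grothendieckTopology X.toPresheafedSpace.carrier) (Coh.toAb F) W

theorem h0_res (F : X.Modules) {U V : X.Opens} (h : V ≤ U)
    (z : CohTop.HU (X := X.toPresheafedSpace.carrier) (Coh.toAb F) 0 U) :
    h0 F V (CohTop.res (X := X.toPresheafedSpace.carrier) (Coh.toAb F) 0 h z) = res F h (h0 F U z) := by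
  obtain ⟨ψ, rfl⟩ := Ext.addEquiv₀.symm.surjective z
  show h0 F V (Ext.comp (Ext.mk₀ (CohCx.freeSheafMap (Opens.grothendieckTopology X.toPresheafedSpace.carrier)
    (homOfLE h))) (Ext.mk₀ ψ) (zero_add 0)) = _
  rw [Ext.mk₀_comp_mk₀]
  refine (SiteBase.huZero_mk₀ _ V _).trans ?_
  refine (SiteBase.secEquiv_freeSheafMap (homOfLE h) ψ).trans (congrArg (res F h) ?_)
  exact (SiteBase.huZero_mk₀ _ U ψ).symm

/-- With no first cohomology, sections on an overlap are differences. -/
theorem exists_split (F : X.Modules) (h : Subsingleton (Coh.HH X F 1)) (U V : X.Opens) (hUV : U ⊔ V = ⊤)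
    (c : Γ(F, U ⊓ V)) :
    ∃ (a : Γ(F, U)) (b : Γ(F, V)), res F inf_le_left a - res F inf_le_right b = c := by
  have hs : Subsingleton (CohTop.HU (X := X.toPresheafedSpace.carrier) (Coh.toAb F) 1 (U ⊔ V)) := by
    rw [hUV]
    exact (SiteBase.huTerminalEquiv isTerminalTop _ 1).toEquiv.subsingleton_congr.2 h
  obtain ⟨a, b, hab⟩ :=
    (CohCore23.TMV.mv_exact_inf (X := X.toPresheafedSpace.carrier) (Coh.toAb F) U V 0
      ((h0 F (U ⊓ V)).symm c)).1 (hs.elim _ _)
  refine ⟨h0 F U a, h0 F V b, ?_⟩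
  rw [← h0_res, ← h0_res, ← map_sub, hab, AddEquiv.apply_symm_apply]

theorem isClopen_basicOpen (k : Type u) [Field k] [X.Over (Spec (CommRingCat.of k))]
    [IsProper (X ↘ Spec (CommRingCat.of k))] (f : Γ(X, ⊤)) : IsClopen (X.basicOpen f : Set X) := by
  refine ⟨?_, (X.basicOpen f).isOpen⟩
  letI : Algebra k Γ(X, ⊤) :=
    ((X ↘ Spec (CommRingCat.of k)).appTop.hom.comp (Scheme.ΓSpecIso (CommRingCat.of k)).inv.hom).toAlgebra
  haveI : Module.Finite k Γ(X, ⊤) := by
    refine RingHom.finite_algebraMap.1 ?_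
    exact (S1297.finite_appTop (X ↘ Spec (CommRingCat.of k))).comp (RingHom.Finite.of_surjective _
      (Scheme.ΓSpecIso (CommRingCat.of k)).symm.commRingCatIsoToRingEquiv.surjective)
  haveI : IsArtinianRing Γ(X, ⊤) := IsArtinianRing.of_finite k _
  obtain ⟨n, hn⟩ := monotone_stabilizes_iff_artinian.2 (inferInstance : IsArtinian Γ(X, ⊤) Γ(X, ⊤))
    ⟨fun m => OrderDual.toDual (Ideal.span {f ^ m}), fun a b hab =>
      (Ideal.span_singleton_le_span_singleton.2 (pow_dvd_pow f hab) : Ideal.span {f ^ b} ≤ Ideal.span {f ^ a})⟩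
  have hn' : Ideal.span {f ^ n} = Ideal.span {f ^ (n + 1)} := hn (n + 1) n.le_succ
  obtain ⟨g, hg⟩ := Ideal.mem_span_singleton'.1 (hn' ▸ Ideal.mem_span_singleton_self (f ^ n))
  rw [← isOpen_compl_iff]
  have : (X.basicOpen f : Set X)ᶜ = X.basicOpen (1 - g * f) := by
    ext x
    simp only [Set.mem_compl_iff, SetLike.mem_coe, Scheme.mem_basicOpen_top]
    constructor
    · intro h
      rw [map_sub, map_one, map_mul]
      rcases IsLocalRing.isUnit_or_isUnit_one_sub_self
        (X.presheaf.germ ⊤ x trivial g * X.presheaf.germ ⊤ x trivial f) with h' | h'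
      · exact absurd (isUnit_of_mul_isUnit_right h') h
      · exact h'
    · intro h h'
      have h1 : X.presheaf.germ ⊤ x trivial (f ^ n * (1 - g * f)) = 0 := by
        rw [show f ^ n * (1 - g * f) = f ^ n - g * f ^ (n + 1) by ring, hg, sub_self, map_zero]
      rw [map_mul, map_pow] at h1
      exact ((h'.pow n).mul h).ne_zero h1
  rw [this]
  exact (X.basicOpen _).isOpen

variable {D N : X.Modules} (e : CohB1.tensorMod D N ≅ Coh.structureModule X) (t : Γ(N, ⊤))

/-- Pairing with the section. -/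
noncomputable def pair (W : X.Opens) (m : Γ(D, W)) : Γ(X, W) :=
  e.hom.app W (tmul m (res N le_top t))

theorem pair_res {W W' : X.Opens} (h : W' ≤ W) (m : Γ(D, W)) :
    pair e t W' (res D h m) = resR h (pair e t W m) := by
  have h1 : tmul (res D h m) (res N (le_top : W' ≤ ⊤) t) =
      res (CohB1.tensorMod D N) h (tmul m (res N le_top t)) := by rw [res_tmul, res_res]
  exact (congrArg (e.hom.app W') h1).trans (app_res e.hom h _)

theorem pair_smul {W : X.Opens} (r : Γ(X, W)) (m : Γ(D, W)) : pair e t W (r • m) = r * pair e t W m := by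
  unfold pair
  rw [tmul_smul_left, Scheme.Modules.Hom.app_smul]
  rfl

theorem pair_sub {W : X.Opens} (a b : Γ(D, W)) : pair e t W (a - b) = pair e t W a - pair e t W b := by
  have h : tmul (a - b) (res N (le_top : W ≤ ⊤) t) + tmul b (res N le_top t) = tmul a (res N le_top t) := by
    refine (map_add _ _ _).symm.trans (congrArg _ ?_)
    exact (KFlatLib.tm_add_left _ _ _).symm.trans (congrArg (fun z => KFlatLib.tm z _) (sub_add_cancel a b))
  rw [eq_sub_iff_add_eq]
  exact (map_add (e.hom.app W).hom _ _).symm.trans (congrArg _ h)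

variable (hD : PicF.IsInvertible D) (hN : PicF.IsInvertible N)
include hD hN

theorem basicOpen_pair_le {W : X.Opens} (m : Γ(D, W)) :
    X.basicOpen (pair e t W m) ≤ AmpleX.locus t := by
  intro x hx
  have hxW : x ∈ W := X.basicOpen_le _ hx
  have h1 : AmpleX.locus (show Γ(Coh.structureModule X, W) from pair e t W m) ⊓ W = X.basicOpen (pair e t W m) :=
    AmpleX.locus_inf _ le_rfl (InvX.isFrame_one W) (by
      rw [res_self]; exact (mul_one (pair e t W m)).symm)
  have h2 : x ∈ AmpleX.locus (show Γ(Coh.structureModule X, W) from pair e t W m) := (h1.ge hx).1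
  rw [show (show Γ(Coh.structureModule X, W) from pair e t W m) = e.hom.app W (tmul m (res N le_top t)) from rfl,
    AmpleX.locus_iso, AmpleX.locus_tmul hD hN, AmpleX.locus_res] at h2
  exact h2.2.1

theorem exists_pair_eq_one {W : X.Opens} (hW : W ≤ AmpleX.locus t) : ∃ m : Γ(D, W), pair e t W m = 1 := by
  choose Wp hWp ep hep using fun p : ↥W => InvX.exists_frame hD p.1
  let V : ↥W → X.Opens := fun p => Wp p ⊓ W
  have hfr : ∀ (V' : X.Opens) (hV : V' ≤ W) (m : Γ(D, V')), IsFrame m →
      IsFrame (show Γ(Coh.structureModule X, V') from pair e t V' m) := fun V' hV m hm =>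
    (InvX.isFrame_tmul hm (AmpleX.isFrame_res_of_le t (hV.trans hW))).map_iso e
  have hinj : ∀ (V' : X.Opens), V' ≤ W → ∀ a b : Γ(D, V'), pair e t V' a = pair e t V' b → a = b :=
    fun V' hV a b hab => eq_of_locally a b fun p hp => by
      let p' : ↥W := ⟨p, hV hp⟩
      refine ⟨V' ⊓ Wp p', inf_le_left, ⟨hp, hWp p'⟩, ?_⟩
      obtain ⟨r, hr⟩ := (hep p').exists_coord inf_le_right (res D (inf_le_left : V' ⊓ Wp p' ≤ V') a)
      obtain ⟨r', hr'⟩ := (hep p').exists_coord inf_le_right (res D (inf_le_left : V' ⊓ Wp p' ≤ V') b)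
      have h := congrArg (resR (inf_le_left : V' ⊓ Wp p' ≤ V')) hab
      rw [← pair_res, ← pair_res, hr, hr', pair_smul, pair_smul] at h
      have := (hfr _ (inf_le_left.trans hV) _ ((hep p').res (inf_le_right : V' ⊓ Wp p' ≤ Wp p'))).coord_unique le_rfl
        (r := r) (r' := r') (by rw [res_self]; exact h)
      rw [hr, hr', this]
  have hloc : ∀ p, ∃ m : Γ(D, V p), pair e t (V p) m = 1 := fun p => by
    obtain ⟨r, hr⟩ := (hfr (V p) inf_le_right _ ((hep p).res inf_le_left)).exists_coord le_rfl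
      (show Γ(Coh.structureModule X, V p) from (1 : Γ(X, V p)))
    rw [res_self] at hr
    exact ⟨r • res D inf_le_left (ep p), (pair_smul e t r _).trans hr.symm⟩
  choose m hm using hloc
  obtain ⟨M, hM, -⟩ := existsUnique_glue (M := D) (V := W) V (fun p => inf_le_right)
    (fun p hp => ⟨⟨p, hp⟩, hWp _, hp⟩) m fun p q => hinj _ (inf_le_left.trans inf_le_right) _ _ (by
      rw [pair_res, pair_res, hm, hm, map_one, map_one])
  refine ⟨M, eq_of_locally (M := Coh.structureModule X) _ _ fun p hp => ?_⟩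
  refine ⟨V ⟨p, hp⟩, inf_le_right, ⟨hWp _, hp⟩, ?_⟩
  show resR _ _ = resR _ 1
  rw [← pair_res, hM ⟨p, hp⟩, hm, map_one]

include e in
/-- **Connectedness of zero loci.** -/
theorem isPreconnected_compl_locus (k : Type u) [Field k] [X.Over (Spec (CommRingCat.of k))]
    [IsProper (X ↘ Spec (CommRingCat.of k))] [PreconnectedSpace X]
    (h1 : Subsingleton (Coh.HH X D 1)) : IsPreconnected ((AmpleX.locus t : Set X)ᶜ) := by
  rw [isPreconnected_closed_iff]
  intro P Q hP hQ hsub hTP hTQ
  by_contra hne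
  let T : Set X := (AmpleX.locus t : Set X)ᶜ
  have hTc : IsClosed T := (AmpleX.locus t).isOpen.isClosed_compl
  let U : X.Opens := ⟨(T ∩ Q)ᶜ, (hTc.inter hQ).isOpen_compl⟩
  let V : X.Opens := ⟨(T ∩ P)ᶜ, (hTc.inter hP).isOpen_compl⟩
  have hUV : U ⊔ V = ⊤ := top_unique fun x _ => by
    by_contra h
    have hQx : x ∈ T ∩ Q := not_not.1 fun h' => h (Or.inl h')
    have hPx : x ∈ T ∩ P := not_not.1 fun h' => h (Or.inr h')
    exact hne ⟨x, hQx.1, hPx.2, hQx.2⟩
  have hov : U ⊓ V ≤ AmpleX.locus t := fun x hx => not_not.1 fun hT => by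
    rcases hsub hT with h | h
    · exact hx.2 ⟨hT, h⟩
    · exact hx.1 ⟨hT, h⟩
  obtain ⟨m, hm⟩ := exists_pair_eq_one e t hD hN hov
  obtain ⟨a, b, hab⟩ := exists_split D h1 U V hUV m
  have hcov : ∀ p : X, p ∈ U ∨ p ∈ V := fun p => hUV.ge (trivial : p ∈ (⊤ : X.Opens))
  let sf : ∀ i : ULift.{u} Bool, Γ(X, cond i.down U V) := fun i =>
    Bool.rec (motive := fun b => Γ(X, cond b U V)) (show Γ(X, V) from - pair e t V b)
      (show Γ(X, U) from 1 - pair e t U a) i.down
  have hkey : resR (inf_le_left : U ⊓ V ≤ U) (1 - pair e t U a) =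
      resR (inf_le_right : U ⊓ V ≤ V) (- pair e t V b) := by
    rw [map_sub, map_one, map_neg, ← pair_res, ← pair_res, ← sub_eq_zero, sub_neg_eq_add,
      sub_add, ← pair_sub, hab, hm, sub_self]
  obtain ⟨f, hf, -⟩ := existsUnique_glue (M := Coh.structureModule X) (V := ⊤)
    (fun i : ULift.{u} Bool => cond i.down U V) (fun _ => le_top)
    (fun p _ => (hcov p).elim (fun h => ⟨⟨true⟩, h⟩) fun h => ⟨⟨false⟩, h⟩) sf fun i j => by
      rcases i with ⟨_ | _⟩ <;> rcases j with ⟨_ | _⟩
      · rfl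
      · have h := congrArg (resR (le_inf inf_le_right inf_le_left : V ⊓ U ≤ U ⊓ V)) hkey
        rw [resR_resR, resR_resR] at h
        exact h.symm
      · exact hkey
      · rfl
  obtain ⟨x, hxT, hxP⟩ := hTP
  obtain ⟨y, hyT, hyQ⟩ := hTQ
  have hxU : x ∈ U := fun h => hne ⟨x, hxT, hxP, h.2⟩
  have hyV : y ∈ V := fun h => hne ⟨y, hyT, h.2, hyQ⟩
  have hxf : x ∈ X.basicOpen (show Γ(X, ⊤) from f) := by
    have hu : x ∈ X.basicOpen (1 - pair e t U a) := by
      rw [X.mem_basicOpen _ _ hxU, map_sub, map_one]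
      refine IsLocalRing.isUnit_one_sub_self_of_mem_nonunits _ fun hu => hxT ?_
      exact basicOpen_pair_le e t hD hN a ((X.mem_basicOpen _ _ hxU).2 hu)
    rw [show (1 - pair e t U a : Γ(X, U)) = X.presheaf.map (homOfLE (le_top : U ≤ ⊤)).op
      (show Γ(X, ⊤) from f) from (hf ⟨true⟩).symm, Scheme.basicOpen_res] at hu
    exact hu.2
  have hyf : y ∉ X.basicOpen (show Γ(X, ⊤) from f) := fun hy => by
    have hu : y ∈ X.basicOpen (X.presheaf.map (homOfLE (le_top : V ≤ ⊤)).op (show Γ(X, ⊤) from f)) := by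
      rw [Scheme.basicOpen_res]; exact ⟨hyV, hy⟩
    rw [show X.presheaf.map (homOfLE (le_top : V ≤ ⊤)).op (show Γ(X, ⊤) from f) = - pair e t V b
      from hf ⟨false⟩, X.mem_basicOpen _ _ hyV, map_neg, IsUnit.neg_iff, ← X.mem_basicOpen _ _ hyV] at hu
    exact hyT (basicOpen_pair_le e t hD hN b hu)
  rcases isClopen_iff.1 (isClopen_basicOpen k (show Γ(X, ⊤) from f)) with h | h
  · exact (h.le hxf).elim
  · exact hyf (h.ge trivial)

end Groth.Agent.VarBase.ConnSection
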