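import Mathlib.AlgebraicGeometry.ProjectiveSpectrum.Topology
import Mathlib.Topology.KrullDimension
import Mathlib.Topology.NoetherianSpace
import Mathlib.Topology.Sober
import Mathlib.LinearAlgebra.Span.Basic
import Mathlib.Data.Fintype.EquivFin

/-!
# Hypersurfaces through a closed set covering a complement

In a Noetherian projective spectrum, the complement of a closed set `Y` inside a closed set `T` is covered
by `d + 1` basic opens of positive degree missing `Y`, where `d` bounds the dimension of the complement.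
-/

set_option linter.unusedSectionVars false
set_option linter.style.haveILetI false

universe u v

open TopologicalSpace DirectSum

noncomputable section

namespace Groth.Agent.VarBase.HyperCover

section Dim

variable {T : Type*} [TopologicalSpace T]

/-- A closed set containing no component has smaller dimension. -/
theorem dim_le_of_no_component {A : Set T} (hA : IsClosed A) (h : ∀ Z ∈ irreducibleComponents T, ¬ Z ⊆ A)
    {d : ℕ} (hT : topologicalKrullDim T ≤ ((d + 1 : ℕ) : WithBot ℕ∞)) :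
    topologicalKrullDim ↥A ≤ (d : WithBot ℕ∞) := by
  let F : IrreducibleCloseds ↥A → IrreducibleCloseds T := fun c =>
    ⟨Subtype.val '' (c : Set ↥A), c.isIrreducible.image _ continuous_subtype_val.continuousOn,
      hA.isClosedEmbedding_subtypeVal.isClosedMap _ c.isClosed⟩
  have hF : StrictMono F := fun c c' hc => by
    refine lt_of_le_of_ne (Set.image_mono hc.le) fun e => hc.ne ?_
    exact IrreducibleCloseds.ext (Subtype.val_injective.image_injective
      (congrArg (fun Z : IrreducibleCloseds T => (Z : Set T)) e))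
  rw [topologicalKrullDim, Order.krullDim]
  refine iSup_le fun p => ?_
  let q : LTSeries (IrreducibleCloseds T) := p.map F hF
  obtain ⟨Z, hZ, hle⟩ := exists_mem_irreducibleComponents_subset_of_isIrreducible (q.last : Set T) q.last.isIrreducible
  let Z' : IrreducibleCloseds T := ⟨Z, hZ.1, isClosed_of_mem_irreducibleComponents Z hZ⟩
  have hlt : q.last < Z' := lt_of_le_of_ne hle fun e => h Z hZ (by
    have e' := congrArg (fun Z : IrreducibleCloseds T => (Z : Set T)) e
    change Subtype.val '' _ = Z at e'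
    rw [← e']
    exact Subtype.coe_image_subset A _)
  have hlen := (Order.LTSeries.length_le_krullDim (q.snoc Z' hlt)).trans hT
  rw [show (q.snoc Z' hlt).length = q.length + 1 from rfl] at hlen
  have : q.length + 1 ≤ d + 1 := by exact_mod_cast hlen
  exact_mod_cast (show p.length ≤ d from Nat.le_of_succ_le_succ this)

/-- A closed set containing no component of a zero-dimensional space is empty. -/
theorem eq_empty_of_no_component {A : Set T} (h : ∀ Z ∈ irreducibleComponents T, ¬ Z ⊆ A)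
    (hA : IsClosed A) (hT : topologicalKrullDim T ≤ (0 : WithBot ℕ∞)) : A = ∅ := by
  by_contra hne
  obtain ⟨a, ha⟩ := Set.nonempty_iff_ne_empty.2 hne
  let c : IrreducibleCloseds T := ⟨closure {a}, isIrreducible_singleton.closure, isClosed_closure⟩
  obtain ⟨Z, hZ, hle⟩ := exists_mem_irreducibleComponents_subset_of_isIrreducible (c : Set T) c.isIrreducible
  let Z' : IrreducibleCloseds T := ⟨Z, hZ.1, isClosed_of_mem_irreducibleComponents Z hZ⟩
  have hlt : c < Z' := lt_of_le_of_ne hle fun e => h Z hZ (by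
    have e' : closure ({a} : Set T) = Z := congrArg (fun Z : IrreducibleCloseds T => (Z : Set T)) e
    rw [← e']
    exact hA.closure_subset_iff.2 (Set.singleton_subset_iff.2 ha))
  have hlen := (Order.LTSeries.length_le_krullDim ((RelSeries.singleton _ c).snoc Z' hlt)).trans hT
  simp [RelSeries.snoc, RelSeries.append] at hlen
  exact absurd hlen (by simp)

end Dim

variable {σ : Type v} {R : Type u} [CommRing R] [SetLike σ R] [AddSubgroupClass σ R] (𝒜 : ℕ → σ) [GradedRing 𝒜]

/-- Homogeneous prime avoidance inside a homogeneous ideal. -/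
theorem exists_avoid (I : HomogeneousIdeal 𝒜) (S : Finset (ProjectiveSpectrum 𝒜))
    (hS : ∀ x ∈ S, ¬ I ≤ x.asHomogeneousIdeal) :
    ∃ (e : ℕ) (f : R), 0 < e ∧ f ∈ 𝒜 e ∧ f ∈ I ∧ ∀ x ∈ S, f ∉ x.asHomogeneousIdeal := by
  classical
  induction S using Finset.strongInduction with
  | H T ih =>
    rcases T.eq_empty_or_nonempty with rfl | hne
    · exact ⟨1, 0, one_pos, zero_mem _, zero_mem _, by simp⟩
    obtain ⟨P, hP⟩ := T.exists_minimal hne
    have hPT : P ∈ T := hP.1
    have hnle : ∀ Q ∈ T, Q ≠ P → ¬ Q.asHomogeneousIdeal ≤ P.asHomogeneousIdeal := fun Q hQ hQP hle =>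
      hQP (ProjectiveSpectrum.ext (le_antisymm hle (hP.2 hQ hle)))
    have hom : ∀ (J : HomogeneousIdeal 𝒜), ¬ J ≤ P.asHomogeneousIdeal →
        ∃ (i : ℕ) (r : R), r ∈ 𝒜 i ∧ r ∈ J ∧ r ∉ P.asHomogeneousIdeal := fun J hJ => by
      obtain ⟨r, hrJ, hrP⟩ := SetLike.not_le_iff_exists.1 hJ
      by_contra! hall
      refine hrP ?_
      rw [← sum_support_decompose 𝒜 r]
      exact sum_mem fun i _ => hall i _ (SetLike.coe_mem _) (J.isHomogeneous i hrJ)
    -- an element outside `P` in `I` and in all the others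
    have hg0 : ∀ U ⊆ T.erase P, ∃ (i : ℕ) (g : R), g ∈ 𝒜 i ∧ g ∉ P.asHomogeneousIdeal ∧
        ∀ Q ∈ U, g ∈ Q.asHomogeneousIdeal := by
      intro U
      induction U using Finset.induction_on with
      | empty => intro _; exact ⟨0, 1, SetLike.one_mem_graded 𝒜,
          fun h => P.isPrime.ne_top ((Ideal.eq_top_iff_one _).2 h), by simp⟩
      | @insert Q U _ ihU =>
        intro hU
        obtain ⟨i, g, hg, hgP, hgU⟩ := ihU ((Finset.subset_insert _ _).trans hU)
        obtain ⟨hQP, hQT⟩ := Finset.mem_erase.1 (hU (Finset.mem_insert_self Q U))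
        obtain ⟨j, r, hr, hrQ, hrP⟩ := hom _ (hnle Q hQT hQP)
        refine ⟨i + j, g * r, SetLike.mul_mem_graded hg hr, fun h => (P.isPrime.mem_or_mem h).elim hgP hrP,
          fun Q' hQ' => ?_⟩
        rcases Finset.mem_insert.1 hQ' with rfl | hQ'
        · exact Ideal.mul_mem_left _ _ hrQ
        · exact Ideal.mul_mem_right _ _ (hgU Q' hQ')
    obtain ⟨i, g, hg, hgP, hgU⟩ := hg0 _ subset_rfl
    obtain ⟨j, r, hr, hrI, hrP⟩ := hom I (hS P hPT)
    obtain ⟨l, t, hl, ht, htP⟩ : ∃ (l : ℕ) (t : R), 0 < l ∧ t ∈ 𝒜 l ∧ t ∉ P.asHomogeneousIdeal := by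
      by_contra! hall
      refine P.not_irrelevant_le ?_
      show (HomogeneousIdeal.irrelevant 𝒜).toIdeal ≤ P.asHomogeneousIdeal.toIdeal
      rw [HomogeneousIdeal.irrelevant_eq_span, Ideal.span_le]
      exact Set.iUnion₂_subset fun l hl t ht => hall l t hl ht
    obtain ⟨ef, f, hef, hf, hfI, hfav⟩ := ih (T.erase P) (Finset.erase_ssubset hPT)
      fun x hx => hS x (Finset.erase_subset _ _ hx)
    by_cases hfP : f ∈ P.asHomogeneousIdeal
    swap
    · refine ⟨ef, f, hef, hf, hfI, fun Q hQ => ?_⟩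
      rcases eq_or_ne Q P with rfl | hQP
      exacts [hfP, hfav Q (Finset.mem_erase.2 ⟨hQP, hQ⟩)]
    have hG : g * r * t ∈ 𝒜 (i + j + l) := SetLike.mul_mem_graded (SetLike.mul_mem_graded hg hr) ht
    have hGP : g * r * t ∉ P.asHomogeneousIdeal := fun h =>
      (P.isPrime.mem_or_mem h).elim (fun h => (P.isPrime.mem_or_mem h).elim hgP hrP) htP
    refine ⟨(i + j + l) * ef, f ^ (i + j + l) + (g * r * t) ^ ef, mul_pos (by omega) hef, ?_, ?_, fun Q hQ hmem => ?_⟩
    · refine add_mem ?_ ?_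
      · simpa using SetLike.pow_mem_graded (i + j + l) hf
      · simpa [mul_comm] using SetLike.pow_mem_graded ef hG
    · exact add_mem (Ideal.pow_mem_of_mem _ hfI _ (by omega))
        (Ideal.pow_mem_of_mem _ (Ideal.mul_mem_right _ _ (Ideal.mul_mem_left _ _ hrI)) _ hef)
    · rcases eq_or_ne Q P with rfl | hQP
      · have hf' : f ^ (i + j + l) ∈ Q.asHomogeneousIdeal.toIdeal := Ideal.pow_mem_of_mem _ hfP _ (by omega)
        exact hGP (Q.isPrime.mem_of_pow_mem _ ((Ideal.add_mem_iff_right _ hf').1 hmem))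
      · have hQ' := Finset.mem_erase.2 ⟨hQP, hQ⟩
        have hg' : (g * r * t) ^ ef ∈ Q.asHomogeneousIdeal.toIdeal :=
          Ideal.pow_mem_of_mem _ (Ideal.mul_mem_right _ _ (Ideal.mul_mem_right _ _ (hgU Q hQ'))) _ hef
        exact hfav Q hQ' (Q.isPrime.mem_of_pow_mem _ ((Ideal.add_mem_iff_left _ hg').1 hmem))

variable [NoetherianSpace (ProjectiveSpectrum 𝒜)] [QuasiSober (ProjectiveSpectrum 𝒜)]

/-- The induction step: one chosen element takes all the generic points. -/
theorem exists_step {Y : Set (ProjectiveSpectrum 𝒜)} (hY : IsClosed Y) (P : R → Prop)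
    (hP : ∀ S : Finset (ProjectiveSpectrum 𝒜), (∀ x ∈ S, x ∉ Y) →
      ∃ f, P f ∧ ∀ x ∈ S, x ∈ ProjectiveSpectrum.basicOpen 𝒜 f)
    {T : Set (ProjectiveSpectrum 𝒜)} (hT : IsClosed T) :
    ∃ f : R, P f ∧
      ∀ Z ∈ irreducibleComponents ↥(T \ Y), ¬ Z ⊆ {z : ↥(T \ Y) | z.1 ∉ ProjectiveSpectrum.basicOpen 𝒜 f} := by
  classical
  haveI : NoetherianSpace ↥(T \ Y) := NoetherianSpace.set _
  haveI : QuasiSober ↥T := hT.isClosedEmbedding_subtypeVal.quasiSober
  haveI : QuasiSober ↥(T \ Y) := by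
    let g : ↥(T \ Y) → ↥T := Set.inclusion Set.sdiff_subset
    have hg : Topology.IsOpenEmbedding g := by
      refine ⟨Topology.IsEmbedding.inclusion _, ?_⟩
      rw [Set.range_inclusion]
      exact isOpen_induced_iff.2 ⟨Yᶜ, hY.isOpen_compl, by ext z; simp⟩
    exact hg.quasiSober
  have hfin := NoetherianSpace.finite_irreducibleComponents (α := ↥(T \ Y))
  let gp : ↥(hfin.toFinset) → ProjectiveSpectrum 𝒜 := fun Z => (hfin.mem_toFinset.1 Z.2).1.genericPoint.1
  obtain ⟨f, hf, hfav⟩ := hP (Finset.univ.image gp) fun x hx => by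
    obtain ⟨Z, -, rfl⟩ := Finset.mem_image.1 hx
    exact (hfin.mem_toFinset.1 Z.2).1.genericPoint.2.2
  refine ⟨f, hf, fun Z hZ hsub => ?_⟩
  have hmem := hfav _ (Finset.mem_image.2 ⟨⟨Z, hfin.mem_toFinset.2 hZ⟩, Finset.mem_univ _, rfl⟩)
  have hgm : hZ.1.genericPoint ∈ Z :=
    (hZ.1.isGenericPoint_genericPoint (isClosed_of_mem_irreducibleComponents Z hZ)).mem
  exact hsub hgm hmem

/-- `T ∖ Y` is covered by `d + 1` basic opens of elements with a property available at finitely many points. -/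
theorem exists_cover_of {Y : Set (ProjectiveSpectrum 𝒜)} (hY : IsClosed Y) (P : R → Prop)
    (hP : ∀ S : Finset (ProjectiveSpectrum 𝒜), (∀ x ∈ S, x ∉ Y) →
      ∃ f, P f ∧ ∀ x ∈ S, x ∈ ProjectiveSpectrum.basicOpen 𝒜 f) :
    ∀ (d : ℕ) (T : Set (ProjectiveSpectrum 𝒜)), IsClosed T → topologicalKrullDim ↥(T \ Y) ≤ (d : WithBot ℕ∞) →
      ∃ h : Fin (d + 1) → R, (∀ j, P (h j)) ∧
        T \ Y ⊆ ⋃ j, (ProjectiveSpectrum.basicOpen 𝒜 (h j) : Set (ProjectiveSpectrum 𝒜)) := by
  intro d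
  induction d with
  | zero =>
    intro T hT hd
    obtain ⟨f, hf, hcomp⟩ := exists_step 𝒜 hY P hP hT
    refine ⟨fun _ => f, fun _ => hf, fun x hx => Set.mem_iUnion.2 ⟨0, ?_⟩⟩
    by_contra hxD
    have hA : IsClosed {z : ↥(T \ Y) | z.1 ∉ ProjectiveSpectrum.basicOpen 𝒜 f} :=
      (ProjectiveSpectrum.basicOpen 𝒜 f).2.isClosed_compl.preimage continuous_subtype_val
    exact Set.eq_empty_iff_forall_notMem.1
      (eq_empty_of_no_component hcomp hA (by simpa using hd)) ⟨x, hx⟩ hxD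
  | succ d ih =>
    intro T hT hd
    obtain ⟨f, hf, hcomp⟩ := exists_step 𝒜 hY P hP hT
    let T' := T \ (ProjectiveSpectrum.basicOpen 𝒜 f : Set (ProjectiveSpectrum 𝒜))
    have hT' : IsClosed T' := hT.sdiff (ProjectiveSpectrum.basicOpen 𝒜 f).2
    let A : Set ↥(T \ Y) := {z | z.1 ∉ ProjectiveSpectrum.basicOpen 𝒜 f}
    have hA : IsClosed A := (ProjectiveSpectrum.basicOpen 𝒜 f).2.isClosed_compl.preimage continuous_subtype_val
    have hAd := dim_le_of_no_component hA hcomp hd
    let g : ↥A → ↥(T' \ Y) := fun z => ⟨z.1.1, ⟨z.1.2.1, z.2⟩, z.1.2.2⟩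
    let g' : ↥(T' \ Y) ≃ₜ ↥A :=
      { toFun := fun z => ⟨⟨z.1, z.2.1.1, z.2.2⟩, z.2.1.2⟩
        invFun := g
        left_inv := fun z => rfl
        right_inv := fun z => rfl }
    obtain ⟨h, hh, hcov⟩ := ih T' hT' ((IsHomeomorph.topologicalKrullDim_eq _ g'.isHomeomorph).le.trans hAd)
    refine ⟨Fin.cons f h, Fin.cases hf hh, fun x hx => ?_⟩
    by_cases hxD : x ∈ ProjectiveSpectrum.basicOpen 𝒜 f
    · exact Set.mem_iUnion.2 ⟨0, by simpa using hxD⟩
    · obtain ⟨j, hj⟩ := Set.mem_iUnion.1 (hcov ⟨⟨hx.1, hxD⟩, hx.2⟩)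
      exact Set.mem_iUnion.2 ⟨j.succ, by simpa using hj⟩

/-- `T ∖ Y` is covered by `d + 1` basic opens missing `Y`. -/
theorem exists_cover {Y : Set (ProjectiveSpectrum 𝒜)} (hY : IsClosed Y)
    (d : ℕ) (T : Set (ProjectiveSpectrum 𝒜)) (hT : IsClosed T)
    (hd : topologicalKrullDim ↥(T \ Y) ≤ (d : WithBot ℕ∞)) :
      ∃ h : Fin (d + 1) → R, (∀ j, ∃ e, 0 < e ∧ h j ∈ 𝒜 e) ∧
        (∀ j, Y ⊆ (ProjectiveSpectrum.basicOpen 𝒜 (h j) : Set (ProjectiveSpectrum 𝒜))ᶜ) ∧
        T \ Y ⊆ ⋃ j, (ProjectiveSpectrum.basicOpen 𝒜 (h j) : Set (ProjectiveSpectrum 𝒜)) := by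
  classical
  obtain ⟨h, hh, hcov⟩ := exists_cover_of 𝒜 hY
    (fun f => (∃ e, 0 < e ∧ f ∈ 𝒜 e) ∧ Y ⊆ (ProjectiveSpectrum.basicOpen 𝒜 f : Set (ProjectiveSpectrum 𝒜))ᶜ)
    (fun S hS => by
      obtain ⟨e, f, he, hf, hfI, hfav⟩ := exists_avoid 𝒜 (ProjectiveSpectrum.vanishingIdeal Y) S fun x hx hle => by
        refine hS x hx (hY.closure_eq.le ?_)
        rw [← ProjectiveSpectrum.zeroLocus_vanishingIdeal_eq_closure]
        exact hle
      exact ⟨f, ⟨⟨e, he, hf⟩, fun y hy hyD => hyD ((ProjectiveSpectrum.mem_vanishingIdeal _ _).1 hfI y hy)⟩,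
        fun x hx => (ProjectiveSpectrum.mem_basicOpen 𝒜 f _).2 (hfav x hx)⟩) d T hT hd
  exact ⟨h, fun j => (hh j).1, fun j => (hh j).2, hcov⟩

section Linear

omit [NoetherianSpace (ProjectiveSpectrum 𝒜)] [QuasiSober (ProjectiveSpectrum 𝒜)] in
/-- Over an infinite field finitely many proper subspaces do not cover. -/
theorem exists_linear_avoid {K W : Type*} [Field K] [Infinite K] [AddCommGroup W] [Module K W]
    {ι : Type*} (V : ι → Submodule K W) (S : Finset ι) (hV : ∀ i ∈ S, V i ≠ ⊤) :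
    ∃ w : W, ∀ i ∈ S, w ∉ V i := by
  classical
  induction S using Finset.induction_on with
  | empty => exact ⟨0, by simp⟩
  | @insert i S hi ih =>
    obtain ⟨w, hw⟩ := ih fun j hj => hV j (Finset.mem_insert_of_mem hj)
    by_cases hwi : w ∈ V i
    swap
    · exact ⟨w, fun j hj => (Finset.mem_insert.1 hj).elim (fun e => e ▸ hwi) (hw j)⟩
    obtain ⟨v, -, hv⟩ := SetLike.exists_of_lt (lt_top_iff_ne_top.2 (hV i (Finset.mem_insert_self i S)))
    have hbad : ∀ j ∈ S, {c : K | v + c • w ∈ V j}.Subsingleton := fun j hj a ha b hb => by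
      by_contra hne
      refine hw j hj ?_
      have h : (a - b) • w ∈ V j := by
        simpa [sub_smul] using (V j).sub_mem ha hb
      exact ((V j).smul_mem_iff (sub_ne_zero.2 hne)).1 h
    obtain ⟨c, hc⟩ := Infinite.exists_notMem_finset
      (((S.finite_toSet.biUnion fun j hj => (hbad j hj).finite).union (Set.finite_singleton (0 : K))).toFinset)
    rw [Set.Finite.mem_toFinset, Set.mem_union, Set.mem_iUnion₂, not_or] at hc
    refine ⟨v + c • w, fun j hj => (Finset.mem_insert.1 hj).elim (fun e hmem => hv ?_) fun hjS hmem => ?_⟩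
    · subst e
      simpa using (V j).sub_mem hmem ((V j).smul_mem c hwi)
    · exact hc.1 ⟨j, hjS, hmem⟩

end Linear

end Groth.Agent.VarBase.HyperCover
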