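import Groth.Agent.VarBase.NakaiCrit
import Groth.Agent.VarBase.Decomp
import Groth.Agent.IntNum47.NumInv
import Groth.Agent.HilbPoly.Pos

/-!
# Kleiman's theorem on projective varieties

Intersection numbers of a nef and an ample invertible module on a projective variety are nonnegative.
-/

set_option autoImplicit false
set_option linter.style.haveILetI false
set_option linter.unusedSectionVars false
set_option backward.isDefEq.respectTransparency false
set_option backward.isDefEq.respectTransparency.types false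
set_option maxHeartbeats 800000

universe u

open CategoryTheory CategoryTheory.Limits AlgebraicGeometry TopologicalSpace

noncomputable section

namespace Groth.Agent.VarBase

open Groth.Agent.HilbPoly (Additive additive_euler iterD additive_iterD)

variable (k : Type u) [Field k]

/-- Nonnegative degree on all curves. -/
def NefOn {W : Scheme.{u}} [W.Over (Spec (CommRingCat.of k))] (L : W.Modules) : Prop :=
  ∀ (C : Scheme.{u}) (c : C ⟶ W), IsClosedImmersion c → IsIntegral C → topologicalKrullDim C = 1 →
    0 ≤ iterD [L] (Curv2.euler k W) ((Coh.push c).obj (Coh.structureModule C))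

variable {W : Scheme.{u}} [W.Over (Spec (CommRingCat.of k))] [IsProper (W ↘ Spec (CommRingCat.of k))]

/-- The symbol of a list on the whole scheme. -/
abbrev sym (l : List W.Modules) : ℤ := iterD l (Curv2.euler k W) (Coh.structureModule W)

theorem dimLT_univ {d n : ℕ} (hd : topologicalKrullDim W ≤ (d : WithBot ℕ∞)) (hn : d < n) {F : W.Modules} :
    HilbPoly.DimLT F n := by
  refine lt_of_le_of_lt (((H23.TopDim.dim_le_dim_of_subset (Set.subset_univ _)).trans
    (VanGrowth.dim_univ (X := W)).le).trans hd) ?_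
  exact_mod_cast hn

/-- Powers in the first slot. -/
theorem iterD_tensorPow {A : W.Modules} (hA : PicF.IsInvertible A) {l : List W.Modules}
    (hl : ∀ B ∈ l, PicF.IsInvertible B) (hd : topologicalKrullDim W ≤ ((l.length + 1 : ℕ) : WithBot ℕ∞)) :
    ∀ q : ℕ, sym k (CohB1.tensorPow A q :: l) = (q : ℤ) * sym k (A :: l)
  | 0 => by
    rw [Nat.cast_zero, zero_mul]
    exact IntNum47.iterD_structure (IntNum47.isoInv_euler k) l _
  | q + 1 => by
    haveI := CurveCohLib.isNoetherian_of_proper (k := k) (X := W)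
    show iterD (CohB1.tensorMod (CohB1.tensorPow A q) A :: l) (Curv2.euler k W) (Coh.structureModule W) = _
    rw [IntNum47.iterD_tensor_one k (InvX.isInvertible_tensorPow hA q) hA QCoh.isCoh_structureModule' hl rfl
      (dimLT_univ hd (by omega))]
    have h := iterD_tensorPow hA hl hd q
    simp only [sym] at h
    rw [h]
    push_cast
    ring

/-- An ample module in the first slot reduces the dimension. -/
theorem exists_step_ample [IsIntegral W] {A : W.Modules} (hA : CohB1.IsAmple A) {l : List W.Modules}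
    (hl : ∀ B ∈ l, PicF.IsInvertible B) (hd : topologicalKrullDim W = ((l.length + 1 : ℕ) : WithBot ℕ∞)) :
    ∃ (m : ℕ) (C : W.Modules), 0 < m ∧ Coh.IsCoh C ∧
      topologicalKrullDim ↥(CohB1.support C) ≤ ((l.length : ℕ) : WithBot ℕ∞) ∧
      (m : ℤ) * sym k (A :: l) = iterD l (Curv2.euler k W) C := by
  haveI : AlgebraicGeometry.IsNoetherian W := CurveCohLib.isNoetherian_of_proper (k := k) (X := W)
  haveI : W.IsSeparated := AmpleVan.isSeparated_of_proper (A := k)
  let d := l.length
  let M := (Coh.push (𝟙 W)).obj (Coh.structureModule W)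
  have hM : Coh.IsCoh M := QCoh.isCoh_push_structure (𝟙 W)
  have eM : M ≅ Coh.structureModule W := (Scheme.Modules.pushforwardId W).app _
  let φ := iterD l (Curv2.euler k W)
  have hφ : Additive φ := additive_iterD (additive_euler k) hl
  obtain ⟨m, hm, s, hξs, -, -⟩ := AmpleX.exists_genLocus_le hA (U := ⊤) (x := genericPoint W) trivial
  obtain ⟨U, hU, hξU⟩ : ∃ U : W.Opens, IsIso ((Scheme.Modules.restrictFunctor U.ι).map s) ∧ genericPoint W ∈ U :=
    Opens.mem_sSup.1 hξs
  haveI : IsIso ((Scheme.Modules.restrictFunctor U.ι).map s) := hU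
  haveI := HilbPoly.isIso_restrict_mulHom s M (U := U)
  haveI : Mono (HilbPoly.resUnit U M) := HilbPoly.mono_resUnit_push (𝟙 W) (by simpa using hξU)
  haveI : Mono (HilbPoly.mulHom s M) := by
    haveI : Mono (HilbPoly.mulHom s M ≫ HilbPoly.resUnit U (CohB1.tensorMod M (CohB1.tensorPow A m))) := by
      have hn : HilbPoly.mulHom s M ≫ HilbPoly.resUnit U (CohB1.tensorMod M (CohB1.tensorPow A m)) =
          HilbPoly.resUnit U M ≫ (Scheme.Modules.pushforward U.ι).map
            ((Scheme.Modules.restrictFunctor U.ι).map (HilbPoly.mulHom s M)) :=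
        (Scheme.Modules.restrictAdjunction U.ι).unit.naturality (HilbPoly.mulHom s M)
      rw [hn]
      exact mono_comp _ _
    exact mono_of_mono _ (HilbPoly.resUnit U (CohB1.tensorMod M (CohB1.tensorPow A m)))
  let C := cokernel (HilbPoly.mulHom s M)
  have hP : Coh.IsCoh (HilbPoly.pw A M m) := HilbPoly.isCoh_pw hA.1 hM m
  have hC : Coh.IsCoh C := QCoh.isCoh_cokernel hM.1 hP _
  have hξC : genericPoint W ∉ CohB1.support C :=
    HilbPoly.notMem_support_of_isZero_restrict (HilbPoly.isZero_restrict_cokernel U _) hξU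
  have hCd : topologicalKrullDim ↥(CohB1.support C) ≤ ((d : ℕ) : WithBot ℕ∞) := by
    have hcl : topologicalKrullDim ↥(closure ({genericPoint W} : Set W)) ≤ ((d + 1 : ℕ) : WithBot ℕ∞) := by
      rw [genericPoint_closure W, VanGrowth.dim_univ, hd]
    exact HilbPoly.le_of_lt_succ (HilbPoly.dim_lt_closure hcl (QCoh.isClosed_support_of_isFT hC.1 hC.2)
      (by rw [genericPoint_closure W]; exact Set.subset_univ _) hξC)
  refine ⟨m, C, hm, hC, hCd, ?_⟩
  have hadd : φ (HilbPoly.pw A M m) = φ M + φ C :=
    hφ.add (ShortComplex.mk (HilbPoly.mulHom s M) (cokernel.π _) (cokernel.condition _))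
      (.mk' (ShortComplex.exact_of_g_is_cokernel _ (cokernelIsCokernel _)) inferInstance inferInstance) hM hP hC
  have hlA : ∀ B ∈ A :: l, PicF.IsInvertible B := List.forall_mem_cons.2 ⟨hA.1, hl⟩
  have hφA : Additive (iterD (A :: l) (Curv2.euler k W)) := additive_iterD (additive_euler k) hlA
  have hstep : ∀ j, iterD (A :: l) (Curv2.euler k W) (HilbPoly.pw A M j) = sym k (A :: l) := fun j => by
    induction j with
    | zero => exact hφA.iso _ _ ⟨AmpleVan.twUnit.app M ≪≫ eM⟩
    | succ j ih =>
      have h0 := HilbPoly.iterD_eq_zero (d + 2) (additive_euler k) (A :: A :: l) (by simp [d])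
        (List.forall_mem_cons.2 ⟨hA.1, hlA⟩) (HilbPoly.pw A M j) (HilbPoly.isCoh_pw hA.1 hM j)
        (dimLT_univ hd.le (by omega))
      rw [iterD, sub_eq_zero] at h0
      rw [← ih, ← h0]
      exact (hφA.iso _ _ ⟨(AmpleVan.twComp (CohB1.tensorPow A j) A).app M⟩).symm
  have hlin : ∀ j, φ (HilbPoly.pw A M j) = φ M + (j : ℤ) * sym k (A :: l) := fun j => by
    induction j with
    | zero => rw [Nat.cast_zero, zero_mul, add_zero]; exact hφ.iso _ _ ⟨AmpleVan.twUnit.app M⟩
    | succ j ih =>
      have h := hstep j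
      simp only [sym, iterD] at h ⊢
      have e : φ ((AmpleVan.tw A).obj (HilbPoly.pw A M j)) = φ (HilbPoly.pw A M (j + 1)) :=
        hφ.iso _ _ ⟨(AmpleVan.twComp (CohB1.tensorPow A j) A).app M⟩
      simp only [φ, sym, iterD] at e ih ⊢
      rw [e] at h
      push_cast
      linarith
  have := hlin m
  show (m : ℤ) * sym k (A :: l) = φ C
  linarith

/-- Nonnegativity on integral closed subschemes gives nonnegativity on coherent modules. -/
theorem iterD_nonneg_of_sub {l : List W.Modules} (hl : ∀ B ∈ l, PicF.IsInvertible B)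
    (h : ∀ (Z : Scheme.{u}) (j : Z ⟶ W), IsClosedImmersion j → IsIntegral Z →
      topologicalKrullDim Z = ((l.length : ℕ) : WithBot ℕ∞) →
        0 ≤ iterD l (Curv2.euler k W) ((Coh.push j).obj (Coh.structureModule Z)))
    {F : W.Modules} (hF : Coh.IsCoh F)
    (hd : topologicalKrullDim ↥(CohB1.support F) ≤ ((l.length : ℕ) : WithBot ℕ∞)) :
    0 ≤ iterD l (Curv2.euler k W) F := by
  haveI : AlgebraicGeometry.IsNoetherian W := CurveCohLib.isNoetherian_of_proper (k := k) (X := W)
  have hA : Additive (iterD l (Curv2.euler k W)) := additive_iterD (additive_euler k) hl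
  rw [eq_compSum (iterD l (Curv2.euler k W)) hA.iso l.length hA.add
    (fun M hM hMd => HilbPoly.iterD_eq_zero _ (additive_euler k) l rfl hl M hM hMd) hF hd, compSum]
  refine finsum_nonneg fun ξ => ?_
  split_ifs with hξ
  · refine smul_nonneg (Nat.zero_le _) ?_
    haveI : IrreducibleSpace (clIdeal ξ).subscheme := by
      have hirr : IsIrreducible (Set.range (clIdeal ξ).subschemeι) := by
        rw [range_clIdeal]; exact isIrreducible_singleton.closure
      haveI := Subtype.irreducibleSpace hirr
      exact ((clIdeal ξ).subschemeι.isEmbedding.toHomeomorph).irreducibleSpace_iff.2 inferInstance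
    refine h (clIdeal ξ).subscheme (clIdeal ξ).subschemeι inferInstance
      (isIntegral_of_irreducibleSpace_of_isReduced _) ?_
    rw [← dim_range (X := W) (clIdeal ξ).subschemeι, range_clIdeal, hξ]
  · rfl

/-- Restriction of symbols. -/
theorem sym_restrict {Z : Scheme.{u}} [Z.Over (Spec (CommRingCat.of k))] [IsProper (Z ↘ Spec (CommRingCat.of k))]
    (j : Z ⟶ W) [IsClosedImmersion j]
    (hj : j ≫ (W ↘ Spec (CommRingCat.of k)) = Z ↘ Spec (CommRingCat.of k))
    {l : List W.Modules} (hl : ∀ B ∈ l, PicF.IsInvertible B) :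
    iterD l (Curv2.euler k W) ((Coh.push j).obj (Coh.structureModule Z)) =
      sym k (l.map (Scheme.Modules.pullback j).obj) := by
  haveI := CurveCohLib.isNoetherian_of_proper (k := k) (X := Z)
  exact IntNum47.iterD_push k j hj l hl _ QCoh.isCoh_structureModule'

/-- Nef modules restrict to nef modules. -/
theorem nefOn_restrict {Z : Scheme.{u}} [Z.Over (Spec (CommRingCat.of k))] [IsProper (Z ↘ Spec (CommRingCat.of k))]
    (j : Z ⟶ W) [IsClosedImmersion j]
    (hj : j ≫ (W ↘ Spec (CommRingCat.of k)) = Z ↘ Spec (CommRingCat.of k))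
    {L : W.Modules} (hL : PicF.IsInvertible L) (h : NefOn k L) :
    NefOn k ((Scheme.Modules.pullback j).obj L) := by
  intro C c hc hC hd
  haveI := hc
  haveI := hC
  letI : C.Over (Spec (CommRingCat.of k)) := ⟨c ≫ (Z ↘ Spec (CommRingCat.of k))⟩
  haveI : IsProper (C ↘ Spec (CommRingCat.of k)) := isProper_sub c k
  have h1 := h C (c ≫ j) inferInstance hC hd
  rw [sym_restrict k (c ≫ j) (by rw [Category.assoc, hj]; rfl) (by simpa using hL)] at h1
  rw [sym_restrict k c rfl (by simpa using PicClLib.isInvertible_pullback j hL)]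
  refine h1.trans_eq ?_
  simp only [List.map_cons, List.map_nil]
  exact IntNum47.iterD_congr_head (IntNum47.isoInv_euler k) ((Scheme.Modules.pullbackComp c j).app L).symm [] _

section Combine

variable (L H : W.Modules) (p q e : ℕ)

/-- `L^q ⊗ H^p`. -/
abbrev mixed : W.Modules := CohB1.tensorMod (CohB1.tensorPow L q) (CohB1.tensorPow H p)

/-- The mixed symbols. -/
def mixedSym (n j : ℕ) : ℤ :=
  sym k (List.replicate n (mixed L H p q) ++ (List.replicate j H ++ List.replicate (e - n - j) L))

theorem mixedSym_zero (j : ℕ) : mixedSym k L H p q e 0 j =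
    sym k (List.replicate j H ++ List.replicate (e - j) L) := by
  simp [mixedSym]

variable {L H p q e}

theorem mixedSym_succ (hL : PicF.IsInvertible L) (hH : PicF.IsInvertible H)
    (hd : topologicalKrullDim W ≤ (e : WithBot ℕ∞)) {n j : ℕ} (hn : n + 1 + j ≤ e) :
    mixedSym k L H p q e (n + 1) j =
      (q : ℤ) * mixedSym k L H p q e n j + (p : ℤ) * mixedSym k L H p q e n (j + 1) := by
  haveI := CurveCohLib.isNoetherian_of_proper (k := k) (X := W)
  obtain ⟨r, hr⟩ : ∃ r, e - n - j = r + 1 := ⟨e - n - j - 1, by omega⟩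
  let rest := List.replicate n (mixed L H p q) ++ (List.replicate j H ++ List.replicate r L)
  have hM : PicF.IsInvertible (mixed L H p q) :=
    InvX.isInvertible_tensorMod (InvX.isInvertible_tensorPow hL q) (InvX.isInvertible_tensorPow hH p)
  have hrest : ∀ B ∈ rest, PicF.IsInvertible B := fun B hB => by
    rcases List.mem_append.1 hB with hB | hB
    · exact List.eq_of_mem_replicate hB ▸ hM
    rcases List.mem_append.1 hB with hB | hB
    · exact List.eq_of_mem_replicate hB ▸ hH
    · exact List.eq_of_mem_replicate hB ▸ hL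
  have hlen : rest.length + 1 = e := by simp [rest]; omega
  have hd' : topologicalKrullDim W ≤ ((rest.length + 1 : ℕ) : WithBot ℕ∞) := by rwa [hlen]
  have h1 : mixedSym k L H p q e (n + 1) j = sym k (mixed L H p q :: rest) := by
    rw [mixedSym, show e - (n + 1) - j = r by omega, List.replicate_succ, List.cons_append]
  have h2 : mixedSym k L H p q e n j = sym k (L :: rest) := by
    rw [mixedSym, hr, List.replicate_succ]
    refine IntNum47.iterD_perm (IntNum47.isoInv_euler k) ?_ _
    exact ((List.perm_middle (l₁ := List.replicate j H)).append_left _).trans List.perm_middle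
  have h3 : mixedSym k L H p q e n (j + 1) = sym k (H :: rest) := by
    rw [mixedSym, show e - n - (j + 1) = r by omega, List.replicate_succ, List.cons_append]
    exact IntNum47.iterD_perm (IntNum47.isoInv_euler k) List.perm_middle _
  rw [h1, h2, h3, ← iterD_tensorPow k hL hrest hd' q, ← iterD_tensorPow k hH hrest hd' p]
  exact IntNum47.iterD_tensor_one k (InvX.isInvertible_tensorPow hL q) (InvX.isInvertible_tensorPow hH p)
    QCoh.isCoh_structureModule' hrest rfl (dimLT_univ hd' (by omega))

theorem mixedSym_lower (hL : PicF.IsInvertible L) (hH : PicF.IsInvertible H)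
    (hd : topologicalKrullDim W ≤ (e : WithBot ℕ∞)) : ∀ {n j : ℕ}, n + j ≤ e →
    (∀ i, j ≤ i → i ≤ e → 0 ≤ mixedSym k L H p q e 0 i) →
      (p : ℤ) ^ n * mixedSym k L H p q e 0 (n + j) ≤ mixedSym k L H p q e n j
  | 0, j, _, _ => by simp
  | n + 1, j, hn, h => by
    rw [mixedSym_succ k hL hH hd (by omega)]
    have h1 := mixedSym_lower hL hH hd (n := n) (j := j) (by omega) h
    have h2 := mixedSym_lower hL hH hd (n := n) (j := j + 1) (by omega) fun i hi => h i (by omega)
    have h0 : 0 ≤ mixedSym k L H p q e n j :=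
      le_trans (mul_nonneg (by positivity) (h (n + j) (by omega) (by omega))) h1
    rw [show n + 1 + j = n + (j + 1) by omega, pow_succ']
    have h3 := mul_le_mul_of_nonneg_left h2 (Int.natCast_nonneg p)
    have h4 := mul_nonneg (Int.natCast_nonneg q) h0
    nlinarith [h3, h4]

end Combine

/-- The real polynomial with the mixed symbols as coefficients. -/
def mixedFun (a : ℕ → ℝ) : ℕ → ℕ → ℝ → ℝ
  | 0, j, _ => a j
  | n + 1, j, t => mixedFun a n j t + t * mixedFun a n (j + 1) t

theorem continuous_mixedFun (a : ℕ → ℝ) : ∀ n j, Continuous (mixedFun a n j)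
  | 0, _ => continuous_const
  | n + 1, j => (continuous_mixedFun a n j).add (continuous_id.mul (continuous_mixedFun a n (j + 1)))

theorem mixedFun_zero (a : ℕ → ℝ) : ∀ n j, mixedFun a n j 0 = a j
  | 0, _ => rfl
  | n + 1, j => by rw [mixedFun, mixedFun_zero a n j]; ring

theorem mixedFun_lower (a : ℕ → ℝ) {e : ℕ} {t : ℝ} (ht : 0 ≤ t) : ∀ {n j : ℕ}, n + j ≤ e →
    (∀ i, j ≤ i → i ≤ e → 0 ≤ a i) → t ^ n * a (n + j) ≤ mixedFun a n j t
  | 0, j, _, _ => by simp [mixedFun]
  | n + 1, j, hn, h => by
    rw [mixedFun]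
    have h1 := mixedFun_lower a ht (n := n) (j := j) (by omega) h
    have h2 := mixedFun_lower a ht (n := n) (j := j + 1) (by omega) fun i hi => h i (by omega)
    have h0 : 0 ≤ mixedFun a n j t := le_trans (mul_nonneg (by positivity) (h (n + j) (by omega) (by omega))) h1
    rw [show n + 1 + j = n + (j + 1) by omega, pow_succ']
    nlinarith [mul_le_mul_of_nonneg_left h2 ht]

theorem mixedFun_lower_zero (a : ℕ → ℝ) {e : ℕ} {t : ℝ} (ht : 0 ≤ t)
    (h : ∀ i, 1 ≤ i → i ≤ e → 0 ≤ a i) : ∀ {n : ℕ}, n ≤ e → a 0 ≤ mixedFun a n 0 t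
  | 0, _ => le_rfl
  | n + 1, hn => by
    rw [mixedFun]
    have h1 := mixedFun_lower_zero a ht h (n := n) (by omega)
    have h2 := mixedFun_lower a ht (n := n) (j := 1) (by omega) h
    nlinarith [mul_nonneg ht (le_trans (mul_nonneg (pow_nonneg ht n) (h (n + 1) (by omega) hn)) h2)]

/-- The analytic core: a lower bound on positive rational values forbids a negative constant term. -/
theorem nonneg_of_mixedFun (a : ℕ → ℝ) {e : ℕ} (he : 0 < e) (hpos : ∀ i, 1 ≤ i → i ≤ e → 0 ≤ a i)
    (htop : 0 < a e)
    (hQ : ∀ r : ℚ, 0 < r → 0 < mixedFun a e 0 (r : ℝ) → (r : ℝ) ^ e * a e ≤ mixedFun a e 0 (r : ℝ)) :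
    0 ≤ a 0 := by
  by_contra hneg
  push Not at hneg
  let P := mixedFun a e 0
  have hP : Continuous P := continuous_mixedFun a e 0
  have hP0 : P 0 = a 0 := mixedFun_zero a e 0
  obtain ⟨n, rfl⟩ : ∃ n, e = n + 1 := ⟨e - 1, by omega⟩
  let T : ℝ := max 1 ((1 - a 0) / a (n + 1))
  have hT1 : (1 : ℝ) ≤ T := le_max_left _ _
  have hPT : 0 < P T := by
    have h1 := mixedFun_lower_zero a (t := T) (by linarith) hpos (n := n) (by omega)
    have h2 := mixedFun_lower a (t := T) (by linarith) (n := n) (j := 1) le_rfl hpos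
    have h3 : (1 - a 0) / a (n + 1) ≤ T := le_max_right _ _
    rw [div_le_iff₀ htop] at h3
    have h4 : a (n + 1) ≤ T ^ n * a (n + 1) := le_mul_of_one_le_left htop.le (one_le_pow₀ hT1)
    show 0 < mixedFun a n 0 T + T * mixedFun a n 1 T
    nlinarith [mul_le_mul_of_nonneg_left (h4.trans h2) (by linarith : (0 : ℝ) ≤ T)]
  let S : Set ℝ := Set.Icc 0 T ∩ {t | P t ≤ 0}
  have hS : IsCompact S := isCompact_Icc.inter_right (isClosed_le hP continuous_const)
  have hS0 : (0 : ℝ) ∈ S := ⟨⟨le_rfl, by linarith⟩, by show P 0 ≤ 0; rw [hP0]; exact hneg.le⟩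
  obtain ⟨t₀, ⟨⟨ht0, htT⟩, htP⟩, hmax⟩ := hS.exists_isGreatest ⟨0, hS0⟩
  have htlt : t₀ < T := lt_of_le_of_ne htT fun h => absurd (h ▸ htP : P T ≤ 0) hPT.not_ge
  have hgap : P t₀ < t₀ ^ (n + 1) * a (n + 1) := by
    rcases eq_or_lt_of_le ht0 with h | h
    · rw [← h, hP0, zero_pow (by omega), zero_mul]
      exact hneg
    · exact lt_of_le_of_lt htP (mul_pos (pow_pos h _) htop)
  obtain ⟨δ, hδ, hball⟩ := Metric.continuousAt_iff.1 hP.continuousAt (t₀ ^ (n + 1) * a (n + 1) - P t₀) (sub_pos.2 hgap)
  obtain ⟨r, hr1, hr2⟩ := exists_rat_btwn (lt_min (lt_add_of_pos_right t₀ hδ) htlt)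
  have hr0 : (0 : ℝ) < (r : ℝ) := lt_of_le_of_lt ht0 hr1
  have hPr : 0 < P r := by
    by_contra hc
    exact absurd (hmax ⟨⟨hr0.le, (hr2.trans_le (min_le_right _ _)).le⟩, not_lt.1 hc⟩) hr1.not_ge
  have h1 := hQ r (by exact_mod_cast hr0) hPr
  have h2 : P r - P t₀ < t₀ ^ (n + 1) * a (n + 1) - P t₀ := lt_of_le_of_lt (le_abs_self _) (hball (by
    rw [Real.dist_eq, abs_of_pos (sub_pos.2 hr1)]
    linarith [min_le_left (t₀ + δ) T]))
  have h3 : t₀ ^ (n + 1) * a (n + 1) ≤ (r : ℝ) ^ (n + 1) * a (n + 1) :=
    mul_le_mul_of_nonneg_right (pow_le_pow_left₀ ht0 hr1.le _) htop.le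
  linarith

theorem mixedSym_eq_mixedFun {L H : W.Modules} {p q e : ℕ} (hL : PicF.IsInvertible L) (hH : PicF.IsInvertible H)
    (hd : topologicalKrullDim W ≤ (e : WithBot ℕ∞)) (hq : 0 < q) : ∀ {n j : ℕ}, n + j ≤ e →
    (mixedSym k L H p q e n j : ℝ) =
      (q : ℝ) ^ n * mixedFun (fun i => (sym k (List.replicate i H ++ List.replicate (e - i) L) : ℝ)) n j ((p : ℝ) / q)
  | 0, j, _ => by rw [mixedSym_zero]; simp [mixedFun]
  | n + 1, j, hn => by
    rw [mixedSym_succ k hL hH hd (by omega), mixedFun]
    push_cast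
    rw [mixedSym_eq_mixedFun hL hH hd hq (n := n) (j := j) (by omega),
      mixedSym_eq_mixedFun hL hH hd hq (n := n) (j := j + 1) (by omega)]
    have : (q : ℝ) ≠ 0 := by exact_mod_cast hq.ne'
    field_simp
    ring

theorem mixedSym_map {Z : Scheme.{u}} [Z.Over (Spec (CommRingCat.of k))] [IsProper (Z ↘ Spec (CommRingCat.of k))]
    (j : Z ⟶ W) (L H : W.Modules) (p q : ℕ) (n i r : ℕ) :
    sym k ((List.replicate n (mixed L H p q) ++ (List.replicate i H ++ List.replicate r L)).map
        (Scheme.Modules.pullback j).obj) =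
      mixedSym k ((Scheme.Modules.pullback j).obj L) ((Scheme.Modules.pullback j).obj H) p q (n + i + r) n i := by
  rw [mixedSym, show n + i + r - n - i = r by omega, List.map_append, List.map_append, List.map_replicate,
    List.map_replicate, List.map_replicate]
  refine IntNum47.iterD_congr (IntNum47.isoInv_euler k) (List.rel_append ?_ (List.forall₂_same.2 fun A _ => ⟨Iso.refl A⟩)) _
  refine List.forall₂_iff_get.2 ⟨by simp, fun a h₁ h₂ => ?_⟩
  simp only [List.get_eq_getElem, List.getElem_replicate]
  obtain ⟨e₁⟩ := nonempty_pullback_tensorPow j L q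
  obtain ⟨e₂⟩ := nonempty_pullback_tensorPow j H p
  obtain ⟨e₀⟩ := H23.PicMul.pull j (CohB1.tensorPow L q) (CohB1.tensorPow H p)
  exact ⟨e₀ ≪≫ PicGrp.tensorModIso e₁ e₂⟩

include k in
/-- A closed subscheme of the same dimension of an integral scheme is everything. -/
theorem range_eq_univ [IsIntegral W] {Z : Scheme.{u}} (j : Z ⟶ W) [IsClosedImmersion j] {e : ℕ}
    (hW : topologicalKrullDim W = (e : WithBot ℕ∞)) (hZ : topologicalKrullDim Z = (e : WithBot ℕ∞)) :
    Set.range j = Set.univ := by
  haveI := CurveCohLib.isNoetherian_of_proper (k := k) (X := W)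
  by_contra hr
  have h := H23.TopDim.dim_lt_of_ssubset (X := ↥W)
    (by rw [hW]; exact WithBot.coe_injective.ne (a₁ := (e : ℕ∞)) (a₂ := ⊤) (ENat.natCast_ne_top _))
    j.isClosedEmbedding.isClosed_range hr
  rw [dim_range (X := W) j, hZ, hW] at h
  exact lt_irrefl _ h

theorem natCast_le_of_dim {Z : Scheme.{u}} (j : Z ⟶ W) [IsClosedImmersion j] {e e' : ℕ}
    (hW : topologicalKrullDim W = (e : WithBot ℕ∞)) (hZ : topologicalKrullDim Z = (e' : WithBot ℕ∞)) : e' ≤ e := by
  have h := (dim_range (X := W) j).symm.trans_le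
    ((H23.TopDim.dim_le_dim_of_subset (Set.subset_univ _)).trans (VanGrowth.dim_univ (X := W)).le)
  rw [hZ, hW] at h
  exact_mod_cast h

/-- Symbols of a nef and an ample module on a projective variety are nonnegative. -/
theorem sym_nef_nonneg : ∀ (e : ℕ) {W : Scheme.{u}} [W.Over (Spec (CommRingCat.of k))]
    [IsProper (W ↘ Spec (CommRingCat.of k))] [IsIntegral W],
    topologicalKrullDim W = (e : WithBot ℕ∞) → ∀ {L H : W.Modules}, PicF.IsInvertible L → NefOn k L →
      CohB1.IsAmple H → ∀ i ≤ e, 0 ≤ sym k (List.replicate i H ++ List.replicate (e - i) L) := by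
  intro e
  induction e using Nat.strong_induction_on with
  | _ e IH =>
    intro W _ _ _ hW L H hL hnef hH
    haveI : AlgebraicGeometry.IsNoetherian W := CurveCohLib.isNoetherian_of_proper (k := k) (X := W)
    haveI : CompactSpace W := QuasiCompact.compactSpace_of_compactSpace (W ↘ Spec (CommRingCat.of k))
    have hO : Coh.IsCoh (Coh.structureModule W) := QCoh.isCoh_structureModule'
    have hds : topologicalKrullDim ↥(CohB1.support (Coh.structureModule W)) = (e : WithBot ℕ∞) := by
      rw [VanGrowth.support_structureModule, VanGrowth.dim_univ, hW]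
    have hposT : 0 < sym k (List.replicate e H) :=
      (HilbPoly.mult_nonneg_and_pos k hH e _ hO hds.le).2 hds
    have hinv : ∀ {i r : ℕ}, ∀ B ∈ List.replicate i H ++ List.replicate r L, PicF.IsInvertible B := by
      intro i r B hB
      rcases List.mem_append.1 hB with hB | hB
      · exact List.eq_of_mem_replicate hB ▸ hH.1
      · exact List.eq_of_mem_replicate hB ▸ hL
    -- mixed symbols on proper subvarieties
    have hsub : ∀ (Z : Scheme.{u}) (j : Z ⟶ W), IsClosedImmersion j → IsIntegral Z → ∀ e' < e,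
        topologicalKrullDim Z = (e' : WithBot ℕ∞) → ∀ (p q n i : ℕ), n + i ≤ e' →
          0 ≤ iterD (List.replicate n (mixed L H p q) ++ (List.replicate i H ++ List.replicate (e' - n - i) L))
            (Curv2.euler k W) ((Coh.push j).obj (Coh.structureModule Z)) ∧
          (n = e' → 0 < p → 0 < iterD (List.replicate e' (mixed L H p q)) (Curv2.euler k W)
            ((Coh.push j).obj (Coh.structureModule Z))) := by
      intro Z j hj hZ e' he' hdZ p q n i hni
      haveI := hj
      haveI := hZ
      letI : Z.Over (Spec (CommRingCat.of k)) := ⟨j ≫ (W ↘ Spec (CommRingCat.of k))⟩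
      haveI : IsProper (Z ↘ Spec (CommRingCat.of k)) := isProper_sub j k
      haveI : AlgebraicGeometry.IsNoetherian Z := CurveCohLib.isNoetherian_of_proper (k := k) (X := Z)
      haveI : CompactSpace Z := j.isClosedEmbedding.compactSpace
      have hLZ := PicClLib.isInvertible_pullback j hL
      have hHZ := AmpleVan.isAmple_pullback_of_isEmbedding j j.isClosedEmbedding.isEmbedding hH
      have hall : ∀ a, 0 ≤ a → a ≤ e' → 0 ≤ mixedSym k ((Scheme.Modules.pullback j).obj L)
          ((Scheme.Modules.pullback j).obj H) p q e' 0 a := fun a _ ha => by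
        rw [mixedSym_zero]
        exact IH e' he' hdZ hLZ (nefOn_restrict k j rfl hL hnef) hHZ a ha
      have hMinv : PicF.IsInvertible (mixed L H p q) :=
        InvX.isInvertible_tensorMod (InvX.isInvertible_tensorPow hL q) (InvX.isInvertible_tensorPow hH.1 p)
      have hinv' : ∀ {n i r : ℕ}, ∀ B ∈ List.replicate n (mixed L H p q) ++ (List.replicate i H ++ List.replicate r L),
          PicF.IsInvertible B := by
        intro n i r B hB
        rcases List.mem_append.1 hB with hB | hB
        · exact List.eq_of_mem_replicate hB ▸ hMinv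
        · exact hinv B hB
      refine ⟨?_, fun hn hp => ?_⟩
      · rw [sym_restrict k j rfl hinv', mixedSym_map, show n + i + (e' - n - i) = e' by omega]
        refine le_trans ?_ (mixedSym_lower k hLZ hHZ.1 hdZ.le hni fun a ha => hall a (Nat.zero_le a))
        exact mul_nonneg (by positivity) (hall _ (Nat.zero_le _) hni)
      · have h := mixedSym_lower k hLZ hHZ.1 hdZ.le (p := p) (q := q) (n := e') (j := 0) (by omega)
          fun a _ => hall a (Nat.zero_le a)
        have e0 : List.replicate e' (mixed L H p q) =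
            List.replicate e' (mixed L H p q) ++ (List.replicate 0 H ++ List.replicate 0 L) := by simp
        rw [e0, sym_restrict k j rfl hinv', mixedSym_map, show e' + 0 + 0 = e' by omega]
        refine lt_of_lt_of_le (mul_pos (by positivity) ?_) h
        rw [mixedSym_zero, Nat.add_zero, Nat.sub_self, List.replicate_zero, List.append_nil]
        have hdsZ : topologicalKrullDim ↥(CohB1.support (Coh.structureModule Z)) = (e' : WithBot ℕ∞) := by
          rw [VanGrowth.support_structureModule, VanGrowth.dim_univ, hdZ]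
        exact (HilbPoly.mult_nonneg_and_pos k hHZ e' _ QCoh.isCoh_structureModule' hdsZ.le).2 hdsZ
    intro i hi
    rcases Nat.eq_zero_or_pos i with rfl | hi0
    swap
    · obtain ⟨i', rfl⟩ : ∃ i', i = i' + 1 := ⟨i - 1, by omega⟩
      obtain ⟨e', rfl⟩ : ∃ e', e = e' + 1 := ⟨e - 1, by omega⟩
      have hlen : (List.replicate i' H ++ List.replicate (e' + 1 - (i' + 1)) L).length = e' := by simp; omega
      obtain ⟨m, C, hm, hC, hCd, hmC⟩ := exists_step_ample k hH
        (l := List.replicate i' H ++ List.replicate (e' + 1 - (i' + 1)) L) hinv (by rw [hlen, hW])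
      have hC0 : 0 ≤ iterD (List.replicate i' H ++ List.replicate (e' + 1 - (i' + 1)) L) (Curv2.euler k W) C := by
        refine iterD_nonneg_of_sub k hinv (fun Z j hj hZ hdZ => ?_) hC hCd
        rw [hlen] at hdZ
        have h := (hsub Z j hj hZ e' (by omega) hdZ 0 0 0 i' (by omega)).1
        rw [List.replicate_zero, List.nil_append, Nat.sub_zero] at h
        rwa [show e' + 1 - (i' + 1) = e' - i' by omega]
      rw [List.replicate_succ, List.cons_append]
      exact nonneg_of_mul_nonneg_right (hmC ▸ hC0) (by exact_mod_cast hm)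
    rw [List.replicate_zero, List.nil_append, Nat.sub_zero]
    rcases Nat.eq_zero_or_pos e with rfl | he
    · exact hposT.le
    rcases Nat.eq_or_lt_of_le (Nat.one_le_iff_ne_zero.2 he.ne') with rfl | he2
    · have h := hnef W (𝟙 W) inferInstance inferInstance (by rw [hW, Nat.cast_one])
      have hA : Additive (iterD [L] (Curv2.euler k W)) := additive_iterD (additive_euler k) (by simpa using hL)
      rw [hA.iso _ _ ⟨(Scheme.Modules.pushforwardId W).app (Coh.structureModule W)⟩] at h
      exact h
    let a : ℕ → ℝ := fun j => (sym k (List.replicate j H ++ List.replicate (e - j) L) : ℝ)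
    have hpos : ∀ j, 1 ≤ j → j ≤ e → 0 ≤ a j := fun j hj1 hje => by
      obtain ⟨i', rfl⟩ : ∃ i', j = i' + 1 := ⟨j - 1, by omega⟩
      obtain ⟨e', rfl⟩ : ∃ e', e = e' + 1 := ⟨e - 1, by omega⟩
      have hlen : (List.replicate i' H ++ List.replicate (e' + 1 - (i' + 1)) L).length = e' := by simp; omega
      obtain ⟨m, C, hm, hC, hCd, hmC⟩ := exists_step_ample k hH
        (l := List.replicate i' H ++ List.replicate (e' + 1 - (i' + 1)) L) hinv (by rw [hlen, hW])
      have hC0 : 0 ≤ iterD (List.replicate i' H ++ List.replicate (e' + 1 - (i' + 1)) L) (Curv2.euler k W) C := by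
        refine iterD_nonneg_of_sub k hinv (fun Z j hj hZ hdZ => ?_) hC hCd
        rw [hlen] at hdZ
        have h := (hsub Z j hj hZ e' (by omega) hdZ 0 0 0 i' (by omega)).1
        rw [List.replicate_zero, List.nil_append, Nat.sub_zero] at h
        rwa [show e' + 1 - (i' + 1) = e' - i' by omega]
      simp only [a]
      rw [List.replicate_succ, List.cons_append]
      exact Int.cast_nonneg (nonneg_of_mul_nonneg_right (hmC ▸ hC0) (by exact_mod_cast hm))
    suffices h0 : 0 ≤ a 0 by
      simp only [a, List.replicate_zero, List.nil_append, Nat.sub_zero] at h0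
      exact_mod_cast h0
    have hatop : 0 < a e := by
      simp only [a, Nat.sub_self, List.replicate_zero, List.append_nil]
      exact_mod_cast hposT
    refine nonneg_of_mixedFun a he hpos hatop fun r hr hPr => ?_
    let p := r.num.toNat
    let q := r.den
    have hp0 : 0 < p := by have := Rat.num_pos.2 hr; omega
    have hq : 0 < q := r.den_pos
    have hr' : (r : ℝ) = (p : ℝ) / q := by
      have hn : ((p : ℤ)) = r.num := Int.toNat_of_nonneg (Rat.num_pos.2 hr).le
      rw [show (p : ℝ) = ((p : ℤ) : ℝ) by push_cast; rfl, hn]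
      exact Rat.cast_def r
    have hkey : ∀ n j, n + j ≤ e → (mixedSym k L H p q e n j : ℝ) = (q : ℝ) ^ n * mixedFun a n j (r : ℝ) :=
      fun n j hnj => by rw [hr']; exact mixedSym_eq_mixedFun k hL hH.1 hW.le hq hnj
    have hMinv : PicF.IsInvertible (mixed L H p q) :=
      InvX.isInvertible_tensorMod (InvX.isInvertible_tensorPow hL q) (InvX.isInvertible_tensorPow hH.1 p)
    have hG : 0 < mixedSym k L H p q e e 0 := by
      have h : (0 : ℝ) < (mixedSym k L H p q e e 0 : ℝ) := by
        rw [hkey e 0 le_rfl]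
        positivity
      exact_mod_cast h
    -- the mixed module is ample
    have hM : CohB1.IsAmple (mixed L H p q) := by
      refine isAmple_of_posOn k hMinv fun Z j hj hZ e' he'0 hdZ => ?_
      haveI := hj
      haveI := hZ
      rcases (natCast_le_of_dim j hW hdZ).lt_or_eq with hlt | rfl
      · exact (hsub Z j hj hZ e' hlt hdZ p q e' 0 (by omega)).2 rfl hp0
      · have hr := range_eq_univ k j hW hdZ
        have hi1 : Set.range j = Set.range (𝟙 W : W ⟶ W) := by
          rw [hr]; exact (Set.range_eq_univ.2 fun w => ⟨w, rfl⟩).symm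
        obtain ⟨e₁⟩ := QCoh.push_structure_iso (𝟙 W) j hi1
        have hA : Additive (iterD (List.replicate e' (mixed L H p q)) (Curv2.euler k W)) :=
          additive_iterD (additive_euler k) fun B hB => List.eq_of_mem_replicate hB ▸ hMinv
        show 0 < iterD (List.replicate e' (mixed L H p q)) (Curv2.euler k W) _
        rw [hA.iso _ _ ⟨e₁ ≪≫ (Scheme.Modules.pushforwardId W).app (Coh.structureModule W)⟩]
        simp only [mixedSym, Nat.sub_self, List.replicate_zero, List.append_nil, Nat.zero_sub] at hG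
        exact hG
    -- so the mixed symbol with one `L` is nonnegative
    have hQ : 0 ≤ mixedSym k L H p q e (e - 1) 0 := by
      obtain ⟨e', rfl⟩ : ∃ e', e = e' + 2 := ⟨e - 2, by omega⟩
      have hl : ∀ B ∈ List.replicate e' (mixed L H p q) ++ (List.replicate 0 H ++ List.replicate 1 L),
          PicF.IsInvertible B := fun B hB => by
        rcases List.mem_append.1 hB with hB | hB
        · exact List.eq_of_mem_replicate hB ▸ hMinv
        · exact hinv B hB
      have hlen : (List.replicate e' (mixed L H p q) ++ (List.replicate 0 H ++ List.replicate 1 L)).length = e' + 1 := by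
        simp
      obtain ⟨m, C, hm, hC, hCd, hmC⟩ := exists_step_ample k hM hl (by rw [hlen, hW])
      have hC0 := iterD_nonneg_of_sub k hl (fun Z j hj hZ hdZ => by
        rw [hlen] at hdZ
        have h := (hsub Z j hj hZ (e' + 1) (by omega) hdZ p q e' 0 (by omega)).1
        rwa [show e' + 1 - e' - 0 = 1 by omega] at h) hC hCd
      rw [mixedSym, show e' + 2 - 1 = e' + 1 by omega, show e' + 2 - (e' + 1) - 0 = 1 by omega,
        List.replicate_succ, List.cons_append]
      exact nonneg_of_mul_nonneg_right (hmC ▸ hC0) (by exact_mod_cast hm)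
    obtain ⟨e', rfl⟩ : ∃ e', e = e' + 1 := ⟨e - 1, by omega⟩
    rw [Nat.add_sub_cancel] at hQ
    have h1 := hkey e' 0 (by omega)
    have h2 := mixedFun_lower a (t := (r : ℝ)) (by exact_mod_cast hr.le) (n := e') (j := 1) le_rfl hpos
    have hqpos : (0 : ℝ) < (q : ℝ) ^ e' := by positivity
    have h3 : 0 ≤ mixedFun a e' 0 (r : ℝ) := by
      have : (0 : ℝ) ≤ (q : ℝ) ^ e' * mixedFun a e' 0 (r : ℝ) := by rw [← h1]; exact_mod_cast hQ
      exact nonneg_of_mul_nonneg_right this hqpos
    show (r : ℝ) ^ (e' + 1) * a (e' + 1) ≤ mixedFun a e' 0 (r : ℝ) + (r : ℝ) * mixedFun a e' 1 (r : ℝ)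
    rw [pow_succ', mul_assoc]
    nlinarith [mul_le_mul_of_nonneg_left h2 (show (0 : ℝ) ≤ (r : ℝ) by exact_mod_cast hr.le)]

end Groth.Agent.VarBase
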