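import Groth.Agent.VarBase.AmpleComp
import Groth.Agent.Snapper.IsoOn
import Groth.Agent.QCoh.DevissageTheta
import Groth.Agent.FFun.Basic
import Groth.Agent.Lib.Euler
import Groth.Agent.VanGrowth.Bound

/-!
# Eventual vanishing for twists supported where the module is ample, and maps on cohomology
-/

set_option linter.style.haveILetI false
set_option linter.unusedSectionVars false
set_option backward.isDefEq.respectTransparency false
set_option backward.isDefEq.respectTransparency.types false

universe u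

open CategoryTheory CategoryTheory.Limits AlgebraicGeometry TopologicalSpace
open Groth.Agent.PnCoh.Finite (mapLin deltaLin)

noncomputable section

namespace Groth.Agent.VarBase

variable (A : Type u) [CommRing A] [IsNoetherianRing A] {X : Scheme.{u}} [X.Over (Spec (CommRingCat.of A))]
  [IsProper (X ↘ Spec (CommRingCat.of A))]

/-- High twists of every coherent module supported in `T` are acyclic. -/
def TwistVanOn (L : X.Modules) (T : Set X) : Prop :=
  ∀ M : X.Modules, Coh.IsCoh M → CohB1.support M ⊆ T →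
    ∃ N, ∀ n, N ≤ n → ∀ q, Subsingleton (Coh.HH X (CohB1.tensorMod M (CohB1.tensorPow L n)) (q + 1))

include A in
/-- Ampleness on the integral closed subschemes contained in `T` gives twist vanishing on `T`. -/
theorem twistVanOn_of_ample {L : X.Modules} (hL : PicF.IsInvertible L) {T : Set X}
    (h : ∀ (Z : Scheme.{u}) (i : Z ⟶ X), IsClosedImmersion i → IsIntegral Z → Set.range i ⊆ T →
      CohB1.IsAmple ((Scheme.Modules.pullback i).obj L)) : TwistVanOn L T := by
  haveI := isNoetherian_of_proper' A (X := X)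
  intro M hM hMT
  refine QCoh.devissage_ideals (fun M => Coh.IsCoh M →
    ∃ N, ∀ n, N ≤ n → ∀ q, Subsingleton (Coh.HH X (CohB1.tensorMod M (CohB1.tensorPow L n)) (q + 1)))
    ?_ ?_ T ?_ ?_ hM hMT hM
  · intro M N ⟨e⟩ hP hN
    obtain ⟨N₀, h0⟩ := hP (QCoh.isCoh_of_mono e.hom hN ((QCoh.isQCoh_iff_iso e).2 hN.1))
    exact ⟨N₀, fun n hn q => QCoh.subsingleton_HH_of_iso
      ((AmpleVan.tw (CohB1.tensorPow L n)).mapIso e) (q + 1) (h0 n hn q)⟩
  · intro M hz _
    refine ⟨0, fun n _ q => Euler.subsingleton_HH_of_isZero ?_ (q + 1)⟩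
    haveI := AmpleVan.isEquivalence_tw (InvX.isInvertible_tensorPow hL n)
    exact (AmpleVan.tw (CohB1.tensorPow L n)).map_isZero hz
  · intro S hS h₁ _ h₃ P₁ P₃ _
    obtain ⟨N₁, e₁⟩ := P₁ h₁
    obtain ⟨N₃, e₃⟩ := P₃ h₃
    refine ⟨max N₁ N₃, fun n hn q => ?_⟩
    haveI := AmpleVan.isEquivalence_tw (InvX.isInvertible_tensorPow hL n)
    exact QCoh.subsingleton_HH_X₂ (hS.map_of_exact (AmpleVan.tw (CohB1.tensorPow L n))) (q + 1)
      (e₁ n (le_trans (le_max_left _ _) hn) q) (e₃ n (le_trans (le_max_right _ _) hn) q)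
  · intro ξ hξ _ Z i _ _ hr I ι hι hI _ _
    haveI := hι
    letI : Z.Over (Spec (CommRingCat.of A)) := ⟨i ≫ (X ↘ Spec (CommRingCat.of A))⟩
    haveI : IsProper (Z ↘ Spec (CommRingCat.of A)) :=
      show IsProper (i ≫ (X ↘ Spec (CommRingCat.of A))) from inferInstance
    haveI := isNoetherian_of_proper' A (X := Z)
    have hIc : Coh.IsCoh I := QCoh.isCoh_of_mono ι QCoh.isCoh_structureModule' hI
    obtain ⟨N, hN⟩ := AmpleVan.exists_vanishing (A := A)
      (h Z i inferInstance inferInstance (hr ▸ hξ)) hIc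
    refine ⟨N, fun n hn q => ?_⟩
    obtain ⟨p⟩ := nonempty_proj i I (CohB1.tensorPow L n)
    obtain ⟨c⟩ := nonempty_pullback_tensorPow i L n
    have hq : Coh.IsQCoh (CohB1.tensorMod I (CohB1.tensorPow ((Scheme.Modules.pullback i).obj L) n)) :=
      (AmpleVan.isCoh_tensor hIc (AmpleVan.isCoh_invertible
        (InvX.isInvertible_tensorPow (PicClLib.isInvertible_pullback i hL) n))).1
    obtain ⟨ee⟩ := PnCoh.exists_linearEquiv_push A i rfl hq (q + 1)
    haveI := hN n hn q
    exact QCoh.subsingleton_HH_of_iso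
      (p ≪≫ (Coh.push i).mapIso (PicGrp.tensorModIso (Iso.refl I) c)).symm (q + 1) ee.symm.toEquiv.subsingleton

section Field

variable (k : Type u) [Field k] {X : Scheme.{u}} [X.Over (Spec (CommRingCat.of k))]

theorem surjective_mapLin_of_epi {S : ShortComplex X.Modules} (hS : S.ShortExact) {q : ℕ}
    (h : Subsingleton (Coh.HH X S.X₁ (q + 1))) : Function.Surjective (mapLin k S.g q) := fun x => by
  have hx : x ∈ LinearMap.ker (deltaLin k hS q) := LinearMap.mem_ker.2 (h.elim _ _)
  rw [← Euler.range_mapLin_g k hS q] at hx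
  exact hx

theorem injective_mapLin_g {S : ShortComplex X.Modules} (hS : S.ShortExact) {q : ℕ}
    (h : Subsingleton (Coh.HH X S.X₁ q)) : Function.Injective (mapLin k S.g q) := by
  rw [← LinearMap.ker_eq_bot, ← Euler.range_mapLin_f k hS q, eq_bot_iff]
  rintro _ ⟨y, rfl⟩
  rw [h.elim y 0, map_zero]
  exact Submodule.zero_mem _

theorem surjective_mapLin_f {S : ShortComplex X.Modules} (hS : S.ShortExact) {q : ℕ}
    (h : Subsingleton (Coh.HH X S.X₃ q)) : Function.Surjective (mapLin k S.f q) := fun x => by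
  have hx : x ∈ LinearMap.ker (mapLin k S.g q) := LinearMap.mem_ker.2 (h.elim _ _)
  rw [← Euler.range_mapLin_f k hS q] at hx
  exact hx

theorem injective_mapLin_f {S : ShortComplex X.Modules} (hS : S.ShortExact) {q : ℕ}
    (h : Subsingleton (Coh.HH X S.X₃ q)) : Function.Injective (mapLin k S.f (q + 1)) := by
  rw [← LinearMap.ker_eq_bot, ← Euler.range_deltaLin k hS q, eq_bot_iff]
  rintro _ ⟨y, rfl⟩
  rw [h.elim y 0, map_zero]
  exact Submodule.zero_mem _

/-- A map with acyclic kernel and cokernel: surjective on `H^q`, `q ≥ 1`, bijective for `q ≥ 2`. -/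
theorem mapLin_twist {A B : X.Modules} (φ : A ⟶ B) (F : X.Modules ⥤ X.Modules) [F.Additive]
    [PreservesFiniteLimits F] [PreservesFiniteColimits F]
    (hK : ∀ q, Subsingleton (Coh.HH X (F.obj (kernel φ)) (q + 1)))
    (hC : ∀ q, Subsingleton (Coh.HH X (F.obj (cokernel φ)) (q + 1))) (q : ℕ) :
    Function.Surjective (mapLin k (F.map φ) (q + 1)) ∧ Function.Bijective (mapLin k (F.map φ) (q + 2)) := by
  have h₁ : (ShortComplex.mk (kernel.ι φ) (Abelian.factorThruImage φ)
      ((cancel_mono (Abelian.image.ι φ)).1 (by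
        rw [Category.assoc, Abelian.image.fac, kernel.condition, zero_comp]))).ShortExact :=
    { exact := ShortComplex.exact_of_f_is_kernel _ (KernelFork.IsLimit.ofι' _ _ fun {T} t ht =>
        ⟨kernel.lift φ t (by rw [← Abelian.image.fac φ, reassoc_of% ht, zero_comp]), kernel.lift_ι _ _ _⟩)
      mono_f := inferInstance
      epi_g := inferInstance }
  have h₂ : (ShortComplex.mk (Abelian.image.ι φ) (cokernel.π φ) (kernel.condition _)).ShortExact :=
    { exact := ShortComplex.exact_of_f_is_kernel _ (kernelIsKernel (cokernel.π φ))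
      mono_f := inferInstance
      epi_g := inferInstance }
  have hφ : F.map φ = F.map (Abelian.factorThruImage φ) ≫ F.map (Abelian.image.ι φ) := by
    rw [← F.map_comp, Abelian.image.fac]
  have hfun : ∀ p, (mapLin k (F.map φ) p : _ → _) =
      mapLin k (F.map (Abelian.image.ι φ)) p ∘ mapLin k (F.map (Abelian.factorThruImage φ)) p := fun p =>
    funext fun x => by
      rw [Function.comp_apply, FFun.mapLin_comp]
      exact FFun.mapLin_congr (A := k) hφ p x
  refine ⟨?_, ?_⟩
  · rw [hfun]
    exact (surjective_mapLin_f k (h₂.map_of_exact F) (hC q)).comp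
      (surjective_mapLin_of_epi k (h₁.map_of_exact F) (hK (q + 1)))
  · rw [hfun]
    exact Function.Bijective.comp
      ⟨injective_mapLin_f k (h₂.map_of_exact F) (q := q + 1) (hC q),
        surjective_mapLin_f k (h₂.map_of_exact F) (hC (q + 1))⟩
      ⟨injective_mapLin_g k (h₁.map_of_exact F) (hK (q + 1)),
        surjective_mapLin_of_epi k (h₁.map_of_exact F) (hK (q + 2))⟩

/-- A map of modules twisted by a high power: isomorphism on high cohomology if it is one off `T`. -/
theorem exists_mapLin_bijective [IsProper (X ↘ Spec (CommRingCat.of k))] {L : X.Modules}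
    (hL : PicF.IsInvertible L) {T : Set X} (hT : TwistVanOn L T)
    {U : X.Opens} (hU : (U : Set X)ᶜ ⊆ T) {A B : X.Modules} (hA : Coh.IsCoh A) (hB : Coh.IsCoh B)
    (φ : A ⟶ B) (hφ : Snapper.IsoOn U φ) :
    ∃ N, ∀ n, N ≤ n → ∀ q, Function.Surjective (mapLin k ((AmpleVan.tw (CohB1.tensorPow L n)).map φ) (q + 1)) ∧
      Function.Bijective (mapLin k ((AmpleVan.tw (CohB1.tensorPow L n)).map φ) (q + 2)) := by
  haveI := CurveCohLib.isNoetherian_of_proper (k := k) (X := X)
  obtain ⟨hk, hc⟩ := Snapper.support_subset_compl hφ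
  obtain ⟨N₁, e₁⟩ := hT _ (QCoh.isCoh_kernel hA hB φ) (hk.trans hU)
  obtain ⟨N₂, e₂⟩ := hT _ (QCoh.isCoh_cokernel hA.1 hB φ) (hc.trans hU)
  refine ⟨max N₁ N₂, fun n hn q => ?_⟩
  haveI := AmpleVan.isEquivalence_tw (InvX.isInvertible_tensorPow hL n)
  haveI : (AmpleVan.tw (CohB1.tensorPow L n)).Additive := Functor.additive_of_preserves_binary_products _
  exact mapLin_twist k φ (AmpleVan.tw (CohB1.tensorPow L n))
    (e₁ n (le_trans (le_max_left _ _) hn)) (e₂ n (le_trans (le_max_right _ _) hn)) q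

end Field

end Groth.Agent.VarBase
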